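import Cfsg.Agent.H21.BRDefs
import Cfsg.Agent.H21.BRSplit
import Cfsg.Agent.H4.IrrCount
import Cfsg.Agent.H81.Reg

/-!
# helper16: S0999 piece COL -- column orthogonality facts for the principal block data
-/

set_option autoImplicit false

namespace Cfsg.Agent.H16.BR

open Cfsg Cfsg.Agent.H21.BR
open scoped ComplexConjugate

/-- Splitting a sum over all irreducible characters along `X ⊔ Y ⊔ Z`. -/
theorem sum_three {G : Type*} [Group G] [Finite G] {p : ℕ} {P : Subgroup G} {e : ℕ}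
    {X Y : Finset (IrrCharacter G)} {δ : IrrCharacter G → ℤ} {ε : ℤ}
    (h : B0Data p P e X Y δ ε) (Z : Finset (IrrCharacter G))
    (hZ : ∀ ψ, ψ ∈ Z ↔ ψ ∉ X ∧ ψ ∉ Y) {M : Type*} [AddCommMonoid M]
    (F : IrrCharacter G → M) :
    ∑ᶠ ψ : IrrCharacter G, F ψ = ∑ χ ∈ X, F χ + ∑ θ ∈ Y, F θ + ∑ ψ ∈ Z, F ψ := by
  rw [sum_split h Z hZ F, sum_X_split h F]

theorem irr_one_cast {G : Type*} [Group G] (χ : IrrCharacter G) :
    (χ : G → ℂ) 1 = (charDegree (χ : G → ℂ) : ℂ) := (Cfsg.Agent.H81.irr_charDegree χ).1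

theorem irr_deg_pos {G : Type*} [Group G] (χ : IrrCharacter G) :
    0 < charDegree (χ : G → ℂ) := (Cfsg.Agent.H81.irr_charDegree χ).2

/-- The number of elements conjugating `x` to itself, for `1 ≠ x ∈ P`, `|P| = p`, `C(P) = P`. -/
theorem card_conj_self {G : Type*} [Group G] [Finite G] (p : ℕ) [Fact p.Prime]
    (P : Subgroup G) (hP : Nat.card P = p)
    (hC : Subgroup.centralizer (P : Set G) = P) (x : G) (hx : x ∈ P) (hx1 : x ≠ 1) :
    Nat.card {c : G // c * x * c⁻¹ = x} = p := by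
  have hp : p.Prime := Fact.out
  have hzp : Subgroup.zpowers x = P := by
    apply Subgroup.eq_of_le_of_card_ge (Subgroup.zpowers_le.mpr hx)
    rw [Nat.card_zpowers, hP]
    have h1 : orderOf x ∣ p := by
      have h2 : orderOf (⟨x, hx⟩ : P) ∣ Nat.card P := orderOf_dvd_natCard _
      rw [hP] at h2
      rwa [← Subgroup.orderOf_coe] at h2
    rcases (Nat.dvd_prime hp).mp h1 with h3 | h3
    · exact absurd (orderOf_eq_one_iff.mp h3) hx1
    · rw [h3]
  rw [← hP]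
  apply Nat.card_congr
  refine Equiv.subtypeEquivRight (fun c => ?_)
  constructor
  · intro hc
    rw [← hC, Subgroup.mem_centralizer_iff]
    intro y hy
    rw [SetLike.mem_coe, ← hzp] at hy
    obtain ⟨k, rfl⟩ := Subgroup.mem_zpowers_iff.mp hy
    have hcx : Commute c x := mul_inv_eq_iff_eq_mul.mp hc
    exact ((hcx.zpow_right k).eq).symm
  · intro hc
    rw [← hC, Subgroup.mem_centralizer_iff] at hc
    have := hc x hx
    rw [mul_inv_eq_iff_eq_mul]
    exact this.symm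

/-- **S0999, piece COL.** -/
theorem col_facts {G : Type*} [Group G] [Finite G] (p : ℕ) [Fact p.Prime]
    (P : Sylow p G) (hP : Nat.card (P : Subgroup G) = p)
    (hC : Subgroup.centralizer ((P : Subgroup G) : Set G) = (P : Subgroup G)) (e : ℕ)
    (X Y : Finset (IrrCharacter G)) (δ : IrrCharacter G → ℤ) (ε : ℤ)
    (h : B0Data p (P : Subgroup G) e X Y δ ε) :
    ∃ f0 : ℕ, (∀ θ ∈ Y, charDegree (θ : G → ℂ) = f0) ∧
      ε * (f0 : ℤ) = ∑ χ ∈ X, δ χ * (charDegree (χ : G → ℂ) : ℤ) ∧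
      (∀ x ∈ (P : Subgroup G), x ≠ 1 → ∑ θ ∈ Y, (θ : G → ℂ) x = -(ε : ℂ)) ∧
      (∀ x ∈ (P : Subgroup G), x ≠ 1 →
        ∑ θ ∈ Y, (θ : G → ℂ) x * conj ((θ : G → ℂ) x) = (p : ℂ) - (e : ℂ)) := by
  classical
  haveI : Fintype G := Fintype.ofFinite G
  have hp : p.Prime := Fact.out
  have hYne : Y.Nonempty := by
    rw [Finset.nonempty_iff_ne_empty]
    intro h0
    have h1 := h.cardY
    rw [h0, Finset.card_empty, zero_mul] at h1
    have := hp.two_le
    omega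
  obtain ⟨θ0, hθ0⟩ := hYne
  have hord1 : ¬ p ∣ orderOf (1 : G) := by
    rw [orderOf_one]
    exact hp.one_lt.ne' ∘ Nat.dvd_one.mp
  have hdegY : ∀ θ ∈ Y, charDegree (θ : G → ℂ) = charDegree (θ0 : G → ℂ) := by
    intro θ hθ
    have h1 := h.agree_Y θ hθ θ0 hθ0 1 hord1
    rw [irr_one_cast, irr_one_cast] at h1
    exact_mod_cast h1
  have hrel : ε * (charDegree (θ0 : G → ℂ) : ℤ) =
      ∑ χ ∈ X, δ χ * (charDegree (χ : G → ℂ) : ℤ) := by
    have h1 := h.rel θ0 hθ0 1 hord1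
    rw [irr_one_cast] at h1
    have h2 : ∑ χ ∈ X, (δ χ : ℂ) * (χ : G → ℂ) 1 =
        ∑ χ ∈ X, (δ χ : ℂ) * (charDegree (χ : G → ℂ) : ℂ) :=
      Finset.sum_congr rfl (fun χ _ => by rw [irr_one_cast])
    rw [h2] at h1
    exact_mod_cast h1
  obtain ⟨Z, hZ⟩ := exists_out X Y
  have hf0 : (charDegree (θ0 : G → ℂ) : ℂ) ≠ 0 := by
    exact_mod_cast (irr_deg_pos θ0).ne'
  refine ⟨charDegree (θ0 : G → ℂ), hdegY, hrel, ?_, ?_⟩
  · intro x hx hx1
    have hcol := Cfsg.Agent.H4.column_orthogonality x (1 : G)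
    have hempty : Nat.card {c : G // c * x * c⁻¹ = 1} = 0 := by
      rw [Nat.card_eq_zero]
      left
      constructor
      rintro ⟨c, hc⟩
      apply hx1
      have : x = c⁻¹ * 1 * c := by rw [← hc]; group
      rw [this]; group
    rw [hempty, sum_three h Z hZ] at hcol
    have hXs : ∑ χ ∈ X, (χ : G → ℂ) x * conj ((χ : G → ℂ) 1) =
        ((ε * (charDegree (θ0 : G → ℂ) : ℤ) : ℤ) : ℂ) := by
      rw [hrel, Int.cast_sum]
      apply Finset.sum_congr rfl
      intro χ hχ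
      rw [h.val_X χ hχ x hx hx1, irr_one_cast, Complex.conj_natCast]
      push_cast
      ring
    have hYs : ∑ θ ∈ Y, (θ : G → ℂ) x * conj ((θ : G → ℂ) 1) =
        (charDegree (θ0 : G → ℂ) : ℂ) * ∑ θ ∈ Y, (θ : G → ℂ) x := by
      rw [Finset.mul_sum]
      apply Finset.sum_congr rfl
      intro θ hθ
      rw [irr_one_cast, Complex.conj_natCast, hdegY θ hθ]
      ring
    have hZs : ∑ ψ ∈ Z, (ψ : G → ℂ) x * conj ((ψ : G → ℂ) 1) = 0 := by
      apply Finset.sum_eq_zero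
      intro ψ hψ
      rw [h.out_van ψ ((hZ ψ).mp hψ).1 ((hZ ψ).mp hψ).2 x hx hx1, zero_mul]
    rw [hXs, hYs, hZs] at hcol
    push_cast at hcol
    have h3 : (charDegree (θ0 : G → ℂ) : ℂ) * ((ε : ℂ) + ∑ θ ∈ Y, (θ : G → ℂ) x) = 0 := by
      linear_combination hcol
    rcases mul_eq_zero.mp h3 with h4 | h4
    · exact absurd h4 hf0
    · linear_combination h4
  · intro x hx hx1
    have hcol := Cfsg.Agent.H4.column_orthogonality x x
    rw [card_conj_self p (P : Subgroup G) hP hC x hx hx1, sum_three h Z hZ] at hcol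
    have hXs : ∑ χ ∈ X, (χ : G → ℂ) x * conj ((χ : G → ℂ) x) = (e : ℂ) := by
      rw [← h.cardX, Finset.card_eq_sum_ones, Nat.cast_sum]
      apply Finset.sum_congr rfl
      intro χ hχ
      rw [h.val_X χ hχ x hx hx1, map_intCast]
      rcases h.δ_pm χ hχ with h1 | h1 <;> rw [h1] <;> norm_num
    have hZs : ∑ ψ ∈ Z, (ψ : G → ℂ) x * conj ((ψ : G → ℂ) x) = 0 := by
      apply Finset.sum_eq_zero
      intro ψ hψ
      rw [h.out_van ψ ((hZ ψ).mp hψ).1 ((hZ ψ).mp hψ).2 x hx hx1, zero_mul]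
    rw [hXs, hZs] at hcol
    linear_combination hcol

end Cfsg.Agent.H16.BR
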