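import Mathlib

/-!
# helper16: S0999 piece N1A -- `PGL_2(p)`, `p` odd, is not simple
-/

set_option autoImplicit false

namespace Cfsg.Agent.H16.BR

/-- **S0999, piece N1A.** -/
theorem not_simple_pgl {G : Type*} [Group G] [IsSimpleGroup G] (hna : ∃ a b : G, a * b ≠ b * a)
    (p : ℕ) [Fact p.Prime] (hp2 : p ≠ 2)
    (f : G ≃* Matrix.ProjGenLinGroup (Fin 2) (ZMod p)) : False := by
  have hp : p.Prime := Fact.out
  have hp3 : 3 ≤ p := by
    have := hp.two_le
    omega
  have hodd : 2 * ((p - 1) / 2) = p - 1 := by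
    rcases hp.eq_two_or_odd with h | h
    · exact absurd h hp2
    · omega
  let χ : GL (Fin 2) (ZMod p) →* (ZMod p)ˣ :=
    (powMonoidHom ((p - 1) / 2)).comp Matrix.GeneralLinearGroup.det
  have hχ : ∀ A, χ A = (Matrix.GeneralLinearGroup.det A) ^ ((p - 1) / 2) := fun _ => rfl
  have hcen : ∀ z ∈ Subgroup.center (GL (Fin 2) (ZMod p)), χ z = 1 := by
    intro z hz
    rw [Matrix.GeneralLinearGroup.center_eq_range_scalar] at hz
    obtain ⟨u, rfl⟩ := hz
    rw [hχ, Matrix.GeneralLinearGroup.det_scalar, Fintype.card_fin, ← pow_mul, hodd]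
    exact ZMod.units_pow_card_sub_one_eq_one p u
  let χ' : Matrix.ProjGenLinGroup (Fin 2) (ZMod p) →* (ZMod p)ˣ :=
    QuotientGroup.lift (Subgroup.center (GL (Fin 2) (ZMod p))) χ hcen
  have hχ' : ∀ A : GL (Fin 2) (ZMod p), χ' (Matrix.ProjGenLinGroup.mk A) = χ A := fun _ => rfl
  -- a nontrivial value
  obtain ⟨g, hg⟩ := IsCyclic.exists_generator (α := (ZMod p)ˣ)
  have hord : orderOf g = p - 1 := by
    rw [orderOf_eq_card_of_forall_mem_zpowers hg, Nat.card_eq_fintype_card, ZMod.card_units]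
  have hgne : g ^ ((p - 1) / 2) ≠ 1 := by
    intro h
    have h1 := orderOf_dvd_of_pow_eq_one h
    rw [hord] at h1
    have h2 := Nat.le_of_dvd (by omega) h1
    omega
  have hdet : (Matrix.diagonal ![(g : ZMod p), 1]).det ≠ 0 := by
    rw [Matrix.det_diagonal, Fin.prod_univ_two]
    simp
  have hU : χ (Matrix.GeneralLinearGroup.mkOfDetNeZero (Matrix.diagonal ![(g : ZMod p), 1]) hdet)
      ≠ 1 := by
    rw [hχ]
    have h1 : Matrix.GeneralLinearGroup.det
        (Matrix.GeneralLinearGroup.mkOfDetNeZero (Matrix.diagonal ![(g : ZMod p), 1]) hdet) = g := by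
      apply Units.ext
      rw [Matrix.GeneralLinearGroup.val_det_apply]
      show (Matrix.diagonal ![(g : ZMod p), 1]).det = g
      rw [Matrix.det_diagonal, Fin.prod_univ_two]
      simp
    rw [h1]
    exact hgne
  -- the kernel of the composite is a proper nontrivial normal subgroup
  let ψ : G →* (ZMod p)ˣ := χ'.comp f.toMonoidHom
  rcases (inferInstance : ψ.ker.Normal).eq_bot_or_eq_top with h | h
  · obtain ⟨a, b, hab⟩ := hna
    apply hab
    have hinj : Function.Injective ψ := (MonoidHom.ker_eq_bot_iff ψ).mp h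
    apply hinj
    rw [map_mul, map_mul, mul_comm]
  · apply hU
    obtain ⟨x, hx⟩ := f.surjective (Matrix.ProjGenLinGroup.mk
      (Matrix.GeneralLinearGroup.mkOfDetNeZero (Matrix.diagonal ![(g : ZMod p), 1]) hdet))
    have hx1 : ψ x = 1 := by
      have : x ∈ ψ.ker := by rw [h]; exact Subgroup.mem_top x
      exact MonoidHom.mem_ker.mp this
    have hx2 : ψ x = χ' (f x) := rfl
    rw [hx2, hx, hχ'] at hx1
    exact hx1

end Cfsg.Agent.H16.BR
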