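import Mathlib
import Cfsg.Prelude.Def_Perm

/-!
# helper16: S0999 piece N1B -- no non-abelian simple group embeds in the semi-affine group
`AΓL(1, F)` of a finite field
-/

set_option autoImplicit false

namespace Cfsg.Agent.H16.BR

open scoped commutatorElement

section

variable {F : Type*} [Field F]

/-- Ring automorphisms of a finite field commute. -/
theorem ringAut_comm [Finite F] (φ ψ : F ≃+* F) (x : F) : φ (ψ x) = ψ (φ x) := by
  by_cases hx : x = 0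
  · subst hx; simp
  obtain ⟨g, hg⟩ := IsCyclic.exists_generator (α := Fˣ)
  have hφ : ∀ (θ : F ≃+* F), ∃ k : ℤ, ∀ i : ℤ,
      θ ((g ^ i : Fˣ) : F) = ((g ^ (k * i) : Fˣ) : F) := by
    intro θ
    obtain ⟨k, hk⟩ := Subgroup.mem_zpowers_iff.mp (hg (Units.map (θ : F →* F) g))
    refine ⟨k, fun i => ?_⟩
    have h1 : Units.map (θ : F →* F) (g ^ i) = g ^ (k * i) := by
      rw [map_zpow, ← hk, ← zpow_mul]
    have h2 := congrArg Units.val h1
    simpa using h2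
  obtain ⟨k, hk⟩ := hφ φ
  obtain ⟨l, hl⟩ := hφ ψ
  obtain ⟨i, hi⟩ := Subgroup.mem_zpowers_iff.mp (hg (Units.mk0 x hx))
  have hx' : x = ((g ^ i : Fˣ) : F) := by rw [hi]; rfl
  rw [hx', hl, hk, hk, hl]
  congr 2
  ring

/-- The translations `x ↦ x + b`. -/
def transl (F : Type*) [Field F] : Subgroup (Equiv.Perm F) where
  carrier := {σ | ∃ b : F, ∀ x, σ x = x + b}
  one_mem' := ⟨0, fun x => by simp⟩
  mul_mem' := by
    rintro σ τ ⟨b, hσ⟩ ⟨d, hτ⟩
    exact ⟨d + b, fun x => by rw [Equiv.Perm.mul_apply, hτ, hσ, add_assoc]⟩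
  inv_mem' := by
    rintro σ ⟨b, hσ⟩
    refine ⟨-b, fun x => ?_⟩
    apply σ.injective
    rw [Equiv.Perm.inv_def, Equiv.apply_symm_apply, hσ, neg_add_cancel_right]

theorem mul_inv_apply_of_forms (α β : Equiv.Perm F) (θ : F → F) (e1 f1 e2 f2 : F) (he2 : e2 ≠ 0)
    (hα : ∀ x, α x = e1 * θ x + f1) (hβ : ∀ x, β x = e2 * θ x + f2) (y : F) :
    (α * β⁻¹) y = e1 * e2⁻¹ * (y - f2) + f1 := by
  rw [Equiv.Perm.mul_apply, hα]
  have h := hβ (β⁻¹ y)
  rw [Equiv.Perm.inv_def, Equiv.apply_symm_apply] at h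
  rw [Equiv.Perm.inv_def]
  have h0 : e2 * θ (β.symm y) = y - f2 := by
    rw [eq_sub_iff_add_eq]; exact h.symm
  have h1 : θ (β.symm y) = e2⁻¹ * (y - f2) := by
    rw [← h0, ← mul_assoc, inv_mul_cancel₀ he2, one_mul]
  rw [h1]; ring

theorem comm_eq_mul_inv {G : Type*} [Group G] (σ τ : G) : ⁅σ, τ⁆ = (σ * τ) * (τ * σ)⁻¹ := by
  rw [commutatorElement_def]; group

theorem comm_mem_affine [Finite F] (σ τ : Equiv.Perm F) (hσ : σ ∈ Cfsg.semiaffineGroup F)
    (hτ : τ ∈ Cfsg.semiaffineGroup F) : ⁅σ, τ⁆ ∈ Cfsg.affineGroup F := by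
  obtain ⟨a, b, φ, hσ⟩ := hσ
  obtain ⟨c, d, ψ, hτ⟩ := hτ
  have h1 : ∀ x, (σ * τ) x = ((a : F) * φ c) * (φ (ψ x)) + (a * φ d + b) := by
    intro x
    rw [Equiv.Perm.mul_apply, hτ, hσ, map_add, map_mul]; ring
  have h2 : ∀ x, (τ * σ) x = ((c : F) * ψ a) * (φ (ψ x)) + (c * ψ b + d) := by
    intro x
    rw [Equiv.Perm.mul_apply, hσ, hτ, map_add, map_mul, ringAut_comm φ ψ x]; ring
  have he2 : (c : F) * ψ a ≠ 0 := mul_ne_zero c.ne_zero ((map_ne_zero ψ).mpr a.ne_zero)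
  have he1 : (a : F) * φ c ≠ 0 := mul_ne_zero a.ne_zero ((map_ne_zero φ).mpr c.ne_zero)
  rw [comm_eq_mul_inv]
  refine ⟨Units.mk0 ((a : F) * φ c * ((c : F) * ψ a)⁻¹) (mul_ne_zero he1 (inv_ne_zero he2)),
    a * φ d + b - (a : F) * φ c * ((c : F) * ψ a)⁻¹ * (c * ψ b + d), fun y => ?_⟩
  rw [mul_inv_apply_of_forms _ _ _ _ _ _ _ he2 h1 h2, Units.val_mk0]; ring

theorem comm_mem_transl (σ τ : Equiv.Perm F) (hσ : σ ∈ Cfsg.affineGroup F)
    (hτ : τ ∈ Cfsg.affineGroup F) : ⁅σ, τ⁆ ∈ transl F := by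
  obtain ⟨a, b, hσ⟩ := hσ
  obtain ⟨c, d, hτ⟩ := hτ
  have h1 : ∀ x, (σ * τ) x = ((a : F) * c) * (fun x : F => x) x + (a * d + b) := by
    intro x
    rw [Equiv.Perm.mul_apply, hτ, hσ]; ring
  have h2 : ∀ x, (τ * σ) x = ((a : F) * c) * (fun x : F => x) x + (c * b + d) := by
    intro x
    rw [Equiv.Perm.mul_apply, hσ, hτ]; ring
  have he : (a : F) * c ≠ 0 := mul_ne_zero a.ne_zero c.ne_zero
  rw [comm_eq_mul_inv]
  refine ⟨(a * d + b) - (c * b + d), fun y => ?_⟩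
  rw [mul_inv_apply_of_forms _ _ _ _ _ _ _ he h1 h2, mul_inv_cancel₀ he]; ring

theorem comm_eq_one_of_transl (σ τ : Equiv.Perm F) (hσ : σ ∈ transl F) (hτ : τ ∈ transl F) :
    ⁅σ, τ⁆ = 1 := by
  obtain ⟨b, hσ⟩ := hσ
  obtain ⟨d, hτ⟩ := hτ
  rw [commutatorElement_eq_one_iff_mul_comm]
  ext x
  rw [Equiv.Perm.mul_apply, Equiv.Perm.mul_apply, hσ, hτ, hσ, hτ]; ring

end

theorem perfect_of_simple {K : Type*} [Group K] [IsSimpleGroup K]
    (hna : ∃ a b : K, a * b ≠ b * a) : commutator K = ⊤ := by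
  rcases (inferInstance : (commutator K).Normal).eq_bot_or_eq_top with h | h
  · exfalso
    obtain ⟨a, b, hab⟩ := hna
    apply hab
    rw [← commutatorElement_eq_one_iff_mul_comm]
    have h1 : ⁅a, b⁆ ∈ commutator K :=
      Subgroup.commutator_mem_commutator (Subgroup.mem_top a) (Subgroup.mem_top b)
    rw [h] at h1
    exact Subgroup.mem_bot.mp h1
  · exact h

theorem image_mem_of_comm {K G : Type*} [Group K] [Group G] (hperf : commutator K = ⊤)
    (f : K →* G) (B A : Subgroup G) (hB : ∀ k, f k ∈ B)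
    (hc : ∀ σ ∈ B, ∀ τ ∈ B, ⁅σ, τ⁆ ∈ A) : ∀ k, f k ∈ A := by
  have h1 : commutator K ≤ A.comap f := by
    rw [commutator_def, Subgroup.commutator_le]
    intro a _ b _
    rw [Subgroup.mem_comap, map_commutatorElement]
    exact hc _ (hB a) _ (hB b)
  intro k
  have h2 : k ∈ commutator K := by rw [hperf]; exact Subgroup.mem_top k
  exact h1 h2

/-- **S0999, piece N1B.** -/
theorem no_simple_in_semiaffine {F : Type*} [Field F] [Finite F] {K : Type*} [Group K]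
    [IsSimpleGroup K] (hna : ∃ a b : K, a * b ≠ b * a) (f : K →* Equiv.Perm F)
    (hf : Function.Injective f) (hmem : ∀ k, f k ∈ Cfsg.semiaffineGroup F) : False := by
  have hperf := perfect_of_simple hna
  have h1 := image_mem_of_comm hperf f _ (Cfsg.affineGroup F) hmem
    (fun σ hσ τ hτ => comm_mem_affine σ τ hσ hτ)
  have h2 := image_mem_of_comm hperf f _ (transl F) h1
    (fun σ hσ τ hτ => comm_mem_transl σ τ hσ hτ)
  have h3 := image_mem_of_comm hperf f _ ⊥ h2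
    (fun σ hσ τ hτ => by rw [Subgroup.mem_bot]; exact comm_eq_one_of_transl σ τ hσ hτ)
  obtain ⟨a, b, hab⟩ := hna
  apply hab
  have ha : a = 1 := hf (by rw [map_one]; exact Subgroup.mem_bot.mp (h3 a))
  rw [ha, one_mul, mul_one]

end Cfsg.Agent.H16.BR
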