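import Cfsg.Agent.H21.BRDefs
import Cfsg.Agent.H21.BRSplit
import Cfsg.Agent.H4.IrrCount
import Cfsg.Agent.H4.Chars
import Cfsg.Agent.H4.RealClasses
import Cfsg.Agent.H4.PaQb
import Cfsg.Agent.H81.Reg
import Cfsg.Agent.H16.BRCol

/-!
# helper16: S0999 piece TYPEA -- the degrees of "type A" are impossible
-/

set_option autoImplicit false

namespace Cfsg.Agent.H16.BR

open Cfsg Cfsg.Agent.H21.BR
open scoped ComplexConjugate

/-- Swapping the sum over a subgroup with the sum over the irreducible characters. -/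
theorem psum_swap {G : Type*} [Group G] [Finite G] (P : Subgroup G) (c : IrrCharacter G → ℂ) :
    ∑ᶠ x : ↥P, (∑ᶠ ψ : IrrCharacter G, c ψ * (ψ : G → ℂ) x) =
      ∑ᶠ ψ : IrrCharacter G, c ψ * ∑ᶠ x : ↥P, (ψ : G → ℂ) x := by
  classical
  haveI : Fintype P := Fintype.ofFinite P
  letI := Cfsg.Agent.H4.fintypeIrr G
  rw [finsum_eq_sum_of_fintype, Cfsg.Agent.H4.finsum_irr_eq_sum]
  have h1 : ∀ x : P, ∑ᶠ ψ : IrrCharacter G, c ψ * (ψ : G → ℂ) x =
      ∑ ψ : IrrCharacter G, c ψ * (ψ : G → ℂ) x :=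
    fun x => Cfsg.Agent.H4.finsum_irr_eq_sum _
  rw [Finset.sum_congr rfl (fun x _ => h1 x), Finset.sum_comm]
  apply Finset.sum_congr rfl
  intro ψ _
  rw [finsum_eq_sum_of_fintype, Finset.mul_sum]

/-- The sum of a character over a subgroup of order `p` is `p` times a natural number. -/
theorem psum_character_nat {G : Type*} [Group G] [Finite G] (P : Subgroup G) (p : ℕ)
    (hp : 0 < p) (hP : Nat.card P = p) (ψ : G → ℂ) (hψ : IsCharacter G ψ) :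
    ∃ w : ℕ, ∑ᶠ x : ↥P, ψ (x : G) = (p : ℂ) * (w : ℂ) := by
  classical
  haveI : Fintype P := Fintype.ofFinite P
  have h1 : IsCharacter P (fun h : P => ψ h) := Cfsg.Agent.H4.isCharacter_restrict P hψ
  have h2 : IsCharacter P (fun _ : P => (1 : ℂ)) :=
    Cfsg.Agent.H4.isCharacter_of_isIrrCharacter Cfsg.Agent.H4.isIrrCharacter_one
  obtain ⟨w, hw⟩ := Cfsg.Agent.H4.classInner_isCharacter_nat h1 h2
  refine ⟨w, ?_⟩
  rw [finsum_eq_sum_of_fintype, ← hw]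
  unfold classInner
  rw [hP]
  simp only [map_one, mul_one]
  rw [← mul_assoc, mul_inv_cancel₀ (by exact_mod_cast hp.ne'), one_mul]

/-- **S0999, piece TYPEA.** -/
theorem typeA_false {G : Type*} [Group G] [Finite G] (p : ℕ) [Fact p.Prime] (hp2 : p ≠ 2)
    (P : Sylow p G) (hP : Nat.card (P : Subgroup G) = p)
    (hC : Subgroup.centralizer ((P : Subgroup G) : Set G) = (P : Subgroup G))
    (e t : ℕ) (het : e * t = p - 1) (he2 : 2 ≤ e) (ht3 : 3 ≤ t)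
    (X Y : Finset (IrrCharacter G)) (δ : IrrCharacter G → ℤ) (ε : ℤ)
    (h : B0Data p (P : Subgroup G) e X Y δ ε)
    (hplus : ∀ χ ∈ plusSet X δ, charDegree (χ : G → ℂ) = t * (p - e))
    (hminus : ∀ χ ∈ minusSet X δ, charDegree (χ : G → ℂ) = p - 1)
    (hε : ε = 1) (hY : ∀ θ ∈ Y, charDegree (θ : G → ℂ) = e)
    (hcolY : ∀ x ∈ (P : Subgroup G), x ≠ 1 → ∑ θ ∈ Y, (θ : G → ℂ) x = -(ε : ℂ))
    (hcolYsq : ∀ x ∈ (P : Subgroup G), x ≠ 1 →
      ∑ θ ∈ Y, (θ : G → ℂ) x * conj ((θ : G → ℂ) x) = (p : ℂ) - (e : ℂ)) : False := by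
  classical
  haveI : Fintype G := Fintype.ofFinite G
  have hp : p.Prime := Fact.out
  have hp0 : 0 < p := hp.pos
  have hep : e ≤ p := by
    have : e * 1 ≤ e * t := Nat.mul_le_mul_left e (by omega)
    omega
  have hcardY : Y.card = t := card_Y h t het (by omega)
  subst hε
  obtain ⟨Z, hZ⟩ := exists_out X Y
  have hetC : (e : ℂ) * (t : ℂ) = (p : ℂ) - 1 := by
    rw [← Nat.cast_mul, het, Nat.cast_sub hp.one_le, Nat.cast_one]
  -- the sums over `P`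
  have hS_one : ∑ᶠ x : ↥(P : Subgroup G), (one G : G → ℂ) (x : G) = (p : ℂ) := by
    rw [psum_const (P : Subgroup G) p hp0 hP (one G : G → ℂ) 1 (fun _ _ _ => rfl)]
    show (1 : ℂ) + ((p : ℂ) - 1) * 1 = p
    ring
  have hS_plus : ∀ χ ∈ plusSet X δ,
      ∑ᶠ x : ↥(P : Subgroup G), (χ : G → ℂ) (x : G) = (t : ℂ) * p := by
    intro χ hχ
    have hχ' := mem_plusSet.mp hχ
    rw [psum_const (P : Subgroup G) p hp0 hP (χ : G → ℂ) 1 (fun x hx hx1 => by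
      rw [h.val_X χ hχ'.1 x hx hx1, hχ'.2.2]; norm_num),
      irr_one_cast, hplus χ hχ, Nat.cast_mul, Nat.cast_sub hep]
    linear_combination (-1 : ℂ) * hetC
  have hS_minus : ∀ χ ∈ minusSet X δ,
      ∑ᶠ x : ↥(P : Subgroup G), (χ : G → ℂ) (x : G) = 0 := by
    intro χ hχ
    have hχ' := mem_minusSet.mp hχ
    rw [psum_const (P : Subgroup G) p hp0 hP (χ : G → ℂ) (-1) (fun x hx hx1 => by
      rw [h.val_X χ hχ'.1 x hx hx1, hχ'.2]; norm_num),
      irr_one_cast, hminus χ hχ, Nat.cast_sub hp.one_le, Nat.cast_one]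
    ring
  have hS_Z : ∀ ψ ∈ Z, ∑ᶠ x : ↥(P : Subgroup G), (ψ : G → ℂ) (x : G) =
      (charDegree (ψ : G → ℂ) : ℂ) := by
    intro ψ hψ
    rw [psum_const (P : Subgroup G) p hp0 hP (ψ : G → ℂ) 0 (fun x hx hx1 =>
      h.out_van ψ ((hZ ψ).mp hψ).1 ((hZ ψ).mp hψ).2 x hx hx1), irr_one_cast]
    ring
  have hw : ∀ θ' : IrrCharacter G, ∃ w : ℕ,
      ∑ᶠ x : ↥(P : Subgroup G), (θ' : G → ℂ) (x : G) = (p : ℂ) * (w : ℂ) := fun θ' =>
    psum_character_nat (P : Subgroup G) p hp0 hP _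
      (Cfsg.Agent.H4.isCharacter_of_isIrrCharacter θ'.2)
  choose w hw using hw
  have hS_Y : ∀ θ' ∈ Y, ∑ᶠ x : ↥(P : Subgroup G), (θ' : G → ℂ) (x : G) = 0 := by
    have h1 := psum_finset_const (P : Subgroup G) p hp0 hP Y (fun θ' => (θ' : G → ℂ))
      (-((1 : ℤ) : ℂ)) hcolY
    have h2 : ∑ θ' ∈ Y, (θ' : G → ℂ) 1 = (t : ℂ) * e := by
      rw [← hcardY, Finset.sum_congr rfl (fun θ' hθ' => by rw [irr_one_cast, hY θ' hθ']),
        Finset.sum_const, nsmul_eq_mul]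
    rw [h2, Finset.sum_congr rfl (fun θ' _ => hw θ'), ← Finset.mul_sum] at h1
    have h3 : (p : ℂ) * ∑ θ' ∈ Y, (w θ' : ℂ) = 0 := by
      rw [h1]
      push_cast
      linear_combination hetC
    have h4 : ∑ θ' ∈ Y, (w θ' : ℂ) = 0 := by
      rcases mul_eq_zero.mp h3 with h5 | h5
      · exact absurd h5 (by exact_mod_cast hp0.ne')
      · exact h5
    have h5 : ∑ θ' ∈ Y, w θ' = 0 := by exact_mod_cast h4
    intro θ' hθ'
    rw [hw θ', (Finset.sum_eq_zero_iff.mp h5) θ' hθ']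
    simp
  -- decomposition of `θ * conj θ`
  have hdec : ∀ θ : IrrCharacter G, ∃ m : IrrCharacter G → ℕ,
      ((θ : G → ℂ) * fun g => conj ((θ : G → ℂ) g)) =
        ∑ᶠ ψ : IrrCharacter G, (m ψ : ℂ) • (ψ : G → ℂ) := fun θ =>
    Cfsg.Agent.H4.isCharacter_iff.mp (Cfsg.Agent.H4.isCharacter_mul
      (Cfsg.Agent.H4.isCharacter_of_isIrrCharacter θ.2)
      (Cfsg.Agent.H4.isCharacter_conj (Cfsg.Agent.H4.isCharacter_of_isIrrCharacter θ.2)))
  choose m hm using hdec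
  have hstar : ∀ (θ : IrrCharacter G) (g : G), (θ : G → ℂ) g * conj ((θ : G → ℂ) g) =
      ∑ᶠ ψ : IrrCharacter G, (m θ ψ : ℂ) * (ψ : G → ℂ) g := by
    intro θ g
    rw [← Cfsg.Agent.H4.finsum_irr_apply, ← hm θ]
    rfl
  have hm1 : ∀ θ : IrrCharacter G, m θ (one G) = 1 := by
    intro θ
    have h1 := Cfsg.Agent.H4.classInner_finsum_irr (fun ψ => (m θ ψ : ℂ)) (one G)
    rw [← hm θ] at h1
    have h2 : classInner ((θ : G → ℂ) * fun g => conj ((θ : G → ℂ) g)) (one G).1 =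
        classInner θ.1 θ.1 := by
      unfold classInner
      congr 1
      apply Finset.sum_congr rfl
      intro g _
      show θ.1 g * conj (θ.1 g) * conj (1 : ℂ) = θ.1 g * conj (θ.1 g)
      rw [map_one, mul_one]
    rw [h2, Cfsg.Agent.H4.irr_inner_self] at h1
    exact_mod_cast h1.symm
  -- the four multiplicity sums
  let A : IrrCharacter G → ℕ := fun θ => ∑ χ ∈ plusSet X δ, m θ χ
  let B : IrrCharacter G → ℕ := fun θ => ∑ χ ∈ minusSet X δ, m θ χ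
  let E : IrrCharacter G → ℕ := fun θ => ∑ θ' ∈ Y, m θ θ'
  let O : IrrCharacter G → ℕ := fun θ => ∑ ψ ∈ Z, m θ ψ * charDegree (ψ : G → ℂ)
  -- degrees
  have hdeg : ∀ θ ∈ Y, e * e = 1 + A θ * (t * (p - e)) + B θ * (p - 1) + E θ * e + O θ := by
    intro θ hθ
    have h1 := hstar θ 1
    rw [sum_split h Z hZ, irr_one_cast, hY θ hθ, Complex.conj_natCast, hm1 θ] at h1
    have hpl : ∑ χ ∈ plusSet X δ, (m θ χ : ℂ) * (χ : G → ℂ) 1 =
        ((A θ * (t * (p - e)) : ℕ) : ℂ) := by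
      show _ = (((∑ χ ∈ plusSet X δ, m θ χ) * (t * (p - e)) : ℕ) : ℂ)
      rw [Finset.sum_mul, Nat.cast_sum]
      apply Finset.sum_congr rfl
      intro χ hχ
      rw [irr_one_cast, hplus χ hχ, ← Nat.cast_mul]
    have hmi : ∑ χ ∈ minusSet X δ, (m θ χ : ℂ) * (χ : G → ℂ) 1 =
        ((B θ * (p - 1) : ℕ) : ℂ) := by
      show _ = (((∑ χ ∈ minusSet X δ, m θ χ) * (p - 1) : ℕ) : ℂ)
      rw [Finset.sum_mul, Nat.cast_sum]
      apply Finset.sum_congr rfl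
      intro χ hχ
      rw [irr_one_cast, hminus χ hχ, Nat.cast_mul]
    have hy : ∑ θ' ∈ Y, (m θ θ' : ℂ) * (θ' : G → ℂ) 1 = ((E θ * e : ℕ) : ℂ) := by
      show _ = (((∑ θ' ∈ Y, m θ θ') * e : ℕ) : ℂ)
      rw [Finset.sum_mul, Nat.cast_sum]
      apply Finset.sum_congr rfl
      intro θ' hθ'
      rw [irr_one_cast, hY θ' hθ', Nat.cast_mul]
    have hz : ∑ ψ ∈ Z, (m θ ψ : ℂ) * (ψ : G → ℂ) 1 = ((O θ : ℕ) : ℂ) := by
      show _ = (((∑ ψ ∈ Z, m θ ψ * charDegree (ψ : G → ℂ)) : ℕ) : ℂ)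
      rw [Nat.cast_sum]
      apply Finset.sum_congr rfl
      intro ψ _
      rw [irr_one_cast, Nat.cast_mul]
    rw [hpl, hmi, hy, hz] at h1
    have h2 : (one G : G → ℂ) 1 = 1 := rfl
    rw [h2] at h1
    exact_mod_cast h1
  -- sums over `P`
  have hsumP : ∀ θ ∈ Y, ∑ᶠ x : ↥(P : Subgroup G),
      (θ : G → ℂ) (x : G) * conj ((θ : G → ℂ) (x : G)) =
        ((p + A θ * (t * p) + O θ : ℕ) : ℂ) := by
    intro θ hθ
    have h1 : (fun x : ↥(P : Subgroup G) =>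
        (θ : G → ℂ) (x : G) * conj ((θ : G → ℂ) (x : G))) =
        fun x : ↥(P : Subgroup G) => ∑ᶠ ψ : IrrCharacter G, (m θ ψ : ℂ) * (ψ : G → ℂ) (x : G) :=
      funext (fun x => hstar θ x)
    rw [h1, psum_swap, sum_split h Z hZ, hS_one, hm1 θ]
    have hpl : ∑ χ ∈ plusSet X δ, (m θ χ : ℂ) *
        ∑ᶠ x : ↥(P : Subgroup G), (χ : G → ℂ) (x : G) = ((A θ * (t * p) : ℕ) : ℂ) := by
      show _ = (((∑ χ ∈ plusSet X δ, m θ χ) * (t * p) : ℕ) : ℂ)
      rw [Finset.sum_mul, Nat.cast_sum]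
      apply Finset.sum_congr rfl
      intro χ hχ
      rw [hS_plus χ hχ]
      push_cast
      ring
    have hmi : ∑ χ ∈ minusSet X δ, (m θ χ : ℂ) *
        ∑ᶠ x : ↥(P : Subgroup G), (χ : G → ℂ) (x : G) = 0 :=
      Finset.sum_eq_zero (fun χ hχ => by rw [hS_minus χ hχ, mul_zero])
    have hy : ∑ θ' ∈ Y, (m θ θ' : ℂ) *
        ∑ᶠ x : ↥(P : Subgroup G), (θ' : G → ℂ) (x : G) = 0 :=
      Finset.sum_eq_zero (fun θ' hθ' => by rw [hS_Y θ' hθ', mul_zero])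
    have hz : ∑ ψ ∈ Z, (m θ ψ : ℂ) *
        ∑ᶠ x : ↥(P : Subgroup G), (ψ : G → ℂ) (x : G) = ((O θ : ℕ) : ℂ) := by
      show _ = (((∑ ψ ∈ Z, m θ ψ * charDegree (ψ : G → ℂ)) : ℕ) : ℂ)
      rw [Nat.cast_sum]
      apply Finset.sum_congr rfl
      intro ψ hψ
      rw [hS_Z ψ hψ, Nat.cast_mul]
    rw [hpl, hmi, hy, hz]
    push_cast
    ring
  -- (I)
  have hI : ((∑ θ ∈ Y, (p + A θ * (t * p) + O θ) : ℕ) : ℂ) =
      (t : ℂ) * e * e + ((p : ℂ) - 1) * ((p : ℂ) - e) := by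
    have h1 := psum_finset_const (P : Subgroup G) p hp0 hP Y
      (fun θ g => (θ : G → ℂ) g * conj ((θ : G → ℂ) g)) ((p : ℂ) - (e : ℂ)) hcolYsq
    rw [Finset.sum_congr rfl (fun θ hθ => hsumP θ hθ)] at h1
    have h2 : ∑ θ ∈ Y, (θ : G → ℂ) 1 * conj ((θ : G → ℂ) 1) = (t : ℂ) * e * e := by
      rw [← hcardY, Finset.sum_congr rfl (fun θ' hθ' => by
        rw [irr_one_cast, hY θ' hθ', Complex.conj_natCast]), Finset.sum_const, nsmul_eq_mul]
      ring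
    rw [h2] at h1
    rw [Nat.cast_sum]
    exact h1
  -- sums
  have hIn : ∑ θ ∈ Y, (p + A θ * (t * p) + O θ) =
      t * p + (∑ θ ∈ Y, A θ) * (t * p) + ∑ θ ∈ Y, O θ := by
    rw [Finset.sum_add_distrib, Finset.sum_add_distrib, Finset.sum_const, hcardY, smul_eq_mul,
      Finset.sum_mul]
  have hII : t * (e * e) = t + (∑ θ ∈ Y, A θ) * (t * (p - e)) + (∑ θ ∈ Y, B θ) * (p - 1) +
      (∑ θ ∈ Y, E θ) * e + ∑ θ ∈ Y, O θ := by
    have h1 : ∑ θ ∈ Y, e * e =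
        ∑ θ ∈ Y, (1 + A θ * (t * (p - e)) + B θ * (p - 1) + E θ * e + O θ) :=
      Finset.sum_congr rfl hdeg
    rw [Finset.sum_const, hcardY, smul_eq_mul] at h1
    rw [h1, Finset.sum_add_distrib, Finset.sum_add_distrib, Finset.sum_add_distrib,
      Finset.sum_add_distrib, Finset.sum_const, hcardY, smul_eq_mul, mul_one, Finset.sum_mul,
      Finset.sum_mul, Finset.sum_mul]
  rw [hIn] at hI
  -- pass to integers
  obtain ⟨a, ha⟩ : ∃ a : ℕ, a = ∑ θ ∈ Y, A θ := ⟨_, rfl⟩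
  obtain ⟨b, hb⟩ : ∃ b : ℕ, b = ∑ θ ∈ Y, B θ := ⟨_, rfl⟩
  obtain ⟨c, hc⟩ : ∃ c : ℕ, c = ∑ θ ∈ Y, E θ := ⟨_, rfl⟩
  obtain ⟨o, ho⟩ : ∃ o : ℕ, o = ∑ θ ∈ Y, O θ := ⟨_, rfl⟩
  rw [← ha, ← ho] at hI
  rw [← ha, ← hb, ← hc, ← ho] at hII
  have hIz : ((t : ℤ) * p + a * (t * p) + o) = t * e * e + (p - 1) * (p - e) := by
    have h1 : (((t * p + a * (t * p) + o : ℕ) : ℤ) : ℂ) =
        ((((t : ℤ) * e * e + (p - 1) * (p - e)) : ℤ) : ℂ) := by
      push_cast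
      push_cast at hI
      exact hI
    have h2 := Int.cast_injective h1
    push_cast at h2
    exact h2
  have hIIz : ((t : ℤ) * (e * e)) = t + a * (t * (p - e)) + b * (p - 1) + c * e + o := by
    have h1 : ((t * (e * e) : ℕ) : ℤ) =
        ((t + a * (t * (p - e)) + b * (p - 1) + c * e + o : ℕ) : ℤ) := by rw [hII]
    push_cast [Nat.cast_sub hep, Nat.cast_sub hp.one_le] at h1
    exact h1
  have hetz : (e : ℤ) * t = p - 1 := by
    have h1 : ((e * t : ℕ) : ℤ) = ((p - 1 : ℕ) : ℤ) := by rw [het]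
    push_cast [Nat.cast_sub hp.one_le] at h1
    exact h1
  have he2z : (2 : ℤ) ≤ e := by exact_mod_cast he2
  have ht3z : (3 : ℤ) ≤ t := by exact_mod_cast ht3
  have ha0 : (0 : ℤ) ≤ a := Int.natCast_nonneg a
  have hb0 : (0 : ℤ) ≤ b := Int.natCast_nonneg b
  have hc0 : (0 : ℤ) ≤ c := Int.natCast_nonneg c
  have ho0 : (0 : ℤ) ≤ o := Int.natCast_nonneg o
  have hpz : (p : ℤ) = e * t + 1 := by linarith
  -- `a + 1 ≤ e`
  have h4 : (t : ℤ) * p * (1 + a) + o = e * t * p := by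
    linear_combination hIz - ((p : ℤ) - e) * hetz
  have htp : (0 : ℤ) < t * p := by
    have : (0 : ℤ) < p := by exact_mod_cast hp0
    positivity
  have h1 : (a : ℤ) + 1 ≤ e := by
    by_contra hcon
    push Not at hcon
    have h3 : (t : ℤ) * p * (e + 1) ≤ t * p * (1 + a) :=
      mul_le_mul_of_nonneg_left (by linarith) htp.le
    linarith
  -- `(e - 1) * (t - 1) ≤ a`
  have h3 : ((p : ℤ) - 1) * (t + a - b - p + e) = c * e := by
    linear_combination hIz + hIIz - (a : ℤ) * hetz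
  have h5 : (0 : ℤ) < p - 1 := by
    rw [← hetz]
    positivity
  have h6 : (0 : ℤ) ≤ t + a - b - p + e := by
    by_contra hcon
    push Not at hcon
    have h7 := mul_neg_of_pos_of_neg h5 hcon
    rw [h3] at h7
    have h8 : (0 : ℤ) ≤ c * e := by positivity
    linarith
  have h7 : ((e : ℤ) - 1) * (t - 1) = p - e - t := by linear_combination hetz
  have h8 : 2 * ((e : ℤ) - 1) ≤ (e - 1) * (t - 1) := by
    have h9 := mul_le_mul_of_nonneg_left (show (2 : ℤ) ≤ t - 1 by linarith)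
      (show (0 : ℤ) ≤ e - 1 by linarith)
    linarith
  linarith

end Cfsg.Agent.H16.BR
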