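import Mathlib
import Cfsg.Agent.H75.FrobeniusThm

set_option autoImplicit false

namespace Cfsg.Agent.H16

open MulAction Equiv
open scoped Pointwise

variable {α : Type*} [Fintype α] [DecidableEq α]

/-- A non-trivial subgroup normalised by a doubly transitive group is transitive. -/
theorem transitive_of_normalized (G M : Subgroup (Perm α))
    (hG2 : ∀ a b a' b' : α, a ≠ b → a' ≠ b' → ∃ g ∈ G, g a = a' ∧ g b = b')
    (hnorm : ∀ g ∈ G, ∀ x ∈ M, g * x * g⁻¹ ∈ M) (hM : M ≠ ⊥) :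
    ∀ a b : α, ∃ x ∈ M, x a = b := by
  obtain ⟨ν, hνM, hν1⟩ : ∃ ν ∈ M, ν ≠ 1 := by
    by_contra hcon
    push Not at hcon
    exact hM ((Subgroup.eq_bot_iff_forall M).mpr hcon)
  obtain ⟨u, hu⟩ : ∃ u, ν u ≠ u := by
    by_contra hcon
    push Not at hcon
    exact hν1 (Equiv.Perm.ext hcon)
  intro a b
  by_cases hab : a = b
  · exact ⟨1, M.one_mem, by simpa using hab⟩
  · obtain ⟨g, hg, h1, h2⟩ := hG2 u (ν u) a b (Ne.symm hu) hab
    refine ⟨g * ν * g⁻¹, hnorm g hg ν hνM, ?_⟩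
    have h4 : g⁻¹ a = u := by rw [Perm.inv_eq_iff_eq, h1]
    simp only [Perm.mul_apply]; rw [h4, h2]

/-- A regular subgroup normalised by a doubly transitive group is elementary abelian. -/
theorem regular_normalized_elementary (G M : Subgroup (Perm α))
    (hG2 : ∀ a b a' b' : α, a ≠ b → a' ≠ b' → ∃ g ∈ G, g a = a' ∧ g b = b')
    (hnorm : ∀ g ∈ G, ∀ x ∈ M, g * x * g⁻¹ ∈ M) (hM : M ≠ ⊥)
    (hreg : ∀ x ∈ M, ∀ a, x a = a → x = 1) :
    (∀ x ∈ M, ∀ y ∈ M, x * y = y * x) ∧ ∃ p : ℕ, p.Prime ∧ ∀ x ∈ M, x ^ p = 1 := by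
  obtain ⟨x₁, hx₁M, hx₁1⟩ : ∃ ν ∈ M, ν ≠ 1 := by
    by_contra hcon
    push Not at hcon
    exact hM ((Subgroup.eq_bot_iff_forall M).mpr hcon)
  obtain ⟨a, ha⟩ : ∃ u, x₁ u ≠ u := by
    by_contra hcon
    push Not at hcon
    exact hx₁1 (Equiv.Perm.ext hcon)
  have hmove : ∀ x ∈ M, x ≠ 1 → x a ≠ a := fun x hx hx1 h => hx1 (hreg x hx a h)
  have hconj : ∀ x ∈ M, x ≠ 1 → ∀ y ∈ M, y ≠ 1 → ∃ g ∈ G, y = g * x * g⁻¹ := by
    intro x hx hx1 y hy hy1
    obtain ⟨g, hg, h1, h2⟩ := hG2 a (x a) a (y a) (Ne.symm (hmove x hx hx1))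
      (Ne.symm (hmove y hy hy1))
    refine ⟨g, hg, ?_⟩
    have h3 : g⁻¹ a = a := by rw [Perm.inv_eq_iff_eq, h1]
    have h4 : (y⁻¹ * (g * x * g⁻¹)) a = a := by
      simp only [Perm.mul_apply]; rw [h3, h2]; simp
    have h5 := hreg _ (M.mul_mem (M.inv_mem hy) (hnorm g hg x hx)) a h4
    have := congrArg (fun z => y * z) h5
    simpa using this.symm
  have hord : ∀ y ∈ M, y ≠ 1 → orderOf y = orderOf x₁ := by
    intro y hy hy1
    obtain ⟨g, -, rfl⟩ := hconj x₁ hx₁M hx₁1 y hy hy1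
    have := orderOf_injective (MulAut.conj g).toMonoidHom (MulAut.conj g).injective x₁
    simpa using this
  have hMnt : Nontrivial M := ⟨⟨⟨x₁, hx₁M⟩, 1, fun h => hx₁1 (congrArg Subtype.val h)⟩⟩
  obtain ⟨p, hp, hpdvd⟩ := Nat.exists_prime_and_dvd (n := Nat.card M) (by
    have := Finite.one_lt_card_iff_nontrivial.mpr hMnt
    omega)
  have : Fact p.Prime := ⟨hp⟩
  obtain ⟨z₀, hz₀⟩ := exists_prime_orderOf_dvd_card' (G := M) p hpdvd
  have hz₀1 : (z₀ : Perm α) ≠ 1 := by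
    intro h
    have : z₀ = 1 := Subtype.ext h
    rw [this, orderOf_one] at hz₀
    exact hp.one_lt.ne hz₀
  have hxp : orderOf x₁ = p := by
    rw [← hord z₀ z₀.2 hz₀1, Subgroup.orderOf_coe, hz₀]
  have hexp : ∀ x ∈ M, x ^ p = 1 := by
    intro x hx
    by_cases hx1 : x = 1
    · rw [hx1, one_pow]
    · rw [← hxp, ← hord x hx hx1]; exact pow_orderOf_eq_one x
  have hMp : IsPGroup p M := by
    intro u
    refine ⟨1, ?_⟩
    apply Subtype.ext
    rw [pow_one]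
    push_cast
    exact hexp u u.2
  have := hMp.center_nontrivial
  obtain ⟨⟨z, hz⟩, hzne⟩ := exists_ne (1 : Subgroup.center M)
  have hz1 : (z : Perm α) ≠ 1 := by
    intro h
    apply hzne
    apply Subtype.ext
    apply Subtype.ext
    exact h
  have hzc : ∀ y ∈ M, y * (z : Perm α) = (z : Perm α) * y := by
    intro y hy
    exact congrArg Subtype.val ((Subgroup.mem_center_iff.mp hz) ⟨y, hy⟩)
  have hcentral : ∀ x ∈ M, ∀ y ∈ M, x * y = y * x := by
    intro x hx y hy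
    by_cases hx1 : x = 1
    · rw [hx1]; simp
    · obtain ⟨g, hg, rfl⟩ := hconj z z.2 hz1 x hx hx1
      have hw : g⁻¹ * y * g ∈ M := by
        have := hnorm g⁻¹ (G.inv_mem hg) y hy
        simpa using this
      have h1 := hzc _ hw
      have h2 := congrArg (fun w => g * w * g⁻¹) h1
      simp only [mul_assoc, mul_inv_cancel_left, mul_inv_cancel, mul_one] at h2
      simp only [mul_assoc]
      exact h2.symm
  exact ⟨hcentral, p, hp, hexp⟩

/-- Conjugation by an element normalising `M` maps blocks of `M` to blocks of `M`. -/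
theorem isBlock_smul_of_normalized (M : Subgroup (Perm α)) (g : Perm α)
    (hg : ∀ x ∈ M, g⁻¹ * x * g ∈ M) {B : Set α} (hB : IsBlock M B) : IsBlock M (g • B) := by
  rw [isBlock_iff_smul_eq_or_disjoint] at hB ⊢
  intro x
  have key : (x : M) • (g • B) = g • ((⟨g⁻¹ * x * g, hg x x.2⟩ : M) • B) := by
    ext y
    simp only [Set.mem_smul_set]
    constructor
    · rintro ⟨_, ⟨b, hb, rfl⟩, rfl⟩
      refine ⟨_, ⟨b, hb, rfl⟩, ?_⟩
      change g ((g⁻¹ * x * g : Perm α) b) = (x : Perm α) (g b)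
      simp [Perm.mul_apply]
    · rintro ⟨_, ⟨b, hb, rfl⟩, rfl⟩
      refine ⟨_, ⟨b, hb, rfl⟩, ?_⟩
      change (x : Perm α) (g b) = g ((g⁻¹ * x * g : Perm α) b)
      simp [Perm.mul_apply]
  rw [key]
  rcases hB ⟨g⁻¹ * x * g, hg x x.2⟩ with h | h
  · left; rw [h]
  · right
    exact Set.disjoint_image_of_injective (MulAction.injective g) h

/-- **Primitivity part of Burnside's theorem**: a non-regular minimal normal subgroup of a
doubly transitive group has only trivial blocks (uses Frobenius' theorem). -/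
theorem blocks_trivial_of_nonregular (G M : Subgroup (Perm α))
    (hG2 : ∀ a b a' b' : α, a ≠ b → a' ≠ b' → ∃ g ∈ G, g a = a' ∧ g b = b')
    (hnorm : ∀ g ∈ G, ∀ x ∈ M, g * x * g⁻¹ ∈ M) (hM : M ≠ ⊥)
    (hmin : ∀ L : Subgroup (Perm α), L ≤ M → (∀ g ∈ G, ∀ x ∈ L, g * x * g⁻¹ ∈ L) →
      L = ⊥ ∨ L = M)
    (hnonreg : ∃ x ∈ M, x ≠ 1 ∧ ∃ a, x a = a) (B : Set α) (hB : IsBlock M B) :
    IsTrivialBlock B := by
  classical
  by_contra hBt
  rw [IsTrivialBlock, not_or] at hBt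
  obtain ⟨hBns, hBne⟩ := hBt
  have hnorm' : ∀ g ∈ G, ∀ x ∈ M, g⁻¹ * x * g ∈ M := by
    intro g hg x hx
    have := hnorm g⁻¹ (G.inv_mem hg) x hx
    simpa using this
  have hex : ∃ k, ∃ B' : Set α, IsBlock M B' ∧ ¬ B'.Subsingleton ∧ B'.ncard = k :=
    ⟨_, B, hB, hBns, rfl⟩
  obtain ⟨B₀, hB₀, hB₀ns, hB₀card⟩ := Nat.find_spec hex
  have hminB : ∀ B' : Set α, IsBlock M B' → ¬ B'.Subsingleton → Nat.find hex ≤ B'.ncard :=
    fun B' h1 h2 => Nat.find_min' hex ⟨B', h1, h2, rfl⟩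
  have hB₀lt : B₀.ncard < Nat.card α := by
    have h1 : B₀.ncard ≤ B.ncard := by rw [hB₀card]; exact hminB B hB hBns
    have h2 : B.ncard < Nat.card α := by
      rw [← Set.ncard_univ]
      exact Set.ncard_lt_ncard (Set.ssubset_univ_iff.mpr hBne) (Set.toFinite _)
    omega
  have htr : ∀ g ∈ G, IsBlock M (g • B₀) := fun g hg =>
    isBlock_smul_of_normalized M g (hnorm' g hg) hB₀
  have hcardtr : ∀ g : Perm α, (g • B₀).ncard = B₀.ncard := fun g =>
    Set.ncard_image_of_injective _ (MulAction.injective g)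
  have hP3 : ∀ g₁ ∈ G, ∀ g₂ ∈ G, ∀ p q : α, p ≠ q → p ∈ g₁ • B₀ → q ∈ g₁ • B₀ →
      p ∈ g₂ • B₀ → q ∈ g₂ • B₀ → g₁ • B₀ = g₂ • B₀ := by
    intro g₁ hg₁ g₂ hg₂ p q hpq hp1 hq1 hp2 hq2
    have hI : IsBlock M (g₁ • B₀ ∩ g₂ • B₀) := (htr g₁ hg₁).inter (htr g₂ hg₂)
    have hIns : ¬ (g₁ • B₀ ∩ g₂ • B₀).Subsingleton := fun h => hpq (h ⟨hp1, hp2⟩ ⟨hq1, hq2⟩)
    have hIc := hminB _ hI hIns
    have h1 : g₁ • B₀ ∩ g₂ • B₀ = g₁ • B₀ :=
      Set.eq_of_subset_of_ncard_le Set.inter_subset_left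
        (by rw [hcardtr, hB₀card]; exact hIc) (Set.toFinite _)
    have h2 : g₁ • B₀ ∩ g₂ • B₀ = g₂ • B₀ :=
      Set.eq_of_subset_of_ncard_le Set.inter_subset_right
        (by rw [hcardtr, hB₀card]; exact hIc) (Set.toFinite _)
    exact h1.symm.trans h2
  obtain ⟨u, hu, v, hv, huv⟩ : ∃ u ∈ B₀, ∃ v ∈ B₀, u ≠ v := by
    rw [Set.not_subsingleton_iff] at hB₀ns; exact hB₀ns
  have hP4 : ∀ p q : α, p ≠ q → ∃ g ∈ G, p ∈ g • B₀ ∧ q ∈ g • B₀ := by
    intro p q hpq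
    obtain ⟨g, hg, h1, h2⟩ := hG2 u v p q huv hpq
    exact ⟨g, hg, ⟨u, hu, h1⟩, ⟨v, hv, h2⟩⟩
  have hL1 : ∀ x ∈ M, ∀ p q r : α, x p = p → x q = q → ∀ g₁ ∈ G, ∀ g₂ ∈ G, p ∈ g₁ • B₀ →
      r ∈ g₁ • B₀ → q ∈ g₂ • B₀ → r ∈ g₂ • B₀ → g₁ • B₀ ≠ g₂ • B₀ → x r = r := by
    intro x hx p q r hxp hxq g₁ hg₁ g₂ hg₂ hp1 hr1 hq2 hr2 hne
    have h1 : (⟨x, hx⟩ : M) • (g₁ • B₀) = g₁ • B₀ :=
      (htr g₁ hg₁).smul_eq_of_mem hp1 (by change x p ∈ _; rw [hxp]; exact hp1)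
    have h2 : (⟨x, hx⟩ : M) • (g₂ • B₀) = g₂ • B₀ :=
      (htr g₂ hg₂).smul_eq_of_mem hq2 (by change x q ∈ _; rw [hxq]; exact hq2)
    have hxr1 : x r ∈ g₁ • B₀ := by
      rw [← h1]; exact Set.smul_mem_smul_set (a := (⟨x, hx⟩ : M)) hr1
    have hxr2 : x r ∈ g₂ • B₀ := by
      rw [← h2]; exact Set.smul_mem_smul_set (a := (⟨x, hx⟩ : M)) hr2
    by_contra hxr
    exact hne (hP3 g₁ hg₁ g₂ hg₂ (x r) r hxr hxr1 hr1 hxr2 hr2)
  have hA : ∀ x ∈ M, ∀ a c : α, a ≠ c → x a = a → x c = c → ∀ g ∈ G, a ∈ g • B₀ →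
      c ∈ g • B₀ → ∀ e, e ∉ g • B₀ → x e = e := by
    intro x hx a c hac hxa hxc g hg ha hc e he
    have hea : a ≠ e := by rintro rfl; exact he ha
    have hec : c ≠ e := by rintro rfl; exact he hc
    obtain ⟨g₁, hg₁, ha1, he1⟩ := hP4 a e hea
    obtain ⟨g₂, hg₂, hc2, he2⟩ := hP4 c e hec
    refine hL1 x hx a c e hxa hxc g₁ hg₁ g₂ hg₂ ha1 he1 hc2 he2 ?_
    intro heq
    have hc1 : c ∈ g₁ • B₀ := by rw [heq]; exact hc2
    have := hP3 g₁ hg₁ g hg a c hac ha1 hc1 ha hc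
    exact he (by rw [← this]; exact he1)
  have hBcl : ∀ x ∈ M, ∀ a c : α, a ≠ c → x a = a → x c = c → x = 1 := by
    intro x hx a c hac hxa hxc
    obtain ⟨g, hg, ha, hc⟩ := hP4 a c hac
    obtain ⟨e, he⟩ : ∃ e, e ∉ g • B₀ := by
      by_contra hcon
      push Not at hcon
      have : g • B₀ = Set.univ := Set.eq_univ_of_forall hcon
      have h1 := hcardtr g
      rw [this, Set.ncard_univ] at h1
      omega
    have hxe := hA x hx a c hac hxa hxc g hg ha hc e he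
    have hae : a ≠ e := by rintro rfl; exact he ha
    obtain ⟨g', hg', ha', he'⟩ := hP4 a e hae
    ext d
    change x d = d
    by_cases hd : d ∈ g • B₀
    · by_cases hda : d = a
      · rw [hda, hxa]
      · have hd' : d ∉ g' • B₀ := by
          intro hd'
          have := hP3 g hg g' hg' a d (Ne.symm hda) ha hd ha' hd'
          exact he (by rw [this]; exact he')
        exact hA x hx a e hae hxa hxe g' hg' ha' he' d hd'
    · exact hA x hx a c hac hxa hxc g hg ha hc d hd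
  -- `M` is a Frobenius group
  obtain ⟨x₀, hx₀M, hx₀1, a₀, hx₀a⟩ := hnonreg
  have htrans := transitive_of_normalized G M hG2 hnorm hM
  let S : Subgroup M := MulAction.stabilizer M a₀
  have hSmem : ∀ m : M, m ∈ S ↔ (m : Perm α) a₀ = a₀ := fun m => MulAction.mem_stabilizer_iff
  have hconjS : ∀ m g : M, g⁻¹ * m * g ∈ S ↔ (m : Perm α) ((g : Perm α) a₀) = (g : Perm α) a₀ := by
    intro m g
    rw [hSmem]
    simp only [Subgroup.coe_mul, Subgroup.coe_inv, Perm.mul_apply]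
    rw [Perm.inv_eq_iff_eq]
  have hFC : Cfsg.IsFrobeniusComplement S := by
    rw [H75.isFrobeniusComplement_iff]
    refine ⟨?_, ?_, ?_⟩
    · intro h
      have : (⟨x₀, hx₀M⟩ : M) ∈ S := (hSmem _).mpr hx₀a
      rw [h, Subgroup.mem_bot] at this
      exact hx₀1 (congrArg Subtype.val this)
    · intro h
      obtain ⟨c, hc⟩ : ∃ c, c ≠ a₀ := by
        by_cases hua : u = a₀
        · exact ⟨v, fun hva => huv (hua.trans hva.symm)⟩
        · exact ⟨u, hua⟩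
      obtain ⟨m, hm, hma⟩ := htrans a₀ c
      have : (⟨m, hm⟩ : M) ∈ S := by rw [h]; trivial
      exact hc (by rw [← hma]; exact (hSmem _).mp this)
    · intro g hg y hy hy2
      have hga : (g : Perm α) a₀ ≠ a₀ := fun h => hg ((hSmem g).mpr h)
      have h1 : (y : Perm α) a₀ = a₀ := (hSmem y).mp hy
      have h2 := (hconjS y g).mp hy2
      exact Subtype.ext (hBcl y y.2 a₀ _ (Ne.symm hga) h1 h2)
  obtain ⟨K, hKset, hKn, hKc⟩ := H75.frobenius_theorem S hFC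
  have hKmem : ∀ m : M, m ∈ K ↔ m = 1 ∨ ∀ c : α, (m : Perm α) c ≠ c := by
    intro m
    have h1 : m ∈ K ↔ m ∈ Cfsg.frobeniusKernel S := by rw [← hKset]; rfl
    rw [h1, H75.mem_frobeniusKernel_iff]
    refine or_congr Iff.rfl ?_
    constructor
    · intro h c hc
      obtain ⟨t, ht, hta⟩ := htrans a₀ c
      apply h ⟨t, ht⟩
      rw [hconjS]
      change (m : Perm α) (t a₀) = t a₀
      rw [hta]; exact hc
    · intro h g hg
      exact h _ ((hconjS m g).mp hg)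
  let L : Subgroup (Perm α) := K.map M.subtype
  have hLM : L ≤ M := by rintro _ ⟨k, _, rfl⟩; exact k.2
  have hLnorm : ∀ g ∈ G, ∀ x ∈ L, g * x * g⁻¹ ∈ L := by
    rintro g hg _ ⟨k, hk, rfl⟩
    refine ⟨⟨g * k * g⁻¹, hnorm g hg k k.2⟩, ?_, rfl⟩
    rw [SetLike.mem_coe, hKmem] at hk ⊢
    rcases hk with rfl | hk
    · left; apply Subtype.ext; simp
    · right
      intro c hc
      apply hk (g⁻¹ c)
      change (g * (k : Perm α) * g⁻¹) c = c at hc
      simp only [Perm.mul_apply] at hc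
      rw [Perm.eq_inv_iff_eq, hc]
  rcases hmin L hLM hLnorm with hL | hL
  · have hK : K = ⊥ := by
      rw [eq_bot_iff]; intro k hk
      have : (k : Perm α) ∈ L := ⟨k, hk, rfl⟩
      rw [hL, Subgroup.mem_bot] at this
      rw [Subgroup.mem_bot]; exact Subtype.ext this
    rw [hK] at hKc
    exact hFC.2.1 (Subgroup.isComplement'_bot_left.mp hKc)
  · have : x₀ ∈ L := by rw [hL]; exact hx₀M
    obtain ⟨k, hk, hkx⟩ := this
    rw [SetLike.mem_coe, hKmem] at hk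
    have hkx' : (k : Perm α) = x₀ := hkx
    rcases hk with rfl | hk
    · exact hx₀1 hkx'.symm
    · exact hk a₀ (by rw [hkx']; exact hx₀a)

/-- **Simplicity part of Burnside's theorem**: a minimal normal subgroup `M` of a doubly
transitive group, all of whose blocks are trivial, has no proper non-trivial subgroup normalised
by `M`. -/
theorem simple_of_blocks_trivial (G M : Subgroup (Perm α))
    (hG2 : ∀ a b a' b' : α, a ≠ b → a' ≠ b' → ∃ g ∈ G, g a = a' ∧ g b = b')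
    (hnorm : ∀ g ∈ G, ∀ x ∈ M, g * x * g⁻¹ ∈ M)
    (hmin : ∀ L : Subgroup (Perm α), L ≤ M → (∀ g ∈ G, ∀ x ∈ L, g * x * g⁻¹ ∈ L) →
      L = ⊥ ∨ L = M)
    (hprim : ∀ B : Set α, IsBlock M B → IsTrivialBlock B)
    (K : Subgroup (Perm α)) (hKM : K ≤ M) (hKn : ∀ m ∈ M, ∀ x ∈ K, m * x * m⁻¹ ∈ K) :
    K = ⊥ ∨ K = M := by
  classical
  by_contra hcon
  push Not at hcon
  obtain ⟨hK1, hK2⟩ := hcon
  have hnorm' : ∀ g ∈ G, ∀ x ∈ M, g⁻¹ * x * g ∈ M := by
    intro g hg x hx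
    have := hnorm g⁻¹ (G.inv_mem hg) x hx
    simpa using this
  have hex : ∃ k, ∃ T : Subgroup (Perm α), T ≤ M ∧ (∀ m ∈ M, ∀ x ∈ T, m * x * m⁻¹ ∈ T) ∧
      T ≠ ⊥ ∧ Nat.card T = k := ⟨_, K, hKM, hKn, hK1, rfl⟩
  obtain ⟨T, hTM, hTn, hT1, hTcard⟩ := Nat.find_spec hex
  have hminT : ∀ T' : Subgroup (Perm α), T' ≤ M → (∀ m ∈ M, ∀ x ∈ T', m * x * m⁻¹ ∈ T') →
      T' ≠ ⊥ → Nat.find hex ≤ Nat.card T' :=
    fun T' h1 h2 h3 => Nat.find_min' hex ⟨T', h1, h2, h3, rfl⟩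
  have hTneM : T ≠ M := by
    intro h
    have h1 : Nat.card M ≤ Nat.card K := by rw [← h, hTcard]; exact hminT K hKM hKn hK1
    exact hK2 (Subgroup.eq_of_le_of_card_ge hKM h1)
  -- nontrivial subgroups normalised by `M` are transitive
  have hLtrans : ∀ L : Subgroup (Perm α), (∀ m ∈ M, ∀ x ∈ L, m * x * m⁻¹ ∈ L) → L ≠ ⊥ →
      ∀ a b : α, ∃ t ∈ L, t a = b := by
    intro L hLn hL1
    obtain ⟨t₀, ht₀, ht₀1⟩ : ∃ t ∈ L, t ≠ 1 := by
      by_contra hcon
      push Not at hcon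
      exact hL1 ((Subgroup.eq_bot_iff_forall L).mpr hcon)
    obtain ⟨c, hc⟩ : ∃ c, t₀ c ≠ c := by
      by_contra hcon
      push Not at hcon
      exact ht₀1 (Equiv.Perm.ext hcon)
    let O : Set α := {y | ∃ t ∈ L, t c = y}
    have hO : IsBlock M O := by
      rw [isBlock_iff_smul_eq_or_disjoint]
      intro m
      by_cases h : ∃ y ∈ O, (m : Perm α) y ∈ O
      · left
        obtain ⟨_, ⟨t₁, ht₁, rfl⟩, ⟨t₂, ht₂, h12⟩⟩ := h
        obtain ⟨s, hs, hsc⟩ : ∃ s ∈ L, s c = (m : Perm α) c := by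
          refine ⟨((m : Perm α) * t₁⁻¹ * (m : Perm α)⁻¹) * t₂,
            L.mul_mem (hLn m m.2 _ (L.inv_mem ht₁)) ht₂, ?_⟩
          simp only [Perm.mul_apply]
          rw [h12]; simp
        ext y
        constructor
        · rintro ⟨_, ⟨t, ht, rfl⟩, rfl⟩
          refine ⟨((m : Perm α) * t * (m : Perm α)⁻¹) * s, L.mul_mem (hLn m m.2 t ht) hs, ?_⟩
          change (((m : Perm α) * t * (m : Perm α)⁻¹) * s) c = (m : Perm α) (t c)
          simp only [Perm.mul_apply]; rw [hsc]; simp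
        · rintro ⟨t, ht, rfl⟩
          refine ⟨((m : Perm α)⁻¹ * (t * s⁻¹) * (m : Perm α)) c, ⟨_, ?_, rfl⟩, ?_⟩
          · have := hLn (m : Perm α)⁻¹ (M.inv_mem m.2) _ (L.mul_mem ht (L.inv_mem hs))
            simpa using this
          · change (m : Perm α) (((m : Perm α)⁻¹ * (t * s⁻¹) * (m : Perm α)) c) = t c
            simp only [Perm.mul_apply]
            rw [← hsc]; simp
      · right
        rw [Set.disjoint_left]
        rintro _ ⟨y, hy, rfl⟩ hmy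
        exact h ⟨y, hy, hmy⟩
    rcases hprim O hO with hsub | huniv
    · exfalso
      exact hc (hsub ⟨t₀, ht₀, rfl⟩ ⟨1, L.one_mem, rfl⟩)
    · intro a b
      have ha : a ∈ O := by rw [huniv]; trivial
      have hb : b ∈ O := by rw [huniv]; trivial
      obtain ⟨t₁, ht₁, rfl⟩ := ha
      obtain ⟨t₂, ht₂, rfl⟩ := hb
      exact ⟨t₂ * t₁⁻¹, L.mul_mem ht₂ (L.inv_mem ht₁), by simp [Perm.mul_apply]⟩
  -- conjugates of `T`
  have hTgM : ∀ g ∈ G, T.map (MulAut.conj g).toMonoidHom ≤ M := by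
    rintro g hg _ ⟨t, ht, rfl⟩
    exact hnorm g hg t (hTM ht)
  have hTgn : ∀ g ∈ G, ∀ m ∈ M, ∀ x ∈ T.map (MulAut.conj g).toMonoidHom,
      m * x * m⁻¹ ∈ T.map (MulAut.conj g).toMonoidHom := by
    rintro g hg m hm _ ⟨t, ht, rfl⟩
    refine ⟨(g⁻¹ * m * g) * t * (g⁻¹ * m * g)⁻¹, hTn _ (hnorm' g hg m hm) t ht, ?_⟩
    simp only [MulEquiv.coe_toMonoidHom, MulAut.conj_apply]
    group
  have hTgcard : ∀ g : Perm α, Nat.card (T.map (MulAut.conj g).toMonoidHom) = Nat.card T :=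
    fun g => Subgroup.card_map_of_injective (MulAut.conj g).injective
  have hTgne : ∀ g : Perm α, T.map (MulAut.conj g).toMonoidHom ≠ ⊥ := by
    intro g h
    rw [Subgroup.map_eq_bot_iff_of_injective _ (MulAut.conj g).injective] at h
    exact hT1 h
  have hdich : ∀ g ∈ G, T.map (MulAut.conj g).toMonoidHom = T ∨
      (T ⊓ T.map (MulAut.conj g).toMonoidHom = ⊥ ∧
        ∀ t ∈ T, ∀ s ∈ T.map (MulAut.conj g).toMonoidHom, t * s = s * t) := by
    intro g hg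
    obtain ⟨Tg, hTg⟩ : ∃ Tg, Tg = T.map (MulAut.conj g).toMonoidHom := ⟨_, rfl⟩
    rw [← hTg]
    have hTgM' : Tg ≤ M := by rw [hTg]; exact hTgM g hg
    have hTgn' : ∀ m ∈ M, ∀ x ∈ Tg, m * x * m⁻¹ ∈ Tg := by rw [hTg]; exact hTgn g hg
    by_cases hI : T ⊓ Tg = ⊥
    · right
      refine ⟨hI, ?_⟩
      intro t ht s hs
      have hc1 : t * s * t⁻¹ * s⁻¹ ∈ T := by
        have h1 : s * t⁻¹ * s⁻¹ ∈ T := hTn s (hTgM' hs) _ (T.inv_mem ht)
        have h2 : t * s * t⁻¹ * s⁻¹ = t * (s * t⁻¹ * s⁻¹) := by group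
        rw [h2]; exact T.mul_mem ht h1
      have hc2 : t * s * t⁻¹ * s⁻¹ ∈ Tg :=
        Tg.mul_mem (hTgn' t (hTM ht) s hs) (Tg.inv_mem hs)
      have hc : t * s * t⁻¹ * s⁻¹ ∈ T ⊓ Tg := ⟨hc1, hc2⟩
      rw [hI, Subgroup.mem_bot] at hc
      have := congrArg (fun z => z * s * t) hc
      simpa [mul_assoc] using this
    · left
      have h1 : T ⊓ Tg ≤ M := inf_le_left.trans hTM
      have h2 : ∀ m ∈ M, ∀ x ∈ T ⊓ Tg, m * x * m⁻¹ ∈ T ⊓ Tg :=
        fun m hm x hx => ⟨hTn m hm x hx.1, hTgn' m hm x hx.2⟩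
      have h3 := hminT _ h1 h2 hI
      have h4 : T ⊓ Tg = T :=
        Subgroup.eq_of_le_of_card_ge inf_le_left (by rw [hTcard]; exact h3)
      have h5 : T ≤ Tg := by rw [← h4]; exact inf_le_right
      exact (Subgroup.eq_of_le_of_card_ge h5 (by rw [hTg, hTgcard])).symm
  obtain ⟨g₀, hg₀, hg₀T⟩ : ∃ g₀ ∈ G, T.map (MulAut.conj g₀).toMonoidHom ≠ T := by
    by_contra hcon
    push Not at hcon
    have hTG : ∀ g ∈ G, ∀ x ∈ T, g * x * g⁻¹ ∈ T := by
      intro g hg x hx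
      have h1 : g * x * g⁻¹ ∈ T.map (MulAut.conj g).toMonoidHom := ⟨x, hx, rfl⟩
      rw [hcon g hg] at h1
      exact h1
    rcases hmin T hTM hTG with h | h
    · exact hT1 h
    · exact hTneM h
  obtain ⟨hI₀, hcomm₀⟩ := (hdich g₀ hg₀).resolve_left hg₀T
  have htrans₀ := hLtrans _ (hTgn g₀ hg₀) (hTgne g₀)
  have htransT := hLtrans T hTn hT1
  have hTsemi : ∀ t ∈ T, ∀ a, t a = a → t = 1 := by
    intro t ht a hta
    ext b
    obtain ⟨s, hs, rfl⟩ := htrans₀ a b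
    change t (s a) = s a
    have := hcomm₀ t ht s hs
    have h2 := congrArg (fun z : Perm α => z a) this
    simp only [Perm.mul_apply] at h2
    rw [h2, hta]
  have hTgsemi : ∀ g : Perm α, ∀ s ∈ T.map (MulAut.conj g).toMonoidHom, ∀ a, s a = a →
      s = 1 := by
    rintro g _ ⟨t, ht, rfl⟩ a hsa
    have h1 : t (g⁻¹ a) = g⁻¹ a := by
      simp only [MulEquiv.coe_toMonoidHom, MulAut.conj_apply, Perm.mul_apply] at hsa
      rw [Perm.eq_inv_iff_eq]; exact hsa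
    rw [hTsemi t ht _ h1]; simp
  have hS6 : ∀ g ∈ G, ∀ a, g a = a → ∀ t ∈ T, ∃ t' ∈ T, t' a = g (t a) ∧
      orderOf t' = orderOf t := by
    intro g hg a hga t ht
    have hga' : g⁻¹ a = a := by rw [Perm.inv_eq_iff_eq, hga]
    obtain ⟨s, hsdef⟩ : ∃ s, s = g * t * g⁻¹ := ⟨_, rfl⟩
    have hs : s ∈ T.map (MulAut.conj g).toMonoidHom := by rw [hsdef]; exact ⟨t, ht, rfl⟩
    have hsa : s a = g (t a) := by rw [hsdef]; simp only [Perm.mul_apply]; rw [hga']
    have hso : orderOf s = orderOf t := by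
      rw [hsdef]
      have := orderOf_injective (MulAut.conj g).toMonoidHom (MulAut.conj g).injective t
      simpa using this
    rcases hdich g hg with h | ⟨-, h⟩
    · exact ⟨s, by rw [← h]; exact hs, hsa, hso⟩
    · obtain ⟨t', ht', ht'a⟩ := htransT a (s a)
      refine ⟨t', ht', by rw [ht'a, hsa], ?_⟩
      rw [← hso]
      have hpow : ∀ k : ℕ, (t' ^ k) a = (s ^ k) a := by
        intro k
        induction k with
        | zero => simp
        | succ k ih =>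
          rw [pow_succ', Perm.mul_apply, ih, pow_succ, Perm.mul_apply, ← ht'a]
          have hc : t' * s ^ k = s ^ k * t' := h t' ht' _ (Subgroup.pow_mem _ hs k)
          have := congrArg (fun z : Perm α => z a) hc
          simpa [Perm.mul_apply] using this
      rw [orderOf_eq_orderOf_iff]
      intro k
      constructor
      · intro hk
        apply hTgsemi g _ (Subgroup.pow_mem _ hs k) a
        rw [← hpow k, hk]; rfl
      · intro hk
        apply hTsemi _ (T.pow_mem ht' k) a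
        rw [hpow k, hk]; rfl
  obtain ⟨t₀, ht₀, ht₀1⟩ : ∃ t ∈ T, t ≠ 1 := by
    by_contra hcon
    push Not at hcon
    exact hT1 ((Subgroup.eq_bot_iff_forall T).mpr hcon)
  obtain ⟨a, ha⟩ : ∃ a, t₀ a ≠ a := by
    by_contra hcon
    push Not at hcon
    exact ht₀1 (Equiv.Perm.ext hcon)
  have hord : ∀ t ∈ T, t ≠ 1 → orderOf t = orderOf t₀ := by
    intro t ht ht1
    have hta : t a ≠ a := fun h => ht1 (hTsemi t ht a h)
    obtain ⟨g, hg, hga, hg2⟩ := hG2 a (t₀ a) a (t a) (Ne.symm ha) (Ne.symm hta)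
    obtain ⟨t', ht', ht'a, ht'o⟩ := hS6 g hg a hga t₀ ht₀
    have : t' = t := by
      have h1 : (t⁻¹ * t') a = a := by rw [Perm.mul_apply, ht'a, hg2]; simp
      have h2 := hTsemi _ (T.mul_mem (T.inv_mem ht) ht') a h1
      have := congrArg (fun z => t * z) h2
      simpa using this
    rw [← this, ht'o]
  have hTnt : Nontrivial T := ⟨⟨⟨t₀, ht₀⟩, 1, fun h => ht₀1 (congrArg Subtype.val h)⟩⟩
  obtain ⟨p, hp, hpdvd⟩ := Nat.exists_prime_and_dvd (n := Nat.card T) (by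
    have := Finite.one_lt_card_iff_nontrivial.mpr hTnt
    omega)
  have : Fact p.Prime := ⟨hp⟩
  obtain ⟨z₀, hz₀⟩ := exists_prime_orderOf_dvd_card' (G := T) p hpdvd
  have hz₀1 : (z₀ : Perm α) ≠ 1 := by
    intro h
    have : z₀ = 1 := Subtype.ext h
    rw [this, orderOf_one] at hz₀
    exact hp.one_lt.ne hz₀
  have hxp : orderOf t₀ = p := by
    rw [← hord z₀ z₀.2 hz₀1, Subgroup.orderOf_coe, hz₀]
  have hexp : ∀ x ∈ T, x ^ p = 1 := by
    intro x hx
    by_cases hx1 : x = 1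
    · rw [hx1, one_pow]
    · rw [← hxp, ← hord x hx hx1]; exact pow_orderOf_eq_one x
  have hTp : IsPGroup p T := by
    intro u
    refine ⟨1, ?_⟩
    apply Subtype.ext
    rw [pow_one]
    push_cast
    exact hexp u u.2
  have := hTp.center_nontrivial
  obtain ⟨⟨z, hz⟩, hzne⟩ := exists_ne (1 : Subgroup.center T)
  have hz1 : (z : Perm α) ≠ 1 := by
    intro h
    apply hzne
    apply Subtype.ext
    apply Subtype.ext
    exact h
  have hzc : ∀ y ∈ T, y * (z : Perm α) = (z : Perm α) * y := by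
    intro y hy
    exact congrArg Subtype.val ((Subgroup.mem_center_iff.mp hz) ⟨y, hy⟩)
  obtain ⟨s, hs, hsa⟩ := htrans₀ a ((z : Perm α) a)
  have hzs : s⁻¹ * (z : Perm α) = 1 := by
    ext b
    obtain ⟨t, ht, rfl⟩ := htransT a b
    change (s⁻¹ * (z : Perm α)) (t a) = t a
    have h1 := hzc t ht
    have h2 : t * s = s * t := hcomm₀ t ht s hs
    have h3 : (z : Perm α) (t a) = t ((z : Perm α) a) := by
      have := congrArg (fun w : Perm α => w a) h1
      simpa [Perm.mul_apply] using this.symm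
    have h4 : t (s a) = s (t a) := by
      have := congrArg (fun w : Perm α => w a) h2
      simpa [Perm.mul_apply] using this
    simp only [Perm.mul_apply]
    rw [h3, ← hsa, h4]; simp
  have hzs' : (z : Perm α) = s := by
    have := congrArg (fun w => s * w) hzs
    simpa using this
  have hzI : (z : Perm α) ∈ T ⊓ T.map (MulAut.conj g₀).toMonoidHom :=
    ⟨z.2, by rw [hzs']; exact hs⟩
  rw [hI₀, Subgroup.mem_bot] at hzI
  exact hz1 hzI

end Cfsg.Agent.H16
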