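import Mathlib

/-!
# S5201-AVG: averaging a cocycle over a cyclic group of coprime order
-/

set_option autoImplicit false

namespace Cfsg.Agent.H16.Cen

universe u

theorem exists_mul_commute {G : Type u} [Group G] (K : Subgroup G) [Finite K]
    (hKc : ∀ x ∈ K, ∀ y ∈ K, x * y = y * x) (h a : G) (n : ℕ) (hn : h ^ n = 1)
    (hcop : n.Coprime (Nat.card K)) (hhK : ∀ x ∈ K, h * x * h⁻¹ ∈ K)
    (hu : a⁻¹ * h * a * h⁻¹ ∈ K) : ∃ κ ∈ K, h * (a * κ) = a * κ * h := by
  classical
  letI : CommGroup K := { (inferInstance : Group K) with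
    mul_comm := fun x y => Subtype.ext (hKc x x.2 y y.2) }
  let σ : K →* K :=
    { toFun := fun x => ⟨h * x * h⁻¹, hhK x x.2⟩
      map_one' := by
        apply Subtype.ext
        simp
      map_mul' := by
        intro x y
        apply Subtype.ext
        simp [mul_assoc] }
  have hσ : ∀ x : K, ((σ x : K) : G) = h * x * h⁻¹ := fun x => rfl
  obtain ⟨u, hu'⟩ : ∃ u : K, (u : G) = a⁻¹ * h * a * h⁻¹ := ⟨⟨_, hu⟩, rfl⟩
  have hN : ∀ i : ℕ, ∃ y : K, (y : G) = a⁻¹ * h ^ i * a * (h ^ i)⁻¹ := by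
    intro i
    induction i with
    | zero => exact ⟨1, by simp⟩
    | succ i ih =>
      obtain ⟨y, hy⟩ := ih
      refine ⟨u * σ y, ?_⟩
      rw [Subgroup.coe_mul, hσ, hu', hy, pow_succ']
      group
  choose N hNv using hN
  have hN0 : N 0 = 1 := by
    apply Subtype.ext
    rw [hNv]
    simp
  have hNn : N n = 1 := by
    apply Subtype.ext
    rw [hNv, hn]
    simp
  have hNs : ∀ i : ℕ, N (i + 1) = u * σ (N i) := by
    intro i
    apply Subtype.ext
    rw [Subgroup.coe_mul, hσ, hu', hNv, hNv, pow_succ']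
    group
  have hP : u ^ n * σ (∏ i ∈ Finset.range n, N i) = ∏ i ∈ Finset.range n, N i := by
    rw [map_prod]
    have h1 : u ^ n = ∏ _i ∈ Finset.range n, u := by
      rw [Finset.prod_const, Finset.card_range]
    rw [h1, ← Finset.prod_mul_distrib]
    have h2 : ∏ i ∈ Finset.range n, u * σ (N i) = ∏ i ∈ Finset.range n, N (i + 1) :=
      Finset.prod_congr rfl (fun i _ => (hNs i).symm)
    rw [h2]
    have h3 := Finset.prod_range_succ (fun i => N i) n
    have h4 := Finset.prod_range_succ' (fun i => N i) n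
    rw [hNn, mul_one] at h3
    rw [hN0, mul_one] at h4
    rw [← h4, h3]
  have hcop' : (Nat.card K).Coprime n := hcop.symm
  obtain ⟨κ, hκ⟩ : ∃ κ : K, κ ^ n = ∏ i ∈ Finset.range n, N i :=
    (powCoprime hcop').surjective _
  have h5 : (u * σ κ) ^ n = κ ^ n := by
    rw [mul_pow, ← map_pow, hκ, hP]
  have h6 : u * σ κ = κ := (powCoprime hcop').injective h5
  refine ⟨κ, κ.2, ?_⟩
  have h7 := congrArg Subtype.val h6
  rw [Subgroup.coe_mul, hσ, hu'] at h7
  have h8 : h * (a * (κ : G)) = a * (a⁻¹ * h * a * h⁻¹ * (h * (κ : G) * h⁻¹)) * h := by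
    group
  rw [h8, h7]

end Cfsg.Agent.H16.Cen
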