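import Mathlib
import Cfsg.Prelude.Def_Characters
import Cfsg.Agent.H4.Chars
import Cfsg.Agent.H4.Integral
import Cfsg.Agent.H4.RealClasses
import Cfsg.Agent.H4.PaQb
import Cfsg.Agent.H4.IrrCount

/-!
# A Feit–Thompson inequality

Let `H` be an abelian subgroup of `G` with `H ∩ Z(G) = 1` such that the centralizer of every
non-central element meets at most one conjugate of `H` non-trivially.  If `χ` is irreducible and
`H ⊄ ker χ` then `|H| ⟨χ_H, 1⟩² ≤ χ(1)² (1 - |N_G(H)|/|G|) < χ(1)²`.
-/

set_option autoImplicit false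
set_option linter.unusedSectionVars false

namespace Cfsg.Agent.H16

open Cfsg Cfsg.Agent.H4 Module Representation
open scoped ComplexConjugate

universe u v w

section RangeSub

variable {k : Type*} [Field k] {G : Type*} [Monoid G] {V : Type*} [AddCommGroup V] [Module k V]

/-- The range of an endomorphism commuting with a representation, as a subrepresentation. -/
def rangeSub (ρ : Representation k G V) (P : Module.End k V) (hP : ∀ g, ρ g * P = P * ρ g) :
    Subrepresentation ρ where
  toSubmodule := LinearMap.range P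
  apply_mem_toSubmodule := by
    rintro g _ ⟨v, rfl⟩
    refine ⟨ρ g v, ?_⟩
    have := congrArg (fun T : Module.End k V => T v) (hP g)
    simp only [Module.End.mul_apply] at this
    exact this.symm

theorem rangeSub_character [FiniteDimensional k V] (ρ : Representation k G V)
    (P : Module.End k V) (hP : ∀ g, ρ g * P = P * ρ g) (hidem : P * P = P) (g : G) :
    (rangeSub ρ P hP).toRepresentation.character g = LinearMap.trace k V (ρ g * P) := by
  have hf : ∀ v, (ρ g * P) v ∈ LinearMap.range P := by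
    intro v
    rw [hP]; exact ⟨_, rfl⟩
  rw [← LinearMap.trace_restrict_eq_of_forall_mem (LinearMap.range P) _ hf]
  unfold Representation.character
  congr 1
  apply LinearMap.ext
  rintro ⟨y, z, rfl⟩
  apply Subtype.ext
  change ρ g (P z) = ρ g (P (P z))
  have := congrArg (fun T : Module.End k V => T z) hidem
  simp only [Module.End.mul_apply] at this
  rw [this]

end RangeSub

section FTGroup

variable {G : Type u} [Group G]

theorem conj_mem_normalizer_of_map_eq (H : Subgroup G) {a b : G}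
    (h : H.map (MulAut.conj a).toMonoidHom = H.map (MulAut.conj b).toMonoidHom) :
    b⁻¹ * a ∈ Subgroup.normalizer (H : Set G) := by
  rw [Subgroup.mem_normalizer_iff]
  intro k
  constructor
  · intro hk
    have h1 : a * k * a⁻¹ ∈ H.map (MulAut.conj b).toMonoidHom := by
      rw [← h]; exact ⟨k, hk, by simp⟩
    obtain ⟨k', hk', e⟩ := h1
    have e' : b * k' * b⁻¹ = a * k * a⁻¹ := by simpa using e
    have e2 : b⁻¹ * a * k * (b⁻¹ * a)⁻¹ = k' := by
      have : k' = b⁻¹ * (b * k' * b⁻¹) * b := by group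
      rw [this, e']; group
    rw [e2]; exact hk'
  · intro hk
    have h1 : b * (b⁻¹ * a * k * (b⁻¹ * a)⁻¹) * b⁻¹ ∈ H.map (MulAut.conj a).toMonoidHom := by
      rw [h]; exact ⟨_, hk, by simp⟩
    obtain ⟨k', hk', e⟩ := h1
    have e' : a * k' * a⁻¹ = b * (b⁻¹ * a * k * (b⁻¹ * a)⁻¹) * b⁻¹ := by simpa using e
    have e2 : k = k' := by
      have : k' = a⁻¹ * (a * k' * a⁻¹) * a := by group
      rw [this, e']; group
    rw [e2]; exact hk'

/-- The elements commuting with some non-trivial element of `H`. -/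
def ftD (H : Subgroup G) : Set G := {g | ∃ h ∈ H, h ≠ 1 ∧ g * h = h * g}

theorem ne_bot_of_conj_mem_ftD (H : Subgroup G) {g x : G} (hx : x⁻¹ * g * x ∈ ftD H) :
    Subgroup.centralizer ({g} : Set G) ⊓ H.map (MulAut.conj x).toMonoidHom ≠ ⊥ := by
  obtain ⟨h, hh, h1, hc⟩ := hx
  intro hbot
  have hmem : x * h * x⁻¹ ∈ Subgroup.centralizer ({g} : Set G) ⊓
      H.map (MulAut.conj x).toMonoidHom := by
    refine Subgroup.mem_inf.mpr ⟨?_, ⟨h, hh, by simp⟩⟩
    rw [Subgroup.mem_centralizer_iff]
    intro y hy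
    rw [Set.mem_singleton_iff] at hy
    subst hy
    have : y * (x * h * x⁻¹) = x * (x⁻¹ * y * x * h) * x⁻¹ := by group
    rw [this, hc]; group
  rw [hbot, Subgroup.mem_bot] at hmem
  apply h1
  have : h = x⁻¹ * (x * h * x⁻¹) * x := by group
  rw [this, hmem]; group

theorem ftD_le_normalizer (H : Subgroup G) (hZ : H ⊓ Subgroup.center G = ⊥)
    (hone : ∀ g : G, g ∉ Subgroup.center G → ∀ a b : G,
      Subgroup.centralizer ({g} : Set G) ⊓ H.map (MulAut.conj a).toMonoidHom ≠ ⊥ →
      Subgroup.centralizer ({g} : Set G) ⊓ H.map (MulAut.conj b).toMonoidHom ≠ ⊥ →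
      H.map (MulAut.conj a).toMonoidHom = H.map (MulAut.conj b).toMonoidHom)
    {g : G} (hg : g ∈ ftD H) : g ∈ Subgroup.normalizer (H : Set G) := by
  obtain ⟨h, hh, h1, hc⟩ := hg
  have hnc : h ∉ Subgroup.center G := fun hz => h1 (by
    have : h ∈ H ⊓ Subgroup.center G := ⟨hh, hz⟩
    rw [hZ] at this; exact Subgroup.mem_bot.mp this)
  have h1' : Subgroup.centralizer ({h} : Set G) ⊓ H.map (MulAut.conj 1).toMonoidHom ≠ ⊥ := by
    apply ne_bot_of_conj_mem_ftD
    exact ⟨h, hh, h1, by simp⟩
  have h2' : Subgroup.centralizer ({h} : Set G) ⊓ H.map (MulAut.conj g).toMonoidHom ≠ ⊥ := by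
    apply ne_bot_of_conj_mem_ftD
    refine ⟨h, hh, h1, ?_⟩
    have : g⁻¹ * h * g = g⁻¹ * (h * g) := by group
    rw [this, ← hc]; group
  have h3 := conj_mem_normalizer_of_map_eq H (hone h hnc g 1 h2' h1')
  simpa using h3

theorem card_filter_conj_mem_ftD_le [Fintype G] (H : Subgroup G)
    (hone : ∀ g : G, g ∉ Subgroup.center G → ∀ a b : G,
      Subgroup.centralizer ({g} : Set G) ⊓ H.map (MulAut.conj a).toMonoidHom ≠ ⊥ →
      Subgroup.centralizer ({g} : Set G) ⊓ H.map (MulAut.conj b).toMonoidHom ≠ ⊥ →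
      H.map (MulAut.conj a).toMonoidHom = H.map (MulAut.conj b).toMonoidHom)
    (g : G) (hg : g ∉ Subgroup.center G) [DecidablePred (· ∈ ftD H)] :
    (Finset.univ.filter (fun x : G => x⁻¹ * g * x ∈ ftD H)).card ≤ Nat.card (Subgroup.normalizer (H : Set G)) := by
  classical
  rcases (Finset.univ.filter (fun x : G => x⁻¹ * g * x ∈ ftD H)).eq_empty_or_nonempty with
    h0 | ⟨y, hy⟩
  · rw [h0]; simp
  · rw [Nat.subtype_card (Finset.univ.filter (· ∈ Subgroup.normalizer (H : Set G))) (by simp)]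
    refine Finset.card_le_card_of_injOn (fun x => y⁻¹ * x) ?_ ?_
    · intro x hx
      rw [Finset.mem_coe, Finset.mem_filter] at hx
      rw [Finset.mem_filter] at hy
      rw [Finset.mem_coe, Finset.mem_filter]
      exact ⟨Finset.mem_univ _, conj_mem_normalizer_of_map_eq H
        (hone g hg x y (ne_bot_of_conj_mem_ftD H hx.2) (ne_bot_of_conj_mem_ftD H hy.2))⟩
    · intro x _ x' _ hxx
      exact mul_left_cancel hxx

/-- The counting inequality: a non-negative class function summed over `ftD H`. -/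
theorem ft_upper [Fintype G] (H : Subgroup G)
    (hone : ∀ g : G, g ∉ Subgroup.center G → ∀ a b : G,
      Subgroup.centralizer ({g} : Set G) ⊓ H.map (MulAut.conj a).toMonoidHom ≠ ⊥ →
      Subgroup.centralizer ({g} : Set G) ⊓ H.map (MulAut.conj b).toMonoidHom ≠ ⊥ →
      H.map (MulAut.conj a).toMonoidHom = H.map (MulAut.conj b).toMonoidHom)
    (w : G → ℝ) (hw : ∀ g, 0 ≤ w g) (hcl : ∀ g x, w (x * g * x⁻¹) = w g)
    [DecidablePred (· ∈ ftD H)] [DecidablePred (· ∈ Subgroup.center G)] :
    (Fintype.card G : ℝ) * ∑ g ∈ Finset.univ.filter (· ∈ ftD H), w g ≤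
      (Nat.card (Subgroup.normalizer (H : Set G)) : ℝ) * ∑ g ∈ Finset.univ.filter (· ∉ Subgroup.center G), w g +
        (Fintype.card G : ℝ) * ∑ g ∈ Finset.univ.filter (· ∈ Subgroup.center G), w g := by
  classical
  have h1 : ∀ x : G, ∑ g ∈ Finset.univ.filter (· ∈ ftD H), w g =
      ∑ g : G, if x⁻¹ * g * x ∈ ftD H then w g else 0 := by
    intro x
    rw [Finset.sum_filter, ← Equiv.sum_comp (MulAut.conj x⁻¹).toEquiv]
    refine Finset.sum_congr rfl fun g _ => ?_
    have e1 : (MulAut.conj x⁻¹).toEquiv g = x⁻¹ * g * x := by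
      simp
    have e2 : w (x⁻¹ * g * x) = w g := by
      simpa using hcl g x⁻¹
    rw [e1, e2]
  have h2 : (Fintype.card G : ℝ) * ∑ g ∈ Finset.univ.filter (· ∈ ftD H), w g =
      ∑ g : G, ((Finset.univ.filter (fun x : G => x⁻¹ * g * x ∈ ftD H)).card : ℝ) * w g := by
    calc (Fintype.card G : ℝ) * ∑ g ∈ Finset.univ.filter (· ∈ ftD H), w g
        = ∑ x : G, ∑ g ∈ Finset.univ.filter (· ∈ ftD H), w g := by
          simp [Finset.sum_const, Finset.card_univ]
      _ = ∑ x : G, ∑ g : G, if x⁻¹ * g * x ∈ ftD H then w g else 0 :=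
          Finset.sum_congr rfl fun x _ => h1 x
      _ = ∑ g : G, ∑ x : G, if x⁻¹ * g * x ∈ ftD H then w g else 0 := Finset.sum_comm
      _ = _ := Finset.sum_congr rfl fun g _ => by
          rw [← Finset.sum_filter, Finset.sum_const, nsmul_eq_mul]
  rw [h2, Finset.mul_sum, Finset.mul_sum, Finset.sum_filter, Finset.sum_filter,
    ← Finset.sum_add_distrib]
  refine Finset.sum_le_sum fun g _ => ?_
  by_cases hg : g ∈ Subgroup.center G
  · simp only [hg, not_true_eq_false, if_false, if_true, zero_add]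
    refine mul_le_mul_of_nonneg_right ?_ (hw g)
    exact_mod_cast Finset.card_le_univ _
  · simp only [hg, not_false_eq_true, if_false, if_true, add_zero]
    refine mul_le_mul_of_nonneg_right ?_ (hw g)
    exact_mod_cast card_filter_conj_mem_ftD_le H hone g hg

end FTGroup

noncomputable section FTChar

open Classical

variable {G : Type u} [Group G] [Fintype G]

/-- The right `H`-average of a function. -/
def ftA (H : Subgroup G) (χ : G → ℂ) (g : G) : ℂ :=
  (Nat.card H : ℂ)⁻¹ * ∑ h ∈ Finset.univ.filter (· ∈ H), χ (g * h)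

theorem card_filter_mem (H : Subgroup G) :
    (Finset.univ.filter (· ∈ H)).card = Nat.card H :=
  (Nat.subtype_card (Finset.univ.filter (· ∈ H)) (by simp)).symm

theorem natCard_ne_zero (H : Subgroup G) : (Nat.card H : ℂ) ≠ 0 := by
  exact_mod_cast (Nat.card_pos (α := H)).ne'

theorem ftA_mul_right (H : Subgroup G) (χ : G → ℂ) (g : G) {k : G} (hk : k ∈ H) :
    ftA H χ (g * k) = ftA H χ g := by
  unfold ftA
  congr 1
  refine Finset.sum_equiv (Equiv.mulLeft k) ?_ ?_
  · intro h
    simp [Subgroup.mul_mem_cancel_left _ hk]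
  · intro h _
    simp [mul_assoc]

theorem ftA_of_const (H : Subgroup G) (χ : G → ℂ) (g : G) (h : ∀ k ∈ H, χ (g * k) = χ g) :
    ftA H χ g = χ g := by
  unfold ftA
  rw [Finset.sum_congr rfl (fun k hk => h k (by simpa using hk)), Finset.sum_const,
    card_filter_mem, nsmul_eq_mul, ← mul_assoc, inv_mul_cancel₀ (natCard_ne_zero H), one_mul]

/-- Pythagoras for the `H`-average on a subgroup `N ≥ H`. -/
theorem ftA_pythagoras (H N : Subgroup G) (hHN : H ≤ N) (χ : G → ℂ) :
    ∑ g ∈ Finset.univ.filter (· ∈ N), Complex.normSq (χ g) =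
      ∑ g ∈ Finset.univ.filter (· ∈ N), Complex.normSq (ftA H χ g) +
        ∑ g ∈ Finset.univ.filter (· ∈ N), Complex.normSq (χ g - ftA H χ g) := by
  have hconj : conj ((Nat.card H : ℂ)⁻¹) = (Nat.card H : ℂ)⁻¹ := by
    rw [map_inv₀, map_natCast]
  have key : ∑ g ∈ Finset.univ.filter (· ∈ N), ftA H χ g * conj (ftA H χ g) =
      ∑ g ∈ Finset.univ.filter (· ∈ N), ftA H χ g * conj (χ g) := by
    have h1 : ∀ g, ftA H χ g * conj (ftA H χ g) =
        (Nat.card H : ℂ)⁻¹ * ∑ h ∈ Finset.univ.filter (· ∈ H), ftA H χ g * conj (χ (g * h)) := by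
      intro g
      conv_lhs => rw [show conj (ftA H χ g) = (Nat.card H : ℂ)⁻¹ *
        ∑ h ∈ Finset.univ.filter (· ∈ H), conj (χ (g * h)) by
          unfold ftA; rw [map_mul, hconj, map_sum]]
      rw [Finset.mul_sum, Finset.mul_sum, Finset.mul_sum]
      refine Finset.sum_congr rfl fun h _ => ?_
      ring
    simp only [h1]
    rw [← Finset.mul_sum, Finset.sum_comm]
    have h2 : ∀ h ∈ Finset.univ.filter (· ∈ H),
        ∑ g ∈ Finset.univ.filter (· ∈ N), ftA H χ g * conj (χ (g * h)) =
          ∑ g ∈ Finset.univ.filter (· ∈ N), ftA H χ g * conj (χ g) := by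
      intro h hh
      have hh' : h ∈ H := by simpa using hh
      refine Finset.sum_equiv (Equiv.mulRight h) ?_ ?_
      · intro g
        simp [Subgroup.mul_mem_cancel_right _ (hHN hh')]
      · intro g _
        simp [ftA_mul_right H χ g hh']
    rw [Finset.sum_congr rfl h2, Finset.sum_const, card_filter_mem, nsmul_eq_mul, ← mul_assoc,
      inv_mul_cancel₀ (natCard_ne_zero H), one_mul]
  have hterm : ∀ g, Complex.normSq (χ g) = Complex.normSq (ftA H χ g) +
      Complex.normSq (χ g - ftA H χ g) + 2 * (ftA H χ g * conj (χ g - ftA H χ g)).re := by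
    intro g
    have := Complex.normSq_add (ftA H χ g) (χ g - ftA H χ g)
    rw [add_sub_cancel] at this
    exact this
  have hzero : ∑ g ∈ Finset.univ.filter (· ∈ N), (ftA H χ g * conj (χ g - ftA H χ g)).re = 0 := by
    rw [← Complex.re_sum]
    have : ∑ g ∈ Finset.univ.filter (· ∈ N), ftA H χ g * conj (χ g - ftA H χ g) = 0 := by
      simp only [map_sub, mul_sub, Finset.sum_sub_distrib]
      rw [key, sub_self]
    rw [this, Complex.zero_re]
  simp only [hterm, Finset.sum_add_distrib, ← Finset.mul_sum, hzero, mul_zero, add_zero]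

/-- On elements of the normalizer outside `ftD H`, a class function equals its `H`-average. -/
theorem ftA_eq_of_not_mem_ftD (H : Subgroup G) (χ : G → ℂ)
    (hcl : ∀ g x, χ (x * g * x⁻¹) = χ g) {g : G}
    (hg : g ∈ Subgroup.normalizer (H : Set G)) (hgD : g ∉ ftD H) : ftA H χ g = χ g := by
  apply ftA_of_const
  intro h hh
  have hnorm := Subgroup.mem_normalizer_iff.mp hg
  -- the map k ↦ k g k⁻¹ g⁻¹ on H
  let κ : H → H := fun k => ⟨(k : G) * g * (k : G)⁻¹ * g⁻¹, by
    have : g * (k : G)⁻¹ * g⁻¹ ∈ H := (hnorm _).mp (H.inv_mem k.2)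
    have h2 : (k : G) * g * (k : G)⁻¹ * g⁻¹ = k * (g * (k : G)⁻¹ * g⁻¹) := by group
    rw [h2]; exact H.mul_mem k.2 this⟩
  have hinj : Function.Injective κ := by
    intro k k' hkk
    have e : (k : G) * g * (k : G)⁻¹ * g⁻¹ = k' * g * (k' : G)⁻¹ * g⁻¹ := congrArg Subtype.val hkk
    by_contra hne
    apply hgD
    refine ⟨(k : G)⁻¹ * k', H.mul_mem (H.inv_mem k.2) k'.2, ?_, ?_⟩
    · intro h1
      apply hne
      apply Subtype.ext
      have : (k' : G) = k * ((k : G)⁻¹ * k') := by group
      rw [this, h1, mul_one]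
    · have e2 : (k : G) * g * (k : G)⁻¹ = k' * g * (k' : G)⁻¹ := mul_right_cancel e
      have e3 : g * ((k : G)⁻¹ * k') = (k : G)⁻¹ * ((k : G) * g * (k : G)⁻¹) * k' := by group
      rw [e3, e2]; group
  have hsurj : Function.Surjective κ := Finite.injective_iff_surjective.mp hinj
  obtain ⟨k, hk⟩ := hsurj ⟨g * h * g⁻¹, (hnorm h).mp hh⟩
  have e : (k : G) * g * (k : G)⁻¹ * g⁻¹ = g * h * g⁻¹ := congrArg Subtype.val hk
  have e2 : g * h = (k : G) * g * (k : G)⁻¹ := by
    have := mul_right_cancel e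
    exact this.symm
  rw [e2, hcl]

theorem ftA_center_mul (H : Subgroup G) (χ : G → ℂ) {z : G} (hz : z ∈ Subgroup.center G) (c : ℂ)
    (hc : ∀ g, χ (z * g) = c * χ g) (h : G) : ftA H χ (h * z) = c * ftA H χ h := by
  unfold ftA
  have h1 : ∑ k ∈ Finset.univ.filter (· ∈ H), χ (h * z * k) =
      c * ∑ k ∈ Finset.univ.filter (· ∈ H), χ (h * k) := by
    rw [Finset.mul_sum]
    refine Finset.sum_congr rfl fun k _ => ?_
    have : h * z * k = z * (h * k) := by
      rw [(Subgroup.mem_center_iff.mp hz h), mul_assoc]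
    rw [this, hc]
  rw [h1]
  ring

/-- The part of the character on the normalizer not fixed by `H` has norm at least one. -/
theorem ft_complement_norm {V : Type v} [AddCommGroup V] [Module ℂ V] [FiniteDimensional ℂ V]
    (H : Subgroup G) (ρ : Representation ℂ G V)
    (hker : ∃ h ∈ H, ρ.character h ≠ ρ.character 1) :
    (Nat.card (Subgroup.normalizer (H : Set G)) : ℝ) ≤
      ∑ g ∈ Finset.univ.filter (· ∈ Subgroup.normalizer (H : Set G)),
        Complex.normSq (ρ.character g - ftA H ρ.character g) := by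
  set N := Subgroup.normalizer (H : Set G) with hN
  have hcH := natCard_ne_zero H
  let e : Module.End ℂ V := (Nat.card H : ℂ)⁻¹ • ∑ h ∈ Finset.univ.filter (· ∈ H), ρ h
  have he_left : ∀ k ∈ H, ρ k * e = e := by
    intro k hk
    simp only [e, mul_smul_comm, Finset.mul_sum]
    congr 1
    refine Finset.sum_equiv (Equiv.mulLeft k) ?_ ?_
    · intro h
      simp [Subgroup.mul_mem_cancel_left _ hk]
    · intro h _
      simp
  have he_idem : e * e = e := by
    calc e * e = (Nat.card H : ℂ)⁻¹ • ∑ h ∈ Finset.univ.filter (· ∈ H), ρ h * e := by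
          conv_lhs => rw [show e = (Nat.card H : ℂ)⁻¹ • ∑ h ∈ Finset.univ.filter (· ∈ H), ρ h
            from rfl, smul_mul_assoc, Finset.sum_mul]
      _ = (Nat.card H : ℂ)⁻¹ • ∑ h ∈ Finset.univ.filter (· ∈ H), e := by
          congr 1
          exact Finset.sum_congr rfl fun h hh => he_left h (by simpa using hh)
      _ = e := by
          rw [Finset.sum_const, card_filter_mem, ← Nat.cast_smul_eq_nsmul ℂ, smul_smul,
            inv_mul_cancel₀ hcH, one_smul]
  have he_comm : ∀ g ∈ N, ρ g * e = e * ρ g := by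
    intro g hg
    simp only [e, mul_smul_comm, smul_mul_assoc, Finset.mul_sum, Finset.sum_mul]
    congr 1
    refine Finset.sum_equiv (MulAut.conj g).toEquiv ?_ ?_
    · intro h
      simpa using Subgroup.mem_normalizer_iff.mp hg h
    · intro h _
      simp [← map_mul]
  have htr : ∀ g : G, LinearMap.trace ℂ V (ρ g * e) = ftA H ρ.character g := by
    intro g
    simp only [e, mul_smul_comm, Finset.mul_sum, map_smul, map_sum, smul_eq_mul, ← map_mul]
    unfold ftA
    rw [Finset.mul_sum]
    rfl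
  let ρN : Representation ℂ N V := ρ.comp N.subtype
  have he'_idem : (1 - e) * (1 - e) = 1 - e := by
    rw [mul_sub, mul_one, sub_mul, one_mul, he_idem, sub_self, sub_zero]
  have he'_comm : ∀ g : N, ρN g * (1 - e) = (1 - e) * ρN g := by
    intro g
    have : ρN g = ρ (g : G) := rfl
    rw [this, mul_sub, sub_mul, mul_one, one_mul, he_comm g g.2]
  let U := rangeSub ρN (1 - e) he'_comm
  have hψ : ∀ g : N, U.toRepresentation.character g =
      ρ.character (g : G) - ftA H ρ.character (g : G) := by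
    intro g
    rw [rangeSub_character ρN (1 - e) he'_comm he'_idem g]
    have : ρN g = ρ (g : G) := rfl
    rw [this, mul_sub, mul_one, map_sub, htr]
    rfl
  have hchar : IsCharacter N U.toRepresentation.character := isCharacter_of_rep _
  have hne : U.toRepresentation.character ≠ 0 := by
    intro h0
    obtain ⟨h, hh, hχ⟩ := hker
    apply hχ
    have hhN : h ∈ N := Subgroup.le_normalizer hh
    have e1 := congrFun h0 ⟨h, hhN⟩
    have e2 := congrFun h0 (1 : N)
    rw [hψ] at e1 e2
    simp only [Pi.zero_apply, sub_eq_zero] at e1 e2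
    have e3 : ftA H ρ.character h = ftA H ρ.character 1 := by
      have := ftA_mul_right H ρ.character 1 hh
      rwa [one_mul] at this
    rw [e1, e3]
    exact e2.symm
  obtain ⟨m, hm⟩ := classInner_isCharacter_nat hchar hchar
  have hsum : ∑ g : N, Complex.normSq (U.toRepresentation.character g) =
      (m : ℝ) * (Nat.card N : ℝ) := by
    have hNc : (Nat.card N : ℂ) ≠ 0 := natCard_ne_zero N
    unfold classInner at hm
    have h1 : ∑ g : N, U.toRepresentation.character g * conj (U.toRepresentation.character g) =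
        (m : ℂ) * (Nat.card N : ℂ) := by
      rw [← hm]; field_simp
    have h2 : ((∑ g : N, Complex.normSq (U.toRepresentation.character g) : ℝ) : ℂ) =
        (((m : ℝ) * (Nat.card N : ℝ) : ℝ) : ℂ) := by
      push_cast
      rw [← h1]
      refine Finset.sum_congr rfl fun g _ => ?_
      rw [Complex.mul_conj]
    exact_mod_cast h2
  have hm1 : 1 ≤ m := by
    rw [Nat.one_le_iff_ne_zero]
    intro h0
    rw [h0, Nat.cast_zero, zero_mul] at hsum
    apply hne
    funext g
    have := (Finset.sum_eq_zero_iff_of_nonneg (fun g _ => Complex.normSq_nonneg _)).mp hsum g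
      (Finset.mem_univ g)
    exact Complex.normSq_eq_zero.mp this
  have hconv : ∑ g ∈ Finset.univ.filter (· ∈ N),
      Complex.normSq (ρ.character g - ftA H ρ.character g) =
        ∑ g : N, Complex.normSq (U.toRepresentation.character g) := by
    rw [Finset.sum_subtype (Finset.univ.filter (· ∈ N)) (p := (· ∈ N)) (by simp)]
    refine Finset.sum_congr rfl fun g _ => ?_
    rw [hψ]
  rw [hconv, hsum]
  have : (1 : ℝ) ≤ (m : ℝ) := by exact_mod_cast hm1
  have hNpos : (0 : ℝ) ≤ (Nat.card N : ℝ) := Nat.cast_nonneg _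
  nlinarith

/-- Central elements act on an irreducible character by a scalar. -/
theorem exists_central_scalar {V : Type v} [AddCommGroup V] [Module ℂ V] [FiniteDimensional ℂ V]
    (ρ : Representation ℂ G V) [ρ.IsIrreducible] {z : G} (hz : z ∈ Subgroup.center G) :
    ∃ c : ℂ, ∀ g, ρ.character (z * g) = c * ρ.character g := by
  obtain ⟨c, hc⟩ := exists_smul_id_of_comm ρ (ρ z) (fun g => by
    rw [← Module.End.mul_eq_comp, ← Module.End.mul_eq_comp, ← map_mul, ← map_mul,
      Subgroup.mem_center_iff.mp hz g])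
  refine ⟨c, fun g => ?_⟩
  unfold Representation.character
  rw [map_mul, hc]
  change LinearMap.trace ℂ V ((c • LinearMap.id) ∘ₗ ρ g) = _
  rw [LinearMap.smul_comp, LinearMap.id_comp, map_smul, smul_eq_mul]

/-- **Feit–Thompson inequality.** -/
theorem ft_ineq (H : Subgroup G) (hab : ∀ a ∈ H, ∀ b ∈ H, a * b = b * a)
    (hZ : H ⊓ Subgroup.center G = ⊥)
    (hone : ∀ g : G, g ∉ Subgroup.center G → ∀ a b : G,
      Subgroup.centralizer ({g} : Set G) ⊓ H.map (MulAut.conj a).toMonoidHom ≠ ⊥ →
      Subgroup.centralizer ({g} : Set G) ⊓ H.map (MulAut.conj b).toMonoidHom ≠ ⊥ →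
      H.map (MulAut.conj a).toMonoidHom = H.map (MulAut.conj b).toMonoidHom)
    (χ : G → ℂ) (hχ : IsIrrCharacter G χ) (hker : ∃ h ∈ H, χ h ≠ χ 1) :
    (Nat.card H : ℝ) * Complex.normSq (ftA H χ 1) < Complex.normSq (χ 1) := by
  obtain ⟨n, ρ, hρ, rfl⟩ := hχ
  have := hρ
  have hcl : ∀ g x, ρ.character (x * g * x⁻¹) = ρ.character g :=
    fun g x => Representation.char_conj ρ g x
  set χ := ρ.character with hχdef
  set N := Subgroup.normalizer (H : Set G) with hN
  set w : G → ℝ := fun g => Complex.normSq (χ g) with hw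
  have hF1 : ∑ g : G, w g = (Fintype.card G : ℝ) := by
    have h1 := irr_inner_self ⟨χ, ⟨n, ρ, hρ, rfl⟩⟩
    unfold classInner at h1
    have hcard : (Nat.card G : ℂ) ≠ 0 := by exact_mod_cast (Nat.card_pos (α := G)).ne'
    have h2 : ∑ g : G, χ g * conj (χ g) = (Nat.card G : ℂ) := by
      have : (Nat.card G : ℂ) * ((Nat.card G : ℂ)⁻¹ * ∑ g : G, χ g * conj (χ g)) =
          (Nat.card G : ℂ) * 1 := by rw [h1]
      rw [← mul_assoc, mul_inv_cancel₀ hcard, one_mul, mul_one] at this
      exact this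
    have h3 : ((∑ g : G, w g : ℝ) : ℂ) = ((Fintype.card G : ℝ) : ℂ) := by
      push_cast
      rw [← Nat.card_eq_fintype_card, ← h2]
      refine Finset.sum_congr rfl fun g _ => ?_
      rw [Complex.mul_conj]
    exact_mod_cast h3
  have hcen : ∀ z : G, ∃ c : ℂ, z ∈ Subgroup.center G → ∀ g, χ (z * g) = c * χ g := by
    intro z
    by_cases hz : z ∈ Subgroup.center G
    · obtain ⟨c, hc⟩ := exists_central_scalar ρ hz
      exact ⟨c, fun _ => hc⟩
    · exact ⟨0, fun h => absurd h hz⟩
  choose c hc using hcen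
  set Ω : ℝ := ∑ z ∈ Finset.univ.filter (· ∈ Subgroup.center G), Complex.normSq (c z) with hΩ
  have hχ1 : χ 1 ≠ 0 := by
    rw [hχdef, Representation.char_one]
    exact_mod_cast (finrank_pos_of_irreducible ρ).ne'
  have hX : 0 < Complex.normSq (χ 1) := Complex.normSq_pos.mpr hχ1
  have hc1 : c 1 = 1 := by
    have h1 := hc 1 (Subgroup.one_mem _) 1
    rw [mul_one] at h1
    have h2 : (c 1 - 1) * χ 1 = 0 := by rw [sub_mul, one_mul, ← h1, sub_self]
    rcases mul_eq_zero.mp h2 with h | h
    · exact sub_eq_zero.mp h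
    · exact absurd h hχ1
  have hΩpos : 0 < Ω := by
    have h1 : Complex.normSq (c 1) ≤ Ω :=
      Finset.single_le_sum (f := fun z => Complex.normSq (c z))
        (fun z _ => Complex.normSq_nonneg _)
        (by simp : (1 : G) ∈ Finset.univ.filter (· ∈ Subgroup.center G))
    rw [hc1, Complex.normSq_one] at h1
    linarith
  have hζ : ∑ z ∈ Finset.univ.filter (· ∈ Subgroup.center G), w z =
      Ω * Complex.normSq (χ 1) := by
    rw [hΩ, Finset.sum_mul]
    refine Finset.sum_congr rfl fun z hz => ?_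
    have hz' : z ∈ Subgroup.center G := by simpa using hz
    have h1 := hc z hz' 1
    rw [mul_one] at h1
    simp only [hw]
    rw [h1, Complex.normSq_mul]
  have hup := ft_upper H hone w (fun g => Complex.normSq_nonneg _)
    (fun g x => by simp only [hw, hcl])
  have hsplit : ∑ g ∈ Finset.univ.filter (· ∉ Subgroup.center G), w g =
      (Fintype.card G : ℝ) - ∑ g ∈ Finset.univ.filter (· ∈ Subgroup.center G), w g := by
    rw [← hF1, ← Finset.sum_filter_add_sum_filter_not Finset.univ (· ∈ Subgroup.center G)]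
    ring
  rw [hsplit, hζ] at hup
  have hDN : Finset.univ.filter (· ∈ ftD H) ⊆ Finset.univ.filter (· ∈ N) := by
    intro g hg
    simp only [Finset.mem_filter, Finset.mem_univ, true_and] at hg ⊢
    exact ftD_le_normalizer H hZ hone hg
  have hP := ftA_pythagoras H N Subgroup.le_normalizer χ
  have hR := ft_complement_norm H ρ hker
  have hQ : ∑ g ∈ Finset.univ.filter (· ∈ N) \ Finset.univ.filter (· ∈ ftD H), w g =
      ∑ g ∈ Finset.univ.filter (· ∈ N) \ Finset.univ.filter (· ∈ ftD H),
        Complex.normSq (ftA H χ g) := by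
    refine Finset.sum_congr rfl fun g hg => ?_
    simp only [Finset.mem_sdiff, Finset.mem_filter, Finset.mem_univ, true_and] at hg
    simp only [hw]
    rw [ftA_eq_of_not_mem_ftD H χ hcl hg.1 hg.2]
  have hsd1 := Finset.sum_sdiff (f := w) hDN
  have hsd2 := Finset.sum_sdiff (f := fun g => Complex.normSq (ftA H χ g)) hDN
  obtain ⟨h₀, hh₀, hχh₀⟩ := hker
  have hh₀1 : h₀ ≠ 1 := by rintro rfl; exact hχh₀ rfl
  have hS : (Nat.card H : ℝ) * Complex.normSq (ftA H χ 1) * Ω ≤
      ∑ g ∈ Finset.univ.filter (· ∈ ftD H), Complex.normSq (ftA H χ g) := by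
    have hinj : Set.InjOn (fun p : G × G => p.1 * p.2)
        ((Finset.univ.filter (· ∈ H)) ×ˢ (Finset.univ.filter (· ∈ Subgroup.center G)) :
          Finset (G × G)) := by
      rintro ⟨h, z⟩ hp ⟨h', z'⟩ hp' heq
      simp only [Finset.coe_product, Set.mem_prod, Finset.mem_coe, Finset.mem_filter,
        Finset.mem_univ, true_and] at hp hp'
      simp only at heq
      have e1 : h'⁻¹ * h = z' * z⁻¹ := by
        have : h'⁻¹ * (h * z) * z⁻¹ = h'⁻¹ * h := by group
        rw [← this, heq]; group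
      have hm : h'⁻¹ * h ∈ H ⊓ Subgroup.center G :=
        ⟨H.mul_mem (H.inv_mem hp'.1) hp.1, by
          rw [e1]; exact Subgroup.mul_mem _ hp'.2 (Subgroup.inv_mem _ hp.2)⟩
      rw [hZ, Subgroup.mem_bot] at hm
      have hh : h = h' := by
        have : h = h' * (h'⁻¹ * h) := by group
        rw [this, hm, mul_one]
      subst hh
      have hz : z = z' := mul_left_cancel heq
      rw [hz]
    have himg : ((Finset.univ.filter (· ∈ H)) ×ˢ
        (Finset.univ.filter (· ∈ Subgroup.center G))).image (fun p : G × G => p.1 * p.2) ⊆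
          Finset.univ.filter (· ∈ ftD H) := by
      intro g hg
      rw [Finset.mem_image] at hg
      obtain ⟨⟨h, z⟩, hp, rfl⟩ := hg
      simp only [Finset.mem_product, Finset.mem_filter, Finset.mem_univ, true_and] at hp ⊢
      refine ⟨h₀, hh₀, hh₀1, ?_⟩
      have e1 : h₀ * z = z * h₀ := Subgroup.mem_center_iff.mp hp.2 h₀
      have e2 : h * h₀ = h₀ * h := hab h hp.1 h₀ hh₀
      calc h * z * h₀ = h * (z * h₀) := by group
        _ = h * (h₀ * z) := by rw [e1]
        _ = (h * h₀) * z := by group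
        _ = (h₀ * h) * z := by rw [e2]
        _ = h₀ * (h * z) := by group
    calc (Nat.card H : ℝ) * Complex.normSq (ftA H χ 1) * Ω
        = ∑ p ∈ (Finset.univ.filter (· ∈ H)) ×ˢ (Finset.univ.filter (· ∈ Subgroup.center G)),
            Complex.normSq (ftA H χ (p.1 * p.2)) := by
          rw [Finset.sum_product]
          have hrow : ∀ h ∈ Finset.univ.filter (· ∈ H),
              ∑ z ∈ Finset.univ.filter (· ∈ Subgroup.center G),
                Complex.normSq (ftA H χ (h * z)) = Complex.normSq (ftA H χ 1) * Ω := by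
            intro h hh
            have hh' : h ∈ H := by simpa using hh
            rw [hΩ, Finset.mul_sum]
            refine Finset.sum_congr rfl fun z hz => ?_
            have hz' : z ∈ Subgroup.center G := by simpa using hz
            rw [ftA_center_mul H χ hz' (c z) (hc z hz') h, Complex.normSq_mul]
            have h1 : ftA H χ h = ftA H χ 1 := by
              have := ftA_mul_right H χ 1 hh'
              rwa [one_mul] at this
            rw [h1, mul_comm]
          rw [Finset.sum_congr rfl hrow, Finset.sum_const, card_filter_mem, nsmul_eq_mul]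
          ring
      _ = ∑ g ∈ ((Finset.univ.filter (· ∈ H)) ×ˢ
            (Finset.univ.filter (· ∈ Subgroup.center G))).image (fun p : G × G => p.1 * p.2),
              Complex.normSq (ftA H χ g) := by
          rw [Finset.sum_image hinj]
      _ ≤ _ := Finset.sum_le_sum_of_subset_of_nonneg himg (fun g _ _ => Complex.normSq_nonneg _)
  have hlow : (Nat.card N : ℝ) + (Nat.card H : ℝ) * Complex.normSq (ftA H χ 1) * Ω ≤
      ∑ g ∈ Finset.univ.filter (· ∈ ftD H), w g := by
    have hP' : ∑ g ∈ Finset.univ.filter (· ∈ N), w g =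
        ∑ g ∈ Finset.univ.filter (· ∈ N), Complex.normSq (ftA H χ g) +
          ∑ g ∈ Finset.univ.filter (· ∈ N), Complex.normSq (χ g - ftA H χ g) := hP
    linarith
  have hG : (0 : ℝ) < Fintype.card G := by exact_mod_cast Fintype.card_pos
  have hNpos : (0 : ℝ) < Nat.card N := by exact_mod_cast Nat.card_pos
  have h1 : (Fintype.card G : ℝ) * ((Nat.card N : ℝ) +
      (Nat.card H : ℝ) * Complex.normSq (ftA H χ 1) * Ω) ≤
        (Nat.card N : ℝ) * ((Fintype.card G : ℝ) - Ω * Complex.normSq (χ 1)) +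
          (Fintype.card G : ℝ) * (Ω * Complex.normSq (χ 1)) :=
    le_trans (mul_le_mul_of_nonneg_left hlow hG.le) hup
  have h2 : ((Fintype.card G : ℝ) * ((Nat.card H : ℝ) * Complex.normSq (ftA H χ 1))) * Ω ≤
      (Complex.normSq (χ 1) * ((Fintype.card G : ℝ) - (Nat.card N : ℝ))) * Ω := by
    linarith
  have h3 := le_of_mul_le_mul_right h2 hΩpos
  have h4 : (Fintype.card G : ℝ) * ((Nat.card H : ℝ) * Complex.normSq (ftA H χ 1)) <
      (Fintype.card G : ℝ) * Complex.normSq (χ 1) := by
    have := mul_pos hX hNpos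
    linarith
  exact lt_of_mul_lt_mul_left h4 hG.le

theorem ftA_sum {ι : Type*} (H : Subgroup G) (s : Finset ι) (c : ι → ℂ) (f : ι → G → ℂ) (g : G) :
    ftA H (∑ i ∈ s, c i • f i) g = ∑ i ∈ s, c i * ftA H (f i) g := by
  unfold ftA
  simp only [Finset.sum_apply, Pi.smul_apply, smul_eq_mul]
  rw [Finset.sum_comm, Finset.mul_sum]
  refine Finset.sum_congr rfl fun i _ => ?_
  rw [← Finset.mul_sum]; ring

/-- For an abelian subgroup, `⟨χ_H, χ_H⟩ ≥ χ(1)`. -/
theorem ftA_normSq_ge_of_comm (H : Subgroup G) (hab : ∀ a ∈ H, ∀ b ∈ H, a * b = b * a)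
    (χ : G → ℂ) (hχ : IsCharacter G χ) (n : ℕ) (hn : χ 1 = n) :
    ∃ s : ℕ, n ≤ s ∧ ftA H (fun g => χ g * conj (χ g)) 1 = s := by
  have hres : IsCharacter H (fun h : H => χ h) := isCharacter_restrict H hχ
  obtain ⟨k, hk0⟩ := isCharacter_iff.mp hres
  let _ := fintypeIrr H
  have hk : (fun h : H => χ h) = ∑ lam : IrrCharacter H, (k lam : ℂ) • lam.1 := by
    rw [hk0, finsum_irr_eq_sum]
  have hdeg : ∀ lam : IrrCharacter H, lam.1 1 = 1 := by
    intro lam
    obtain ⟨m, ρ, hρ, hρl⟩ := lam.2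
    have : IsMulCommutative H := ⟨⟨fun a b => Subtype.ext (hab a a.2 b b.2)⟩⟩
    have := hρ
    rw [← hρl, Representation.char_one,
      Representation.IsIrreducible.finrank_eq_one_of_isMulCommutative ρ, Nat.cast_one]
  have hsum1 : (n : ℂ) = ∑ lam : IrrCharacter H, (k lam : ℂ) := by
    have h1 := congrFun hk 1
    simp only [Finset.sum_apply, Pi.smul_apply, smul_eq_mul, hdeg, mul_one] at h1
    rw [← h1]
    exact hn.symm
  have h1 : ∀ μ : IrrCharacter H, classInner (fun h : H => χ h) μ.1 = k μ := by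
    intro μ
    rw [hk0]; exact classInner_finsum_irr _ μ
  have hinner : classInner (fun h : H => χ h) (fun h : H => χ h) =
      ∑ lam : IrrCharacter H, (k lam : ℂ) * (k lam : ℂ) := by
    calc classInner (fun h : H => χ h) (fun h : H => χ h)
        = classInner (fun h : H => χ h) (∑ lam : IrrCharacter H, (k lam : ℂ) • lam.1) := by
          rw [← hk]
      _ = ∑ lam : IrrCharacter H, classInner (fun h : H => χ h) ((k lam : ℂ) • lam.1) :=
          classInner_sum_right _ _ _
      _ = _ := by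
          refine Finset.sum_congr rfl fun lam _ => ?_
          rw [classInner_smul_right, h1, Complex.conj_natCast]
  refine ⟨∑ lam : IrrCharacter H, k lam * k lam, ?_, ?_⟩
  · have h2 : n = ∑ lam : IrrCharacter H, k lam := by exact_mod_cast hsum1
    rw [h2]
    exact Finset.sum_le_sum fun lam _ => Nat.le_mul_self _
  · have h3 : ftA H (fun g => χ g * conj (χ g)) 1 =
        classInner (fun h : H => χ h) (fun h : H => χ h) := by
      unfold ftA classInner
      congr 1
      rw [Finset.sum_subtype (Finset.univ.filter (· ∈ H)) (p := (· ∈ H)) (by simp)]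
      refine Finset.sum_congr rfl fun h _ => ?_
      rw [one_mul]
    rw [h3, hinner]
    push_cast
    rfl

/-- **Feit–Thompson inequality**, second form. -/
theorem ft_ineq2 (H : Subgroup G) (hab : ∀ a ∈ H, ∀ b ∈ H, a * b = b * a)
    (hZ : H ⊓ Subgroup.center G = ⊥)
    (hone : ∀ g : G, g ∉ Subgroup.center G → ∀ a b : G,
      Subgroup.centralizer ({g} : Set G) ⊓ H.map (MulAut.conj a).toMonoidHom ≠ ⊥ →
      Subgroup.centralizer ({g} : Set G) ⊓ H.map (MulAut.conj b).toMonoidHom ≠ ⊥ →
      H.map (MulAut.conj a).toMonoidHom = H.map (MulAut.conj b).toMonoidHom)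
    (χ : G → ℂ) (hχ : IsIrrCharacter G χ) (hχ1 : χ 1 ≠ 1)
    (hnc : ∀ M : Subgroup G, M.Normal → H ≤ M → M = ⊤) :
    (Nat.card H : ℝ) < (1 + (χ 1).re) ^ 2 := by
  obtain ⟨n, hn0, hn⟩ := irr_one_eq_natCast ⟨χ, hχ⟩
  simp only at hn
  have hn2 : 2 ≤ n := by
    rcases Nat.lt_or_ge n 2 with h | h
    · exfalso; apply hχ1; rw [hn]
      have : n = 1 := by omega
      rw [this, Nat.cast_one]
    · exact h
  have hchar : IsCharacter G χ := isCharacter_of_isIrrCharacter hχ
  set θ : G → ℂ := fun g => χ g * conj (χ g) with hθ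
  have hθchar : IsCharacter G θ := isCharacter_mul hchar (isCharacter_conj hchar)
  obtain ⟨m, hm⟩ := isCharacter_iff.mp hθchar
  let _ := fintypeIrr G
  have hm' : θ = ∑ ψ : IrrCharacter G, (m ψ : ℂ) • ψ.1 := by rw [hm, finsum_irr_eq_sum]
  have hm1 : m (trivialIrr G) = 1 := by
    have h1 : classInner θ (trivialIrr G).1 = m (trivialIrr G) := by
      rw [hm]; exact classInner_finsum_irr _ _
    have h2 : classInner θ (trivialIrr G).1 = 1 := by
      have := irr_inner_self ⟨χ, hχ⟩
      rw [← this]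
      unfold classInner
      congr 1
      refine Finset.sum_congr rfl fun g _ => ?_
      simp [hθ, trivialIrr]
    rw [h2] at h1; exact_mod_cast h1.symm
  have hdeg : ∀ ψ : IrrCharacter G, ∃ d : ℕ, 0 < d ∧ ψ.1 1 = d := fun ψ => irr_one_eq_natCast ψ
  choose d hd0 hd using hdeg
  have hdtriv : d (trivialIrr G) = 1 := by
    have := hd (trivialIrr G)
    simp only [trivialIrr] at this
    exact_mod_cast this.symm
  have hsq : (n : ℝ) ^ 2 = ∑ ψ : IrrCharacter G, (m ψ : ℝ) * (d ψ : ℝ) := by
    have h1 := congrFun hm' 1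
    simp only [Finset.sum_apply, Pi.smul_apply, smul_eq_mul, hd] at h1
    have h2 : θ 1 = (n : ℂ) ^ 2 := by
      simp only [hθ, hn, Complex.conj_natCast]; ring
    rw [h2] at h1
    exact_mod_cast h1
  set a : IrrCharacter G → ℝ := fun ψ => (ftA H ψ.1 1).re with ha
  have hatriv : a (trivialIrr G) = 1 := by
    simp only [ha, trivialIrr]
    rw [ftA_of_const H _ 1 (fun _ _ => rfl)]
    simp
  obtain ⟨s, hns, hs⟩ := ftA_normSq_ge_of_comm H hab χ hchar n hn
  have hsa : (s : ℝ) = ∑ ψ : IrrCharacter G, (m ψ : ℝ) * a ψ := by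
    have h1 : ftA H θ 1 = ∑ ψ : IrrCharacter G, (m ψ : ℂ) * ftA H ψ.1 1 := by
      rw [hm']; exact ftA_sum H _ _ _ 1
    rw [hs] at h1
    have h2 := congrArg Complex.re h1
    simp only [Complex.natCast_re, Complex.re_sum, Complex.mul_re, Complex.natCast_im, zero_mul,
      sub_zero] at h2
    exact h2
  set r := Real.sqrt (Nat.card H : ℝ) with hr
  have hr0 : 0 ≤ r := Real.sqrt_nonneg _
  have hr2 : r ^ 2 = (Nat.card H : ℝ) := Real.sq_sqrt (Nat.cast_nonneg _)
  have hkey : ∀ ψ : IrrCharacter G, ψ ≠ trivialIrr G → r * a ψ < d ψ := by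
    intro ψ hψ
    have hex : ∃ h ∈ H, ψ.1 h ≠ ψ.1 1 := by
      by_contra hcon
      push Not at hcon
      apply hψ
      obtain ⟨k, ρ, hρ, hρψ⟩ := ψ.2
      have := hρ
      have hK : (MonoidHom.ker ρ) = ⊤ := by
        apply hnc _ (MonoidHom.normal_ker ρ)
        intro h hh
        rw [MonoidHom.mem_ker]
        have h1 := hcon h hh
        rw [← hρψ, Representation.char_one] at h1
        exact (character_eq_finrank_iff ρ h).mp h1
      have htriv : ∀ x : G, ρ x = LinearMap.id := by
        intro x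
        have : x ∈ MonoidHom.ker ρ := by rw [hK]; exact Subgroup.mem_top x
        exact MonoidHom.mem_ker.mp this
      apply Subtype.ext
      rw [← hρψ, character_eq_one_of_trivial ρ htriv]; rfl
    have h1 := ft_ineq H hab hZ hone ψ.1 ψ.2 hex
    rw [hd ψ] at h1
    have h2 : Complex.normSq ((d ψ : ℕ) : ℂ) = (d ψ : ℝ) ^ 2 := by
      rw [Complex.normSq_natCast]; ring
    rw [h2] at h1
    have h3 : (a ψ) ^ 2 ≤ Complex.normSq (ftA H ψ.1 1) := by
      rw [Complex.normSq_apply]; simp only [ha]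
      nlinarith [mul_self_nonneg (ftA H ψ.1 1).im]
    have h4 : (r * a ψ) ^ 2 < (d ψ : ℝ) ^ 2 := by
      rw [mul_pow, hr2]
      calc (Nat.card H : ℝ) * a ψ ^ 2
          ≤ (Nat.card H : ℝ) * Complex.normSq (ftA H ψ.1 1) :=
            mul_le_mul_of_nonneg_left h3 (Nat.cast_nonneg _)
        _ < _ := h1
    have hdpos : (0 : ℝ) ≤ d ψ := Nat.cast_nonneg _
    exact lt_of_pow_lt_pow_left₀ 2 hdpos h4
  have hsplit1 := Finset.add_sum_erase Finset.univ
    (fun ψ : IrrCharacter G => (m ψ : ℝ) * (d ψ : ℝ)) (Finset.mem_univ (trivialIrr G))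
  have hsplit2 := Finset.add_sum_erase Finset.univ
    (fun ψ : IrrCharacter G => (m ψ : ℝ) * a ψ) (Finset.mem_univ (trivialIrr G))
  simp only [hm1, hdtriv, hatriv, Nat.cast_one, mul_one] at hsplit1 hsplit2
  have hn' : (2 : ℝ) ≤ n := by exact_mod_cast hn2
  have hex : ∃ ψ ∈ Finset.univ.erase (trivialIrr G), m ψ ≠ 0 := by
    by_contra hcon
    push Not at hcon
    have h0 : ∑ ψ ∈ Finset.univ.erase (trivialIrr G), (m ψ : ℝ) * (d ψ : ℝ) = 0 :=
      Finset.sum_eq_zero fun ψ hψ => by rw [hcon ψ hψ]; simp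
    rw [h0, add_zero] at hsplit1
    rw [← hsplit1] at hsq
    nlinarith
  have hlt : r * ∑ ψ ∈ Finset.univ.erase (trivialIrr G), (m ψ : ℝ) * a ψ <
      ∑ ψ ∈ Finset.univ.erase (trivialIrr G), (m ψ : ℝ) * (d ψ : ℝ) := by
    rw [Finset.mul_sum]
    apply Finset.sum_lt_sum
    · intro ψ hψ
      have hne : ψ ≠ trivialIrr G := Finset.ne_of_mem_erase hψ
      have := hkey ψ hne
      have hm0 : (0 : ℝ) ≤ m ψ := Nat.cast_nonneg _
      nlinarith
    · obtain ⟨ψ, hψ, hmψ⟩ := hex
      refine ⟨ψ, hψ, ?_⟩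
      have hne : ψ ≠ trivialIrr G := Finset.ne_of_mem_erase hψ
      have := hkey ψ hne
      have hm0 : (0 : ℝ) < m ψ := by exact_mod_cast Nat.pos_of_ne_zero hmψ
      nlinarith
  have hχre : (χ 1).re = n := by rw [hn]; simp
  rw [hχre]
  have hs' : (n : ℝ) ≤ s := by exact_mod_cast hns
  have h5 : r * ((s : ℝ) - 1) < (n : ℝ) ^ 2 - 1 := by
    have e1 : ∑ ψ ∈ Finset.univ.erase (trivialIrr G), (m ψ : ℝ) * a ψ = s - 1 := by linarith
    have e2 : ∑ ψ ∈ Finset.univ.erase (trivialIrr G), (m ψ : ℝ) * (d ψ : ℝ) = n ^ 2 - 1 := by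
      linarith
    rw [← e1, ← e2]; exact hlt
  have h6 : r * ((n : ℝ) - 1) < ((n : ℝ) + 1) * ((n : ℝ) - 1) := by nlinarith
  have h7 : r < n + 1 := lt_of_mul_lt_mul_right h6 (by linarith)
  calc (Nat.card H : ℝ) = r ^ 2 := hr2.symm
    _ < (1 + (n : ℝ)) ^ 2 := by nlinarith

end FTChar

end Cfsg.Agent.H16
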