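import Mathlib
import Cfsg.Prelude.Def_Characters
import Cfsg.Agent.H4.Chars
import Cfsg.Agent.H4.Integral
import Cfsg.Agent.H4.IrrCount
import Cfsg.Agent.H4.CharBasic
import Cfsg.Agent.H4.BrauerBasic
import Cfsg.Agent.H4.OddSixteen
import Cfsg.Agent.H16.FTLemma

/-!
# Character lemmas for the Feit–Thompson–Blichfeldt normal Sylow theorem
-/

set_option autoImplicit false
set_option linter.unusedSectionVars false

namespace Cfsg.Agent.H16

open Cfsg Cfsg.Agent.H4 Module Representation
open scoped ComplexConjugate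

universe u v

section FTBChar

variable {G : Type u} [Group G]

/-- If every irreducible constituent of `ρ` takes the value `ψ 1` at `g`, then `ρ g = 1`. -/
theorem rho_eq_id_of_constituents [Fintype G] {V : Type v} [AddCommGroup V] [Module ℂ V]
    [FiniteDimensional ℂ V] (ρ : Representation ℂ G V) (g : G)
    (h : ∀ ψ : IrrCharacter G, classInner ρ.character ψ.1 ≠ 0 → ψ.1 g = ψ.1 1) :
    ρ g = LinearMap.id := by
  classical
  let _ := fintypeIrr G
  obtain ⟨m, hm⟩ := character_decomp ρ
  have hmul : ∀ ψ : IrrCharacter G, classInner ρ.character ψ.1 = m ψ := by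
    intro ψ; rw [hm]; exact classInner_finsum_irr _ _
  have hval : ∀ x : G, ρ.character x = ∑ ψ : IrrCharacter G, (m ψ : ℂ) * ψ.1 x := by
    intro x
    have := congrFun hm x
    rw [this, finsum_irr_apply, finsum_irr_eq_sum]
  rw [← character_eq_finrank_iff]
  have h1 : ρ.character 1 = (Module.finrank ℂ V : ℂ) := Representation.char_one ρ
  rw [← h1, hval g, hval 1]
  refine Finset.sum_congr rfl fun ψ _ => ?_
  by_cases h0 : m ψ = 0
  · simp [h0]
  · rw [h ψ (by rw [hmul]; exact_mod_cast h0)]

/-- An irreducible constituent has degree at most the degree of the representation. -/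
theorem constituent_degree_le [Fintype G] {V : Type v} [AddCommGroup V] [Module ℂ V]
    [FiniteDimensional ℂ V] (ρ : Representation ℂ G V) (ψ : IrrCharacter G)
    (h : classInner ρ.character ψ.1 ≠ 0) :
    ∃ d : ℕ, ψ.1 1 = d ∧ 0 < d ∧ d ≤ Module.finrank ℂ V := by
  classical
  let _ := fintypeIrr G
  obtain ⟨m, hm⟩ := character_decomp ρ
  have hmul : classInner ρ.character ψ.1 = m ψ := by rw [hm]; exact classInner_finsum_irr _ _
  have hd : ∀ φ : IrrCharacter G, ∃ n : ℕ, 0 < n ∧ φ.1 1 = n := irr_one_eq_natCast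
  choose deg hdeg0 hdeg using hd
  have h1 : (Module.finrank ℂ V : ℂ) = ∑ φ : IrrCharacter G, ((m φ * deg φ : ℕ) : ℂ) := by
    rw [← Representation.char_one ρ]
    have := congrFun hm 1
    rw [this, finsum_irr_apply, finsum_irr_eq_sum]
    refine Finset.sum_congr rfl fun φ _ => ?_
    rw [hdeg φ]; push_cast; ring
  have h2 : Module.finrank ℂ V = ∑ φ : IrrCharacter G, m φ * deg φ := by exact_mod_cast h1
  have hmpos : 0 < m ψ := by
    rcases Nat.eq_zero_or_pos (m ψ) with h0 | h0
    · exfalso; apply h; rw [hmul, h0]; simp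
    · exact h0
  refine ⟨deg ψ, hdeg ψ, hdeg0 ψ, ?_⟩
  rw [h2]
  calc deg ψ ≤ m ψ * deg ψ := Nat.le_mul_of_pos_left _ hmpos
    _ ≤ ∑ φ : IrrCharacter G, m φ * deg φ :=
      Finset.single_le_sum (f := fun φ => m φ * deg φ) (fun _ _ => Nat.zero_le _)
        (Finset.mem_univ ψ)

/-- A faithful representation all of whose irreducible constituents are linear has abelian
group. -/
theorem comm_of_linear_constituents [Fintype G] {V : Type v} [AddCommGroup V] [Module ℂ V]
    [FiniteDimensional ℂ V] (ρ : Representation ℂ G V) (hρ : Function.Injective ρ)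
    (h : ∀ ψ : IrrCharacter G, classInner ρ.character ψ.1 ≠ 0 → ψ.1 1 = 1) (x y : G) :
    x * y = y * x := by
  have h1 : ρ (x * y * x⁻¹ * y⁻¹) = LinearMap.id := by
    apply rho_eq_id_of_constituents
    intro ψ hψ
    obtain ⟨lam, hlam⟩ := exists_hom_of_linear (isCharacter_of_isIrrCharacter ψ.2) (h ψ hψ)
    rw [hlam]
    simp only [map_mul, map_inv, map_one]
    congr 1
    rw [mul_comm (lam x) (lam y), mul_assoc, mul_assoc, mul_inv_cancel_left, mul_inv_cancel]
  have h2 : x * y * x⁻¹ * y⁻¹ = 1 := hρ (by rw [h1, map_one]; rfl)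
  calc x * y = x * y * x⁻¹ * y⁻¹ * y * x := by group
    _ = y * x := by rw [h2, one_mul]

/-- A `p`-group with a faithful representation of degree less than `p` is abelian. -/
theorem comm_of_isPGroup_faithful [Finite G] {p : ℕ} (hp : p.Prime) (hG : IsPGroup p G)
    {V : Type v} [AddCommGroup V] [Module ℂ V] [FiniteDimensional ℂ V]
    (ρ : Representation ℂ G V) (hρ : Function.Injective ρ) (hlt : Module.finrank ℂ V < p)
    (x y : G) : x * y = y * x := by
  classical
  let _ := Fintype.ofFinite G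
  have : Fact p.Prime := ⟨hp⟩
  apply comm_of_linear_constituents ρ hρ
  intro ψ hψ
  obtain ⟨d, hd1, hd0, hdle⟩ := constituent_degree_le ρ ψ hψ
  obtain ⟨n, hn, hn1⟩ := irr_degree_dvd_card ψ
  have hnd : n = d := by exact_mod_cast (hn1.symm.trans hd1)
  subst hnd
  obtain ⟨k, hk⟩ := hG.exists_card_eq
  rw [hk] at hn
  obtain ⟨j, _, hj⟩ := (Nat.dvd_prime_pow hp).mp hn
  have hj0 : j = 0 := by
    by_contra hj0
    have : p ≤ p ^ j := Nat.le_self_pow hj0 p
    omega
  rw [hd1, hj, hj0]; simp

/-- A central element of `p`-power order lying in the commutator subgroup is trivial, if the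
group has a faithful representation of degree less than `p`. -/
theorem eq_one_of_center_commutator [Finite G] {p : ℕ} (hp : p.Prime)
    {V : Type v} [AddCommGroup V] [Module ℂ V] [FiniteDimensional ℂ V]
    (ρ : Representation ℂ G V) (hρ : Function.Injective ρ) (hlt : Module.finrank ℂ V < p)
    {z : G} (hz : z ∈ Subgroup.center G) (hz' : z ∈ commutator G) {k : ℕ}
    (hzk : z ^ p ^ k = 1) : z = 1 := by
  classical
  let _ := Fintype.ofFinite G
  have h1 : ρ z = LinearMap.id := by
    apply rho_eq_id_of_constituents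
    intro ψ hψ
    obtain ⟨d, hd1, hd0, hdle⟩ := constituent_degree_le ρ ψ hψ
    obtain ⟨n, σ, hσ, hχ⟩ := ψ.2
    have := hσ
    have hψ1 : ψ.1 1 = (n : ℂ) := by rw [← hχ, Representation.char_one]; simp
    have hnd : n = d := by exact_mod_cast (hψ1.symm.trans hd1)
    subst hnd
    obtain ⟨c, hc⟩ := exists_smul_id_of_comm σ (σ z) (fun g => by
      rw [← Module.End.mul_eq_comp, ← Module.End.mul_eq_comp, ← map_mul, ← map_mul,
        Subgroup.mem_center_iff.mp hz g])
    have hfr : Module.finrank ℂ (Fin n → ℂ) = n := by simp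
    -- determinant
    have hdet : c ^ n = 1 := by
      let D : G →* ℂ := (LinearMap.det).comp σ
      have hmem : z ∈ (D.toHomUnits).ker := Abelianization.commutator_subset_ker D.toHomUnits hz'
      have hD : D z = 1 := by
        have h5 := congrArg Units.val (MonoidHom.mem_ker.mp hmem)
        simpa using h5
      have h6 : LinearMap.det (σ z) = c ^ n := by
        rw [hc, LinearMap.det_smul, hfr]
        simp
      rw [← h6]; exact hD
    have hck : c ^ p ^ k = 1 := by
      have h2 : (σ z) ^ p ^ k = 1 := by rw [← map_pow, hzk, map_one]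
      rw [hc] at h2
      have h3 : LinearMap.det ((c • (LinearMap.id : (Fin n → ℂ) →ₗ[ℂ] (Fin n → ℂ))) ^ p ^ k) = 1 := by
        rw [h2]; simp
      rw [map_pow, LinearMap.det_smul, hfr] at h3
      simp only [LinearMap.det_id, mul_one] at h3
      -- (c^n)^(p^k) = 1 is not enough; use trace instead
      have h4 : (c • (LinearMap.id : (Fin n → ℂ) →ₗ[ℂ] (Fin n → ℂ))) ^ p ^ k =
          (c ^ p ^ k) • (LinearMap.id : (Fin n → ℂ) →ₗ[ℂ] (Fin n → ℂ)) := by
        rw [smul_pow]
        congr 1
        exact one_pow _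
      rw [h4] at h2
      have h5 := congrArg (LinearMap.trace ℂ (Fin n → ℂ)) h2
      rw [map_smul, LinearMap.trace_id, hfr, smul_eq_mul] at h5
      have h6 : LinearMap.trace ℂ (Fin n → ℂ) (1 : Module.End ℂ (Fin n → ℂ)) = (n : ℂ) := by
        have := LinearMap.trace_id ℂ (Fin n → ℂ)
        rw [hfr] at this
        exact this
      rw [h6] at h5
      have hn0 : (n : ℂ) ≠ 0 := by exact_mod_cast hd0.ne'
      have h7 : (c ^ p ^ k - 1) * (n : ℂ) = 0 := by rw [sub_mul, h5]; ring
      rcases mul_eq_zero.mp h7 with h8 | h8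
      · exact sub_eq_zero.mp h8
      · exact absurd h8 hn0
    have hc1 : c = 1 := by
      have hg : Nat.gcd (p ^ k) n = 1 := by
        apply Nat.Coprime.pow_left k
        apply (Nat.Prime.coprime_iff_not_dvd hp).mpr
        intro hdvd
        have := Nat.le_of_dvd hd0 hdvd
        omega
      have := pow_gcd_eq_one.mpr ⟨hck, hdet⟩
      rwa [hg, pow_one] at this
    rw [hψ1, ← hχ]
    unfold Representation.character
    rw [hc, hc1, one_smul, LinearMap.trace_id, hfr]
  exact hρ (by rw [h1, map_one]; rfl)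

/-- The product of an irreducible character and a linear character is irreducible. -/
theorem isIrrCharacter_mul_hom [Fintype G] {χ : G → ℂ} (hχ : IsIrrCharacter G χ)
    (lam : G →* ℂˣ) : IsIrrCharacter G (fun g => χ g * ((lam g : ℂˣ) : ℂ)) := by
  have hc : IsCharacter G (fun g => χ g * ((lam g : ℂˣ) : ℂ)) :=
    isCharacter_mul (isCharacter_of_isIrrCharacter hχ) (isCharacter_of_hom lam)
  apply isIrrCharacter_of_norm_one hc
  have h1 := irr_inner_self ⟨χ, hχ⟩
  unfold classInner at h1 ⊢
  rw [← h1]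
  congr 1
  refine Finset.sum_congr rfl fun g _ => ?_
  have hn : ((lam g : ℂˣ) : ℂ) * conj ((lam g : ℂˣ) : ℂ) = 1 := by
    have hpow : ((lam g : ℂˣ) : ℂ) ^ orderOf g = 1 := by
      rw [← Units.val_pow_eq_pow_val, ← map_pow, pow_orderOf_eq_one, map_one, Units.val_one]
    have hnorm : ‖((lam g : ℂˣ) : ℂ)‖ = 1 :=
      Complex.norm_eq_one_of_pow_eq_one hpow (orderOf_pos g).ne'
    rw [Complex.mul_conj, Complex.normSq_eq_norm_sq, hnorm]; simp
  simp only [map_mul]
  calc χ g * ((lam g : ℂˣ) : ℂ) * (conj (χ g) * conj ((lam g : ℂˣ) : ℂ))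
      = χ g * conj (χ g) * (((lam g : ℂˣ) : ℂ) * conj ((lam g : ℂˣ) : ℂ)) := by ring
    _ = χ g * conj (χ g) := by rw [hn, mul_one]

/-- A central element acts on an irreducible character by a scalar of norm one. -/
theorem irr_central_scalar [Finite G] {χ : G → ℂ} (hχ : IsIrrCharacter G χ) {z : G}
    (hz : z ∈ Subgroup.center G) : ∃ c : ℂ, ‖c‖ = 1 ∧ ∀ g, χ (z * g) = c * χ g := by
  classical
  let _ := Fintype.ofFinite G
  have hne : χ 1 ≠ 0 := irr_one_ne_zero ⟨χ, hχ⟩
  obtain ⟨n, ρ, hρ, rfl⟩ := hχ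
  have := hρ
  obtain ⟨c, hc⟩ := exists_central_scalar ρ hz
  refine ⟨c, ?_, hc⟩
  have hpow : ∀ j : ℕ, ∀ g, ρ.character (z ^ j * g) = c ^ j * ρ.character g := by
    intro j
    induction j with
    | zero => intro g; simp
    | succ j ih => intro g; rw [pow_succ', mul_assoc, hc, ih, pow_succ']; ring
  have h1 := hpow (orderOf z) 1
  rw [pow_orderOf_eq_one, one_mul] at h1
  have hc1 : c ^ orderOf z = 1 := by
    have h7 : (c ^ orderOf z - 1) * ρ.character 1 = 0 := by rw [sub_mul, ← h1]; ring
    rcases mul_eq_zero.mp h7 with h8 | h8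
    · exact sub_eq_zero.mp h8
    · exact absurd h8 hne
  exact Complex.norm_eq_one_of_pow_eq_one hc1 (orderOf_pos z).ne'

end FTBChar

section Dichotomy

variable {G : Type u} [Group G] [Fintype G]

open Classical in
/-- The degree dichotomy: in a group `G = Q ⋊ P` where `P ∩ Z(G)` has index `p` in `P`,
every element of `Q y` (`y ∈ P` non-central) is a central multiple of a conjugate of `y`, and
`lam` is a linear character with `ker lam ∩ P = P ∩ Z(G)`, the degree `d` of an irreducible
character satisfies `p ∣ d²` or `p ∣ d² - 1`. -/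
theorem degree_dichotomy {p : ℕ} (hp : p.Prime) (Q P : Subgroup G)
    (hcompl : Subgroup.IsComplement' Q P)
    (lam : G →* ℂˣ) (h1 : ∀ g, lam g ^ p = 1) (h2 : ∀ l ∈ Q, lam l = 1)
    (h3 : ∀ y ∈ P, (lam y = 1 ↔ y ∈ Subgroup.center G))
    (h4 : Nat.card P = p * Nat.card (P ⊓ Subgroup.center G : Subgroup G))
    (h5 : ∀ y ∈ P, y ∉ Subgroup.center G → ∀ l ∈ Q,
      ∃ c ∈ Subgroup.center G, ∃ m : G, l * y = c * (m * y * m⁻¹))
    {χ : G → ℂ} (hχ : IsIrrCharacter G χ) {d : ℕ} (hd : χ 1 = d) :
    (p : ℤ) ∣ (d : ℤ) ^ 2 ∨ (p : ℤ) ∣ (d : ℤ) ^ 2 - 1 := by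
  set w : G → ℝ := fun g => Complex.normSq (χ g) with hw
  have hχc : IsCharacter G χ := isCharacter_of_isIrrCharacter hχ
  have hcl : IsClassFunction G χ := isClassFunction_of_isCharacter hχc
  have hwC : ∀ g, χ g * conj (χ g) = ((w g : ℝ) : ℂ) := fun g => Complex.mul_conj (χ g)
  have hNC : (Nat.card G : ℂ) ≠ 0 := by exact_mod_cast (Nat.card_pos (α := G)).ne'
  have hp0 : (0 : ℝ) < p := by exact_mod_cast hp.pos
  set Z : Subgroup G := Subgroup.center G with hZ
  set P0 : Subgroup G := P ⊓ Z with hP0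
  have hP0pos : (0 : ℝ) < Nat.card P0 := by exact_mod_cast Nat.card_pos
  have hQpos : (0 : ℝ) < Nat.card Q := by exact_mod_cast Nat.card_pos
  -- W0
  have hW0 : ∑ g : G, w g = Nat.card G := by
    have h := irr_inner_self ⟨χ, hχ⟩
    unfold classInner at h
    simp only [hwC] at h
    have h' : (Nat.card G : ℂ) = ∑ g : G, ((w g : ℝ) : ℂ) := (inv_mul_eq_one₀ hNC).mp h
    have h'' : ((Nat.card G : ℝ) : ℂ) = ((∑ g : G, w g : ℝ) : ℂ) := by
      rw [Complex.ofReal_sum]; exact_mod_cast h'
    exact (Complex.ofReal_injective h'').symm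
  -- W2
  have hW2 : ∀ z ∈ Z, ∀ g, w (z * g) = w g := by
    intro z hz g
    obtain ⟨c, hc1, hc⟩ := irr_central_scalar hχ hz
    simp only [hw]
    rw [hc, Complex.normSq_mul, Complex.normSq_eq_norm_sq, hc1]; simp
  -- W3
  have hW3 : ∀ y ∈ P, y ∉ Z → ∀ l ∈ Q, w (l * y) = w y := by
    intro y hy hyZ l hl
    obtain ⟨c, hc, m, hm⟩ := h5 y hy hyZ l hl
    rw [hm, hW2 c hc]
    simp only [hw]
    rw [hcl y m]
  -- W4
  have hW4 : ∀ y ∈ Z, w y = (d : ℝ) ^ 2 := by
    intro y hy
    have := hW2 y hy 1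
    rw [mul_one] at this
    rw [this]
    simp only [hw]
    rw [hd, Complex.normSq_natCast]; ring
  -- W5
  obtain ⟨M, hM⟩ : ∃ M : ℕ, ∑ g ∈ Finset.univ.filter (· ∈ P), w g = (Nat.card P : ℝ) * M := by
    obtain ⟨M, hM⟩ := classInner_isCharacter_nat (isCharacter_restrict P hχc)
      (isCharacter_restrict P hχc)
    refine ⟨M, ?_⟩
    unfold classInner at hM
    simp only [hwC] at hM
    have hPC : (Nat.card P : ℂ) ≠ 0 := by exact_mod_cast (Nat.card_pos (α := P)).ne'
    have h' : ∑ y : P, ((w (y : G) : ℝ) : ℂ) = (Nat.card P : ℂ) * M := by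
      rw [← hM, ← mul_assoc, mul_inv_cancel₀ hPC, one_mul]
    have h'' : ∑ y : P, w (y : G) = (Nat.card P : ℝ) * M := by
      have : ((∑ y : P, w (y : G) : ℝ) : ℂ) = (((Nat.card P : ℝ) * M : ℝ) : ℂ) := by
        rw [Complex.ofReal_sum]; push_cast; exact h'
      exact Complex.ofReal_injective this
    rw [← h'']
    exact Finset.sum_subtype (Finset.univ.filter (· ∈ P)) (p := (· ∈ P)) (by simp) w
  set U : ℝ := ∑ g ∈ Finset.univ.filter (fun g => g ∈ P ∧ g ∉ Z), w g with hU
  -- split of the sum over P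
  have hsplit : ∑ g ∈ Finset.univ.filter (· ∈ P), w g = (Nat.card P0 : ℝ) * (d : ℝ) ^ 2 + U := by
    rw [← Finset.sum_filter_add_sum_filter_not (Finset.univ.filter (· ∈ P)) (· ∈ Z) w,
      Finset.filter_filter, Finset.filter_filter]
    congr 1
    rw [Finset.sum_congr rfl (fun g hg => hW4 g (Finset.mem_filter.mp hg).2.2), Finset.sum_const,
      nsmul_eq_mul]
    have hfe : Finset.univ.filter (fun g => g ∈ P ∧ g ∈ Z) = Finset.univ.filter (· ∈ P0) := by
      ext g; simp [hP0, Subgroup.mem_inf]
    rw [hfe, card_filter_mem]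
  -- the sum off the kernel of lam
  have hkey : ∑ g : G, (if lam g = 1 then 0 else w g) = (Nat.card Q : ℝ) * U := by
    let e : Q × P ≃ G := Equiv.ofBijective (fun x : Q × P => (x.1 : G) * (x.2 : G)) hcompl
    rw [← Fintype.sum_equiv e (fun x : Q × P => if lam ((x.1 : G) * (x.2 : G)) = 1 then 0
        else w ((x.1 : G) * (x.2 : G))) (fun g => if lam g = 1 then 0 else w g) (fun x => rfl),
      Fintype.sum_prod_type]
    have hin : ∀ l : Q, ∑ y : P, (if lam ((l : G) * (y : G)) = 1 then 0
        else w ((l : G) * (y : G))) = U := by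
      intro l
      have h6 : ∀ y : P, (if lam ((l : G) * (y : G)) = 1 then 0 else w ((l : G) * (y : G))) =
          (fun g : G => if g ∈ Z then 0 else w g) (y : G) := by
        intro y
        have h7 : lam ((l : G) * (y : G)) = lam (y : G) := by
          rw [map_mul, h2 l l.2, one_mul]
        simp only [h7, h3 (y : G) y.2]
        by_cases hyZ : (y : G) ∈ Z
        · simp [hyZ]
        · simp only [hyZ, if_false]
          exact hW3 y y.2 hyZ l l.2
      rw [Finset.sum_congr rfl (fun y _ => h6 y),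
        ← Finset.sum_subtype (Finset.univ.filter (· ∈ P)) (p := (· ∈ P)) (by simp)
          (fun g : G => if g ∈ Z then 0 else w g), hU, Finset.sum_filter, Finset.sum_filter]
      refine Finset.sum_congr rfl fun g _ => ?_
      by_cases hgP : g ∈ P <;> by_cases hgZ : g ∈ Z <;> simp [hgP, hgZ]
    rw [Finset.sum_congr rfl (fun l _ => hin l), Finset.sum_const, Finset.card_univ,
      nsmul_eq_mul, ← Nat.card_eq_fintype_card]
  have hcard : (Nat.card G : ℝ) = (Nat.card Q : ℝ) * (Nat.card P : ℝ) := by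
    have := hcompl.card_mul_card
    exact_mod_cast this.symm
  have hcardP : (Nat.card P : ℝ) = (p : ℝ) * (Nat.card P0 : ℝ) := by exact_mod_cast h4
  by_cases hA : χ = fun g => χ g * ((lam g : ℂˣ) : ℂ)
  · -- χ vanishes off the kernel of lam
    left
    have hvan : ∀ g, lam g ≠ 1 → w g = 0 := by
      intro g hg
      have h6 := congrFun hA g
      have h7 : χ g * (1 - ((lam g : ℂˣ) : ℂ)) = 0 := by rw [mul_sub, mul_one, ← h6, sub_self]
      rcases mul_eq_zero.mp h7 with h8 | h8
      · simp only [hw]; rw [h8]; simp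
      · exfalso; apply hg
        apply Units.ext
        rw [Units.val_one]
        exact (sub_eq_zero.mp h8).symm
    have hU0 : U = 0 := by
      rw [hU]
      apply Finset.sum_eq_zero
      intro g hg
      obtain ⟨-, hgP, hgZ⟩ := Finset.mem_filter.mp hg
      exact hvan g (fun h => hgZ ((h3 g hgP).mp h))
    rw [hsplit, hU0, add_zero, hcardP] at hM
    have h8 : (d : ℝ) ^ 2 = (p : ℝ) * M := by
      have : (Nat.card P0 : ℝ) * ((d : ℝ) ^ 2 - (p : ℝ) * M) = 0 := by rw [mul_sub, hM]; ring
      rcases mul_eq_zero.mp this with h9 | h9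
      · exact absurd h9 hP0pos.ne'
      · linarith
    refine ⟨(M : ℤ), ?_⟩
    exact_mod_cast h8
  · right
    -- orthogonality with the twists
    have hsum : ∀ j : ℕ, 0 < j → j < p →
        ∑ g : G, ((w g : ℝ) : ℂ) * (conj ((lam g : ℂˣ) : ℂ)) ^ j = 0 := by
      intro j hj0 hjp
      have hirr := isIrrCharacter_mul_hom hχ (lam ^ j)
      have hne : (⟨χ, hχ⟩ : IrrCharacter G) ≠ ⟨_, hirr⟩ := by
        intro heq
        have heq' : χ = fun g => χ g * (((lam ^ j) g : ℂˣ) : ℂ) := congrArg Subtype.val heq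
        apply hA
        funext g
        by_cases hg : lam g = 1
        · rw [hg]; simp
        · have h6 := congrFun heq' g
          rw [MonoidHom.pow_apply, Units.val_pow_eq_pow_val] at h6
          have h7 : χ g * (1 - ((lam g : ℂˣ) : ℂ) ^ j) = 0 := by
            rw [mul_sub, mul_one, ← h6, sub_self]
          rcases mul_eq_zero.mp h7 with h8 | h8
          · rw [h8]; simp
          · exfalso; apply hg
            have h9 : ((lam g : ℂˣ) : ℂ) ^ j = 1 := (sub_eq_zero.mp h8).symm
            have h10 : ((lam g : ℂˣ) : ℂ) ^ p = 1 := by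
              rw [← Units.val_pow_eq_pow_val, h1 g, Units.val_one]
            have hg1 : Nat.gcd j p = 1 := by
              have : Nat.Coprime p j := (Nat.Prime.coprime_iff_not_dvd hp).mpr
                (fun hdvd => by have := Nat.le_of_dvd hj0 hdvd; omega)
              exact this.symm
            have h11 := pow_gcd_eq_one.mpr ⟨h9, h10⟩
            rw [hg1, pow_one] at h11
            apply Units.ext
            rw [Units.val_one]; exact h11
      have h6 := irr_inner_ne hne
      unfold classInner at h6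
      simp only at h6
      rcases mul_eq_zero.mp h6 with h7 | h7
      · exact absurd (inv_eq_zero.mp h7) hNC
      · rw [← h7]
        refine Finset.sum_congr rfl fun g _ => ?_
        rw [MonoidHom.pow_apply, Units.val_pow_eq_pow_val, map_mul, map_pow, ← mul_assoc, hwC]
    have hsum0 : ∑ g : G, ((w g : ℝ) : ℂ) * (conj ((lam g : ℂˣ) : ℂ)) ^ 0 = (Nat.card G : ℂ) := by
      simp only [pow_zero, mul_one]
      rw [← Complex.ofReal_sum, hW0]; simp
    have htot : ∑ j ∈ Finset.range p, ∑ g : G, ((w g : ℝ) : ℂ) * (conj ((lam g : ℂˣ) : ℂ)) ^ j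
        = (Nat.card G : ℂ) := by
      rw [Finset.sum_eq_single 0]
      · exact hsum0
      · intro j hj hj0
        exact hsum j (Nat.pos_of_ne_zero hj0) (Finset.mem_range.mp hj)
      · intro h; exact absurd (Finset.mem_range.mpr hp.pos) h
    rw [Finset.sum_comm] at htot
    have hgeom : ∀ g : G, ∑ j ∈ Finset.range p, ((w g : ℝ) : ℂ) * (conj ((lam g : ℂˣ) : ℂ)) ^ j =
        (((if lam g = 1 then (p : ℝ) * w g else 0 : ℝ)) : ℂ) := by
      intro g
      rw [← Finset.mul_sum]
      by_cases hg : lam g = 1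
      · rw [hg]; simp; ring
      · simp only [hg, if_false, Complex.ofReal_zero]
        have hν : conj ((lam g : ℂˣ) : ℂ) ≠ 1 := by
          intro h
          apply hg
          apply Units.ext
          rw [Units.val_one]
          have := congrArg conj h
          simpa using this
        have hνp : (conj ((lam g : ℂˣ) : ℂ)) ^ p = 1 := by
          rw [← map_pow, ← Units.val_pow_eq_pow_val, h1 g]; simp
        have hgs := mul_geom_sum (conj ((lam g : ℂˣ) : ℂ)) p
        rw [hνp, sub_self] at hgs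
        rcases mul_eq_zero.mp hgs with h8 | h8
        · exact absurd (sub_eq_zero.mp h8) hν
        · rw [h8, mul_zero]
    rw [Finset.sum_congr rfl (fun g _ => hgeom g), ← Complex.ofReal_sum] at htot
    have htotR : ∑ g : G, (if lam g = 1 then (p : ℝ) * w g else 0) = (Nat.card G : ℝ) := by
      have : ((∑ g : G, (if lam g = 1 then (p : ℝ) * w g else 0) : ℝ) : ℂ) =
          (((Nat.card G : ℝ)) : ℂ) := by rw [htot]; simp
      exact Complex.ofReal_injective this
    have hdecomp : ∑ g : G, w g = ∑ g : G, (if lam g = 1 then w g else 0) +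
        ∑ g : G, (if lam g = 1 then 0 else w g) := by
      rw [← Finset.sum_add_distrib]
      refine Finset.sum_congr rfl fun g _ => ?_
      by_cases hg : lam g = 1 <;> simp [hg]
    have hT0 : (p : ℝ) * ∑ g : G, (if lam g = 1 then w g else 0) = (Nat.card G : ℝ) := by
      rw [← htotR, Finset.mul_sum]
      refine Finset.sum_congr rfl fun g _ => ?_
      by_cases hg : lam g = 1 <;> simp [hg]
    set T0 : ℝ := ∑ g : G, (if lam g = 1 then w g else 0) with hT0def
    rw [hW0, hkey] at hdecomp
    -- now solve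
    have hUval : U = ((p : ℝ) - 1) * (Nat.card P0 : ℝ) := by
      have e1 : (p : ℝ) * ((Nat.card Q : ℝ) * U) = ((p : ℝ) - 1) * (Nat.card G : ℝ) := by
        have : (p : ℝ) * (Nat.card G : ℝ) = (p : ℝ) * T0 + (p : ℝ) * ((Nat.card Q : ℝ) * U) := by
          rw [hdecomp]; ring
        rw [hT0] at this
        linarith
      rw [hcard, hcardP] at e1
      have e2 : (p : ℝ) * (Nat.card Q : ℝ) * (U - ((p : ℝ) - 1) * (Nat.card P0 : ℝ)) = 0 := by
        linear_combination e1
      rcases mul_eq_zero.mp e2 with h9 | h9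
      · exfalso
        rcases mul_eq_zero.mp h9 with h10 | h10
        · exact hp0.ne' h10
        · exact hQpos.ne' h10
      · linarith
    rw [hsplit, hUval, hcardP] at hM
    have h8 : (d : ℝ) ^ 2 - 1 = (p : ℝ) * ((M : ℝ) - 1) := by
      have : (Nat.card P0 : ℝ) * ((d : ℝ) ^ 2 - 1 - (p : ℝ) * ((M : ℝ) - 1)) = 0 := by
        linear_combination hM
      rcases mul_eq_zero.mp this with h9 | h9
      · exact absurd h9 hP0pos.ne'
      · linarith
    refine ⟨(M : ℤ) - 1, ?_⟩
    have h8' : (((d : ℤ) ^ 2 - 1 : ℤ) : ℝ) = (((p : ℤ) * ((M : ℤ) - 1) : ℤ) : ℝ) := by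
      push_cast; exact h8
    exact_mod_cast h8'

end Dichotomy

end Cfsg.Agent.H16
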