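import Mathlib
import Cfsg.Prelude.Def_Blocks
import Cfsg.Agent.H82.ExtraP
import Cfsg.Agent.H32.DegP
import Cfsg.Agent.H67.PGroup
import Cfsg.Agent.H4.OddSixteen
import Cfsg.Agent.H16.FTBChar

/-!
# helper16: the centre of an irreducible character, twists, Galois conjugates

Character-theoretic tools for S4845.
-/

set_option autoImplicit false

namespace Cfsg.Agent.H16

open Cfsg Cfsg.Agent.H82
open scoped ComplexConjugate

section GC

variable {G : Type*} [Group G] [Finite G]

omit [Finite G] in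
theorem comm_mem_commutator (h g : G) : h * g * h⁻¹ * g⁻¹ ∈ commutator G := by
  rw [← commutatorElement_def]
  exact Subgroup.commutator_mem_commutator (Subgroup.mem_top h) (Subgroup.mem_top g)

theorem comm_form_eq_one_iff {H : Type*} [Group H] (a b : H) :
    a * b * a⁻¹ * b⁻¹ = 1 ↔ a * b = b * a := by
  rw [mul_inv_eq_one, mul_inv_eq_iff_eq_mul]

/-- The centre of an irreducible character: the elements central modulo its kernel. -/
def irrCen (χ : IrrCharacter G) : Subgroup G :=
  (Subgroup.center (G ⧸ irrKer χ)).comap (QuotientGroup.mk' (irrKer χ))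

theorem mem_irrCen (χ : IrrCharacter G) (z : G) :
    z ∈ irrCen χ ↔ ∀ g : G, z * g * z⁻¹ * g⁻¹ ∈ irrKer χ := by
  unfold irrCen
  rw [Subgroup.mem_comap, Subgroup.mem_center_iff]
  constructor
  · intro h g
    have h1 := h (QuotientGroup.mk' (irrKer χ) g)
    have h2 : (QuotientGroup.mk' (irrKer χ)) (z * g * z⁻¹ * g⁻¹) = 1 := by
      rw [map_mul, map_mul, map_mul, map_inv, map_inv]
      exact (comm_form_eq_one_iff _ _).mpr h1.symm
    exact (QuotientGroup.eq_one_iff _).mp h2
  · intro h q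
    obtain ⟨g, rfl⟩ := QuotientGroup.mk'_surjective (irrKer χ) q
    have h2 : (QuotientGroup.mk' (irrKer χ)) (z * g * z⁻¹ * g⁻¹) = 1 :=
      (QuotientGroup.eq_one_iff _).mpr (h g)
    rw [map_mul, map_mul, map_mul, map_inv, map_inv] at h2
    exact ((comm_form_eq_one_iff _ _).mp h2).symm

theorem irrKer_le_irrCen (χ : IrrCharacter G) : irrKer χ ≤ irrCen χ := by
  intro z hz
  rw [mem_irrCen]
  intro g
  have h1 : g * z⁻¹ * g⁻¹ ∈ irrKer χ :=
    (irrKer_normal χ).conj_mem _ ((irrKer χ).inv_mem hz) g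
  have h2 : z * g * z⁻¹ * g⁻¹ = z * (g * z⁻¹ * g⁻¹) := by group
  rw [h2]
  exact (irrKer χ).mul_mem hz h1

theorem center_le_irrCen (χ : IrrCharacter G) : Subgroup.center G ≤ irrCen χ := by
  intro z hz
  rw [mem_irrCen]
  intro g
  have h1 := Subgroup.mem_center_iff.mp hz g
  have h2 : z * g * z⁻¹ * g⁻¹ = 1 := by
    rw [comm_form_eq_one_iff, h1]
  rw [h2]
  exact (irrKer χ).one_mem

instance irrCen_normal (χ : IrrCharacter G) : (irrCen χ).Normal := by
  unfold irrCen
  infer_instance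

/-- An element central modulo the kernel acts on the character by a scalar of norm one. -/
theorem irrCen_scalar (χ : IrrCharacter G) {z : G} (hz : z ∈ irrCen χ) :
    ∃ c : ℂ, (∀ g : G, χ.1 (z * g) = c * χ.1 g) ∧ ‖c‖ = 1 ∧ (c = 1 → z ∈ irrKer χ) := by
  obtain ⟨n, ρ, hirr, hρ, hn, -, -⟩ := irr_rep χ
  have hcomm : ∀ a : G, ρ z ∘ₗ ρ a = ρ a ∘ₗ ρ z := by
    intro a
    have h1 := (mem_irrCen χ z).mp hz a
    have h2 : ρ (z * a * z⁻¹ * a⁻¹) = 1 := (mem_irrKer_iff_rep χ ρ hρ _).mp h1
    have h3 : ρ (z * a) = ρ (a * z) := by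
      have h4 : z * a = (z * a * z⁻¹ * a⁻¹) * (a * z) := by group
      rw [h4, map_mul, h2, one_mul]
    rw [map_mul, map_mul] at h3
    exact h3
  obtain ⟨c, hc⟩ := schur_scalar ρ (ρ z) hcomm
  refine ⟨c, ?_, ?_, ?_⟩
  · intro g
    rw [← hρ]
    change LinearMap.trace ℂ _ (ρ (z * g)) = c * LinearMap.trace ℂ _ (ρ g)
    have e : (c • (LinearMap.id : (Fin n → ℂ) →ₗ[ℂ] (Fin n → ℂ))) * ρ g = c • ρ g := by
      ext v
      simp
    rw [map_mul, hc, e, map_smul, smul_eq_mul]
  · have hpowz : ρ (z ^ orderOf z) = (c ^ orderOf z) • LinearMap.id := by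
      rw [map_pow, hc]
      ext v i
      simp [smul_pow]
    rw [pow_orderOf_eq_one, map_one] at hpowz
    have h7 := congrFun (congrArg (fun T : (Fin n → ℂ) →ₗ[ℂ] (Fin n → ℂ) =>
      T (Pi.single (⟨0, hn⟩ : Fin n) (1 : ℂ))) hpowz) ⟨0, hn⟩
    have hk : c ^ orderOf z = 1 := by simpa using h7.symm
    exact Complex.norm_eq_one_of_pow_eq_one hk (orderOf_pos z).ne'
  · intro hc1
    rw [mem_irrKer_iff_rep χ ρ hρ, hc, hc1, one_smul]
    rfl

/-- If a commutator `[h, g]` is central modulo the kernel but not in the kernel, the character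
vanishes at `g`. -/
theorem irr_vanish_of_comm (χ : IrrCharacter G) {g h : G}
    (hw : h * g * h⁻¹ * g⁻¹ ∈ irrCen χ) (hw' : h * g * h⁻¹ * g⁻¹ ∉ irrKer χ) : χ.1 g = 0 := by
  obtain ⟨c, hc, -, hc1⟩ := irrCen_scalar χ hw
  have h1 : χ.1 (h * g * h⁻¹) = χ.1 g := irr_conj χ g h
  have h2 : h * g * h⁻¹ = (h * g * h⁻¹ * g⁻¹) * g := by group
  rw [h2, hc] at h1
  have h3 : (c - 1) * χ.1 g = 0 := by rw [sub_mul, h1]; ring
  rcases mul_eq_zero.mp h3 with h | h
  · exact absurd (hc1 (sub_eq_zero.mp h)) hw'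
  · exact h

/-- If `G / ker χ` has class at most two, `χ` vanishes off its centre. -/
theorem irr_vanish_off_irrCen (χ : IrrCharacter G) (hc : commutator G ≤ irrCen χ)
    {g : G} (hg : g ∉ irrCen χ) : χ.1 g = 0 := by
  rw [mem_irrCen] at hg
  push Not at hg
  obtain ⟨h, hh⟩ := hg
  have e : h * g * h⁻¹ * g⁻¹ = (g * h * g⁻¹ * h⁻¹)⁻¹ := by group
  apply irr_vanish_of_comm χ (h := h)
  · exact hc (comm_mem_commutator h g)
  · rw [e]
    intro h'
    exact hh ((Subgroup.inv_mem_iff _).mp h')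

theorem irrCen_norm_sq (χ : IrrCharacter G) {z : G} (hz : z ∈ irrCen χ) :
    χ.1 z * conj (χ.1 z) = (charDegree χ.1 : ℂ) ^ 2 := by
  obtain ⟨c, hc, hcn, -⟩ := irrCen_scalar χ hz
  have hz1 : χ.1 z = c * χ.1 1 := by
    have := hc 1
    rwa [mul_one] at this
  have hcc : c * conj c = 1 := by
    rw [Complex.mul_conj, Complex.normSq_eq_norm_sq, hcn]
    simp
  rw [hz1, irr_one_eq_charDegree, map_mul, Complex.conj_natCast]
  calc c * (charDegree χ.1 : ℂ) * (conj c * (charDegree χ.1 : ℂ))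
      = (c * conj c) * (charDegree χ.1 : ℂ) ^ 2 := by ring
    _ = (charDegree χ.1 : ℂ) ^ 2 := by rw [hcc, one_mul]

theorem irrCen_card_mul_sq_le (χ : IrrCharacter G) :
    Nat.card (irrCen χ) * charDegree χ.1 ^ 2 ≤ Nat.card G := by
  classical
  have hFG : Fintype G := Fintype.ofFinite G
  have hsum := irr_norm_sq χ
  have hreal : ∑ g : G, Complex.normSq (χ.1 g) = (Nat.card G : ℝ) := by
    have h1 : ((∑ g : G, Complex.normSq (χ.1 g) : ℝ) : ℂ) = (Nat.card G : ℂ) := by
      rw [← hsum]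
      push_cast
      refine Finset.sum_congr rfl fun g _ => ?_
      rw [Complex.mul_conj]
    exact_mod_cast h1
  have hsub : ∑ g ∈ Finset.univ.filter (· ∈ irrCen χ), Complex.normSq (χ.1 g) ≤
      ∑ g : G, Complex.normSq (χ.1 g) :=
    Finset.sum_le_sum_of_subset_of_nonneg (Finset.subset_univ _)
      (fun g _ _ => Complex.normSq_nonneg _)
  have hval : ∀ z ∈ Finset.univ.filter (· ∈ irrCen χ),
      Complex.normSq (χ.1 z) = (charDegree χ.1 : ℝ) ^ 2 := by
    intro z hz
    have hzc : z ∈ irrCen χ := by simpa using hz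
    have h1 := irrCen_norm_sq χ hzc
    rw [Complex.mul_conj] at h1
    exact_mod_cast h1
  rw [Finset.sum_congr rfl hval, Finset.sum_const, nsmul_eq_mul, hreal] at hsub
  have hcard : (Finset.univ.filter (· ∈ irrCen χ)).card = Nat.card (irrCen χ) := by
    rw [Nat.card_eq_fintype_card, Fintype.card_subtype]
  rw [hcard] at hsub
  exact_mod_cast hsub

theorem irrCen_card_mul_sq_eq (χ : IrrCharacter G) (hv : ∀ g : G, g ∉ irrCen χ → χ.1 g = 0) :
    Nat.card (irrCen χ) * charDegree χ.1 ^ 2 = Nat.card G := by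
  classical
  have hFG : Fintype G := Fintype.ofFinite G
  have hsum := irr_norm_sq χ
  have hsub : ∑ g : G, χ.1 g * conj (χ.1 g) =
      ∑ g ∈ Finset.univ.filter (· ∈ irrCen χ), χ.1 g * conj (χ.1 g) := by
    symm
    apply Finset.sum_subset (Finset.subset_univ _)
    intro g _ hg
    have hgc : g ∉ irrCen χ := by simpa using hg
    rw [hv g hgc, zero_mul]
  have hval : ∀ z ∈ Finset.univ.filter (· ∈ irrCen χ),
      χ.1 z * conj (χ.1 z) = (charDegree χ.1 : ℂ) ^ 2 := by
    intro z hz
    have hzc : z ∈ irrCen χ := by simpa using hz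
    exact irrCen_norm_sq χ hzc
  rw [hsub, Finset.sum_congr rfl hval, Finset.sum_const, nsmul_eq_mul] at hsum
  have hcard : (Finset.univ.filter (· ∈ irrCen χ)).card = Nat.card (irrCen χ) := by
    rw [Nat.card_eq_fintype_card, Fintype.card_subtype]
  rw [hcard] at hsum
  exact_mod_cast hsum

theorem sq_le_index_irrCen (χ : IrrCharacter G) : charDegree χ.1 ^ 2 ≤ (irrCen χ).index := by
  have h1 := irrCen_card_mul_sq_le χ
  rw [← Subgroup.card_mul_index (irrCen χ)] at h1
  exact Nat.le_of_mul_le_mul_left h1 Nat.card_pos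

theorem sq_eq_index_irrCen (χ : IrrCharacter G) (hc : commutator G ≤ irrCen χ) :
    charDegree χ.1 ^ 2 = (irrCen χ).index := by
  have h1 := irrCen_card_mul_sq_eq χ (fun g hg => irr_vanish_off_irrCen χ hc hg)
  rw [← Subgroup.card_mul_index (irrCen χ)] at h1
  exact Nat.eq_of_mul_eq_mul_left Nat.card_pos h1

/-- The multiplicative map `z ↦ χ z / χ 1` on the centre of `χ`. -/
noncomputable def irrCenHom (χ : IrrCharacter G) : irrCen χ →* ℂ where
  toFun z := χ.1 z / χ.1 1
  map_one' := div_self (irr_one_ne_zero χ)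
  map_mul' := by
    intro a b
    obtain ⟨c, hc, -, -⟩ := irrCen_scalar χ a.2
    have h1 : χ.1 (a : G) = c * χ.1 1 := by
      have := hc 1
      rwa [mul_one] at this
    have h0 := irr_one_ne_zero χ
    change χ.1 ((a : G) * (b : G)) / χ.1 1 = χ.1 (a : G) / χ.1 1 * (χ.1 (b : G) / χ.1 1)
    rw [hc, h1]
    field_simp

theorem irrCenHom_eq_one_iff (χ : IrrCharacter G) (z : irrCen χ) :
    irrCenHom χ z = 1 ↔ (z : G) ∈ irrKer χ := by
  change χ.1 (z : G) / χ.1 1 = 1 ↔ _
  rw [div_eq_one_iff_eq (irr_one_ne_zero χ), mem_irrKer]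

/-- The quotient of the centre of `χ` by a normal subgroup containing the kernel is cyclic;
if it has exponent dividing `p` its order divides `p`. -/
theorem irrCen_relIndex_dvd (χ : IrrCharacter G) (Z : Subgroup G) [Z.Normal]
    (hZ : irrKer χ ≤ Z) (p : ℕ) (hp : ∀ y ∈ irrCen χ, y ^ p ∈ Z) :
    Z.relIndex (irrCen χ) ∣ p := by
  let f : irrCen χ →* ℂˣ := (irrCenHom χ).toHomUnits
  have hfker : ∀ z : irrCen χ, z ∈ f.ker ↔ (z : G) ∈ irrKer χ := by
    intro z
    rw [MonoidHom.mem_ker, ← irrCenHom_eq_one_iff, Units.ext_iff]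
    rfl
  have hcyc : IsCyclic (irrCen χ ⧸ f.ker) :=
    isCyclic_of_injective_ringHom ((Units.coeHom ℂ).comp (QuotientGroup.kerLift f))
      (Units.val_injective.comp (QuotientGroup.kerLift_injective f))
  have hle : f.ker ≤ (Z.subgroupOf (irrCen χ)).comap (MonoidHom.id (irrCen χ)) := by
    intro z hz
    rw [Subgroup.mem_comap, MonoidHom.id_apply, Subgroup.mem_subgroupOf]
    exact hZ ((hfker z).mp hz)
  let φ : irrCen χ ⧸ f.ker →* irrCen χ ⧸ Z.subgroupOf (irrCen χ) :=
    QuotientGroup.map f.ker (Z.subgroupOf (irrCen χ)) (MonoidHom.id (irrCen χ)) hle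
  have hφ : Function.Surjective φ := by
    intro q
    obtain ⟨y, rfl⟩ := QuotientGroup.mk_surjective q
    exact ⟨QuotientGroup.mk y, rfl⟩
  have hcyc2 : IsCyclic (irrCen χ ⧸ Z.subgroupOf (irrCen χ)) := isCyclic_of_surjective φ hφ
  have hexp : Monoid.exponent (irrCen χ ⧸ Z.subgroupOf (irrCen χ)) ∣ p := by
    apply Monoid.exponent_dvd_of_forall_pow_eq_one
    intro q
    obtain ⟨y, rfl⟩ := QuotientGroup.mk_surjective q
    rw [← QuotientGroup.mk_pow, QuotientGroup.eq_one_iff, Subgroup.mem_subgroupOf]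
    exact hp y y.2
  rw [IsCyclic.exponent_eq_card] at hexp
  change (Z.subgroupOf (irrCen χ)).index ∣ p
  rw [Subgroup.index_eq_card]
  exact hexp

/-- If the kernel of `χ` is central of exponent dividing `p`, `p`-th powers of elements of the
centre of `χ` are central. -/
theorem pow_mem_center_of_irrCen (χ : IrrCharacter G) (hK : irrKer χ ≤ Subgroup.center G)
    (p : ℕ) (hp : ∀ k ∈ irrKer χ, k ^ p = 1) {y : G} (hy : y ∈ irrCen χ) :
    y ^ p ∈ Subgroup.center G := by
  rw [Subgroup.mem_center_iff]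
  intro g
  have hm := (mem_irrCen χ y).mp hy g
  set m := y * g * y⁻¹ * g⁻¹ with hmdef
  have hmc : ∀ x : G, x * m = m * x := fun x => Subgroup.mem_center_iff.mp (hK hm) x
  have hyg : y * g = m * g * y := by rw [hmdef]; group
  have key : ∀ k : ℕ, y ^ k * g = m ^ k * g * y ^ k := by
    intro k
    induction k with
    | zero => simp
    | succ k ih =>
      calc y ^ (k + 1) * g = y * (y ^ k * g) := by rw [pow_succ']; group
        _ = y * (m ^ k * g * y ^ k) := by rw [ih]
        _ = (y * m ^ k) * g * y ^ k := by group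
        _ = (m ^ k * y) * g * y ^ k := by
          have h1 : y * m ^ k = m ^ k * y := by
            have h2 : Commute y m := hmc y
            exact (h2.pow_right k).eq
          rw [h1]
        _ = m ^ k * (y * g) * y ^ k := by group
        _ = m ^ k * (m * g * y) * y ^ k := by rw [hyg]
        _ = m ^ (k + 1) * g * y ^ (k + 1) := by rw [pow_succ, pow_succ']; group
  have h1 := key p
  rw [hp m hm, one_mul] at h1
  exact h1.symm

theorem center_relIndex_irrCen_dvd (χ : IrrCharacter G) (hK : irrKer χ ≤ Subgroup.center G)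
    (p : ℕ) (hp : ∀ k ∈ irrKer χ, k ^ p = 1) :
    (Subgroup.center G).relIndex (irrCen χ) ∣ p :=
  irrCen_relIndex_dvd χ (Subgroup.center G) hK p
    (fun _ hy => pow_mem_center_of_irrCen χ hK p hp hy)

/-- Galois conjugate irreducible characters have the same kernel. -/
theorem irrKer_eq_of_galois (χ ψ : IrrCharacter G) (k : ℕ) (hk : Nat.Coprime k (Nat.card G))
    (h : ∀ g : G, ψ.1 g = χ.1 (g ^ k)) : irrKer ψ = irrKer χ := by
  ext g
  rw [mem_irrKer, h g, h 1, one_pow, ← mem_irrKer]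
  constructor
  · intro hg
    have h1 := (powCoprime hk.symm).left_inv g
    change (g ^ k) ^ ((Nat.card G).gcdB k) = g at h1
    rw [← h1]
    exact (irrKer χ).zpow_mem hg _
  · intro hg
    exact (irrKer χ).pow_mem hg k

/-- Linear characters contain the derived subgroup in their kernel. -/
theorem commutator_le_irrKer_of_linear (χ : IrrCharacter G) (h1 : charDegree χ.1 = 1) :
    commutator G ≤ irrKer χ := by
  have h1' : χ.1 1 = 1 := by rw [irr_one_eq_charDegree, h1]; simp
  have hle : commutator G ≤ (irrLinearHom χ h1').ker :=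
    Abelianization.commutator_subset_ker (irrLinearHom χ h1')
  intro g hg
  have h2 := hle hg
  rw [MonoidHom.mem_ker] at h2
  rw [mem_irrKer, h1', ← irrLinearHom_apply χ h1' g, h2]
  rfl

/-- An irreducible character with the derived subgroup in its kernel is linear. -/
theorem linear_of_commutator_le_irrKer (χ : IrrCharacter G) (h : commutator G ≤ irrKer χ) :
    charDegree χ.1 = 1 := by
  obtain ⟨χ', hχ'⟩ := exists_deflate (commutator G) χ (fun x hx => (mem_irrKer χ x).mp (h hx))
  have hlin := (Cfsg.Agent.H83.IsIrrCharacter.linear_of_comm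
    (fun a b : G ⧸ commutator G => @mul_comm (Abelianization G) _ a b) χ'.2).1
  have h2 : χ.1 1 = 1 := by
    rw [← hχ', inflate_apply, QuotientGroup.mk_one]
    exact hlin
  rw [irr_one_eq_charDegree] at h2
  exact_mod_cast h2

/-- If `G / M` is not abelian, some nonlinear irreducible character has `M` in its kernel. -/
theorem exists_nonlinear_of_not_le (M : Subgroup G) [M.Normal] (h : ¬ commutator G ≤ M) :
    ∃ χ : IrrCharacter G, charDegree χ.1 ≠ 1 ∧ M ≤ irrKer χ := by
  obtain ⟨w, hw, hwM⟩ := Set.not_subset.mp h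
  have hne : (QuotientGroup.mk w : G ⧸ M) ≠ 1 := by
    intro h1
    exact hwM ((QuotientGroup.eq_one_iff w).mp h1)
  obtain ⟨χ', hχ', -⟩ := Cfsg.Agent.H32.exists_irr_two_ne hne hne
  refine ⟨inflate M χ', ?_, ?_⟩
  · intro h1
    have h2 := commutator_le_irrKer_of_linear (inflate M χ') h1 hw
    rw [mem_irrKer, inflate_apply, inflate_apply, QuotientGroup.mk_one] at h2
    exact hχ' h2
  · intro x hx
    exact (mem_irrKer _ x).mpr (inflate_mem M χ' x hx)

/-- The twist of an irreducible character by a linear character. -/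
noncomputable def irrTwist (χ : IrrCharacter G) (lam : G →* ℂˣ) : IrrCharacter G :=
  ⟨fun g => χ.1 g * ((lam g : ℂˣ) : ℂ), by
    have hFG : Fintype G := Fintype.ofFinite G
    exact isIrrCharacter_mul_hom χ.2 lam⟩

theorem irrTwist_apply (χ : IrrCharacter G) (lam : G →* ℂˣ) (g : G) :
    (irrTwist χ lam).1 g = χ.1 g * ((lam g : ℂˣ) : ℂ) := rfl

theorem charDegree_irrTwist (χ : IrrCharacter G) (lam : G →* ℂˣ) :
    charDegree (irrTwist χ lam).1 = charDegree χ.1 := by
  change ⌊((irrTwist χ lam).1 1).re⌋₊ = ⌊(χ.1 1).re⌋₊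
  rw [irrTwist_apply, map_one]
  simp

/-- If every twist of `χ` by a linear character has the same kernel as `χ`, the kernel of `χ`
lies in the derived subgroup. -/
theorem irrKer_le_commutator_of_twist (χ : IrrCharacter G)
    (h : ∀ lam : G →* ℂˣ, irrKer (irrTwist χ lam) = irrKer χ) :
    irrKer χ ≤ commutator G := by
  intro g hg
  by_contra hgc
  have hne : (Abelianization.of g : Abelianization G) ≠ 1 := by
    intro h1
    exact hgc ((QuotientGroup.eq_one_iff g).mp h1)
  have hexp : NeZero (Monoid.exponent (Abelianization G)) :=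
    ⟨Monoid.exponent_ne_zero_of_finite⟩
  obtain ⟨φ, hφ⟩ := CommGroup.exists_apply_ne_one_of_hasEnoughRootsOfUnity
    (Abelianization G) ℂ hne
  let lam : G →* ℂˣ := φ.comp Abelianization.of
  have h1 : g ∈ irrKer (irrTwist χ lam) := by rw [h lam]; exact hg
  rw [mem_irrKer, irrTwist_apply, irrTwist_apply, map_one, (mem_irrKer χ g).mp hg] at h1
  have h0 := irr_one_ne_zero χ
  have h2 : ((lam g : ℂˣ) : ℂ) = 1 := by
    have h3 : χ.1 1 * ((lam g : ℂˣ) : ℂ) = χ.1 1 * 1 := by rw [h1]; simp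
    exact mul_left_cancel₀ h0 h3
  apply hφ
  exact Units.ext h2

end GC

end Cfsg.Agent.H16
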