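import Mathlib
import Cfsg.Agent.H3.Critical
import Cfsg.Agent.H67.PGroup
import Cfsg.Agent.H32.DegP
import Cfsg.Agent.H16.GCChar

/-!
# helper16: group-theoretic tools for S4845

`p`-groups whose derived subgroup has order `p ^ 2`.
-/

set_option autoImplicit false

namespace Cfsg.Agent.H16

section GCG

variable {G : Type*} [Group G]

theorem commutator_quotient_eq_map (M : Subgroup G) [M.Normal] :
    commutator (G ⧸ M) = (commutator G).map (QuotientGroup.mk' M) := by
  rw [commutator_def, commutator_def, Subgroup.map_commutator,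
    Subgroup.map_top_of_surjective _ (QuotientGroup.mk'_surjective M)]

theorem card_map_mk_mul [Finite G] (M H : Subgroup G) [M.Normal] (h : M ≤ H) :
    Nat.card M * Nat.card (H.map (QuotientGroup.mk' M)) = Nat.card H := by
  have h1 : ((H.map (QuotientGroup.mk' M)).comap (QuotientGroup.mk' M)) = H := by
    rw [QuotientGroup.comap_map_mk']
    exact sup_eq_right.mpr h
  have h2 : (H.map (QuotientGroup.mk' M)).index = H.index := by
    conv_rhs => rw [← h1]
    exact (Subgroup.index_comap_of_surjective _ (QuotientGroup.mk'_surjective M)).symm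
  have h3 := Subgroup.card_mul_index H
  have h4 := Subgroup.card_mul_index (H.map (QuotientGroup.mk' M))
  have h5 : Nat.card G = Nat.card (G ⧸ M) * Nat.card M :=
    Subgroup.card_eq_card_quotient_mul_card_subgroup M
  have hidx : 0 < H.index := Nat.pos_of_ne_zero Subgroup.index_ne_zero_of_finite
  rw [h2] at h4
  have h6 : (Nat.card M * Nat.card (H.map (QuotientGroup.mk' M))) * H.index
      = Nat.card H * H.index := by
    rw [h3, h5, ← h4]
    ring
  exact Nat.eq_of_mul_eq_mul_right hidx h6

theorem card_eq_one_or_prime_of_lt [Finite G] {p : ℕ} (hp : p.Prime) {H L : Subgroup G}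
    (hL : Nat.card L = p ^ 2) (hHL : H ≤ L) (hne : H ≠ L) :
    Nat.card H = 1 ∨ Nat.card H = p := by
  have h1 : Nat.card H ∣ p ^ 2 := hL ▸ Subgroup.card_dvd_of_le hHL
  obtain ⟨k, hk, hk'⟩ := (Nat.dvd_prime_pow hp).mp h1
  interval_cases k
  · left
    simpa using hk'
  · right
    simpa using hk'
  · exfalso
    apply hne
    exact Subgroup.eq_of_le_of_card_ge hHL (by rw [hL, hk'])

theorem eq_of_between_prime_sq [Finite G] {p : ℕ} (hp : p.Prime) {M H L : Subgroup G}
    (hL : Nat.card L = p ^ 2) (hM : Nat.card M = p) (hMH : M ≤ H) (hHL : H ≤ L) {w : G}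
    (hw : w ∈ H) (hwM : w ∉ M) : H = L := by
  by_contra hne
  rcases card_eq_one_or_prime_of_lt hp hL hHL hne with h | h
  · have h1 := Subgroup.card_le_of_le hMH
    rw [h, hM] at h1
    have h2 := hp.one_lt
    omega
  · have h1 : M = H := Subgroup.eq_of_le_of_card_ge hMH (by rw [h, hM])
    exact hwM (h1 ▸ hw)

theorem pow_card_eq_one_of_mem {H : Subgroup G} {n : ℕ} (hH : Nat.card H = n) {k : G}
    (hk : k ∈ H) : k ^ n = 1 := by
  have h1 : (⟨k, hk⟩ : H) ^ Nat.card H = 1 := pow_card_eq_one'
  rw [hH] at h1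
  simpa using congrArg Subtype.val h1

theorem pow_prime_eq_one_of_card [Finite G] {p : ℕ} {H : Subgroup G}
    (hH : Nat.card H = 1 ∨ Nat.card H = p) {k : G} (hk : k ∈ H) : k ^ p = 1 := by
  rcases hH with h | h
  · have h1 : H = ⊥ := Subgroup.card_eq_one.mp h
    rw [h1, Subgroup.mem_bot] at hk
    rw [hk, one_pow]
  · exact pow_card_eq_one_of_mem h hk

theorem comm_mul_central {H : Type*} [Group H] {u v a b : H} (hua : Commute u a)
    (hub : Commute u b) (hva : Commute v a) (hvb : Commute v b) (huv : Commute u v) :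
    (u * a) * (v * b) * (u * a)⁻¹ * (v * b)⁻¹ = a * b * a⁻¹ * b⁻¹ := by
  have h1 : (u * a) * (v * b) = (u * v) * (a * b) := by
    calc (u * a) * (v * b) = u * (a * v) * b := by group
      _ = u * (v * a) * b := by rw [hva.symm.eq]
      _ = (u * v) * (a * b) := by group
  have h2 : (u * a)⁻¹ * (v * b)⁻¹ = (a⁻¹ * b⁻¹) * (u * v)⁻¹ := by
    have e1 : u⁻¹ * b⁻¹ = b⁻¹ * u⁻¹ := (hub.inv_left.inv_right).eq
    calc (u * a)⁻¹ * (v * b)⁻¹ = a⁻¹ * (u⁻¹ * b⁻¹) * v⁻¹ := by group
      _ = a⁻¹ * (b⁻¹ * u⁻¹) * v⁻¹ := by rw [e1]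
      _ = (a⁻¹ * b⁻¹) * (v * u)⁻¹ := by group
      _ = (a⁻¹ * b⁻¹) * (u * v)⁻¹ := by rw [huv.eq]
  have hc : Commute (u * v) (a * b * a⁻¹ * b⁻¹) := by
    have hu : Commute u (a * b * a⁻¹ * b⁻¹) :=
      ((hua.mul_right hub).mul_right hua.inv_right).mul_right hub.inv_right
    have hv : Commute v (a * b * a⁻¹ * b⁻¹) :=
      ((hva.mul_right hvb).mul_right hva.inv_right).mul_right hvb.inv_right
    exact hu.mul_left hv
  calc (u * a) * (v * b) * (u * a)⁻¹ * (v * b)⁻¹
      = ((u * a) * (v * b)) * ((u * a)⁻¹ * (v * b)⁻¹) := by group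
    _ = ((u * v) * (a * b)) * ((a⁻¹ * b⁻¹) * (u * v)⁻¹) := by rw [h1, h2]
    _ = (u * v) * (a * b * a⁻¹ * b⁻¹) * (u * v)⁻¹ := by group
    _ = (a * b * a⁻¹ * b⁻¹) * (u * v) * (u * v)⁻¹ := by rw [hc.eq]
    _ = a * b * a⁻¹ * b⁻¹ := by group

/-- A nontrivial normal subgroup of a finite `p`-group contains a central subgroup of order
`p`. -/
theorem exists_central_prime_subgroup [Finite G] {p : ℕ} [Fact p.Prime] (hG : IsPGroup p G)
    (N : Subgroup G) [N.Normal] (hN : N ≠ ⊥) :
    ∃ M : Subgroup G, M ≤ N ∧ M ≤ Subgroup.center G ∧ Nat.card M = p := by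
  obtain ⟨z, hzN, hzo, hz1⟩ := Cfsg.Agent.H3.normal_exists_central_order_p hG N hN
  have hzc : z ∈ Subgroup.center G := hzo.1
  have hzp : z ^ p = 1 := hzo.2
  refine ⟨Subgroup.zpowers z, Subgroup.zpowers_le.mpr hzN, Subgroup.zpowers_le.mpr hzc, ?_⟩
  rw [Nat.card_zpowers]
  exact orderOf_eq_prime hzp hz1

theorem quot_comm_eq_one_iff (M : Subgroup G) [M.Normal] (a g : G) :
    a * g * a⁻¹ * g⁻¹ ∈ M ↔
      (QuotientGroup.mk a : G ⧸ M) * QuotientGroup.mk g = QuotientGroup.mk g * QuotientGroup.mk a := by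
  rw [← comm_form_eq_one_iff, ← QuotientGroup.mk_inv, ← QuotientGroup.mk_inv,
    ← QuotientGroup.mk_mul, ← QuotientGroup.mk_mul, ← QuotientGroup.mk_mul,
    QuotientGroup.eq_one_iff]

/-- In a `p`-group with derived subgroup of order `p ^ 2`, commutators of elements of the
derived subgroup lie in any normal subgroup of order `p` of the derived subgroup. -/
theorem comm_mem_of_card_sq [Finite G] {p : ℕ} [Fact p.Prime] (hG : IsPGroup p G)
    (M : Subgroup G) [M.Normal] (hM : Nat.card M = p) (hML : M ≤ commutator G)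
    (hL : Nat.card (commutator G) = p ^ 2) :
    ∀ w ∈ commutator G, ∀ g : G, w * g * w⁻¹ * g⁻¹ ∈ M := by
  have hp : p.Prime := Fact.out
  have hQ : IsPGroup p (G ⧸ M) := hG.to_quotient M
  have hK : Nat.card ((commutator G).map (QuotientGroup.mk' M)) = p := by
    have h1 := card_map_mk_mul M (commutator G) hML
    rw [hM, hL, pow_two] at h1
    exact Nat.eq_of_mul_eq_mul_left hp.pos h1
  have hKn : ((commutator G).map (QuotientGroup.mk' M)).Normal :=
    Subgroup.Normal.map inferInstance _ (QuotientGroup.mk'_surjective M)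
  have hKc := Cfsg.Agent.H67.le_center_of_normal_of_card_eq_prime hQ
    ((commutator G).map (QuotientGroup.mk' M)) hK
  intro w hw g
  rw [quot_comm_eq_one_iff]
  have h1 : (QuotientGroup.mk w : G ⧸ M) ∈ Subgroup.center (G ⧸ M) :=
    hKc (Subgroup.mem_map_of_mem (QuotientGroup.mk' M) hw)
  exact (Subgroup.mem_center_iff.mp h1 _).symm

/-- The structural step: in a `p`-group whose derived subgroup has order `p ^ 2` and is not
central, the elements that are central modulo a central subgroup `M` of order `p` of the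
derived subgroup form a subgroup of index at most `p ^ 2`. -/
theorem index_le_sq_of_class3 [Finite G] {p : ℕ} [Fact p.Prime] (hG : IsPGroup p G)
    (M : Subgroup G) [M.Normal] (hM : Nat.card M = p) (hMc : M ≤ Subgroup.center G)
    (hML : M ≤ commutator G) (hL : Nat.card (commutator G) = p ^ 2)
    (hnc : ¬ commutator G ≤ Subgroup.center G)
    (Z : Subgroup G) (hZ : ∀ a : G, (∀ g : G, a * g * a⁻¹ * g⁻¹ ∈ M) → a ∈ Z) :
    Z.index ≤ p ^ 2 := by
  have hp : p.Prime := Fact.out
  obtain ⟨w, hwL, hwc⟩ := Set.not_subset.mp hnc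
  have hcomm := comm_mem_of_card_sq hG M hM hML hL
  obtain ⟨hCn, hCi⟩ := Cfsg.Agent.H32.centralizer_normal_index hp hM hMc (hcomm w hwL) hwc
  have hwM : w ∉ M := fun h => hwc (hMc h)
  -- central elements of the derived subgroup lie in `M`
  have hM0 : ∀ v ∈ commutator G, v ∈ Subgroup.center G → v ∈ M := by
    intro v hv hvc
    by_contra hvM
    have h1 : commutator G ⊓ Subgroup.center G = commutator G :=
      eq_of_between_prime_sq hp hL hM (le_inf hML hMc) inf_le_left
        (Subgroup.mem_inf.mpr ⟨hv, hvc⟩) hvM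
    exact hnc (inf_eq_left.mp h1)
  -- the centralizer of `w` centralizes the derived subgroup
  have hCL : ∀ a ∈ Subgroup.centralizer ({w} : Set G), ∀ v ∈ commutator G, a * v = v * a := by
    intro a ha v hv
    have h1 : commutator G ⊓ Subgroup.centralizer ({a} : Set G) = commutator G := by
      apply eq_of_between_prime_sq hp hL hM (le_inf hML ?_) inf_le_left
        (Subgroup.mem_inf.mpr ⟨hwL, ?_⟩) hwM
      · exact hMc.trans (Subgroup.center_le_centralizer _)
      · rw [Subgroup.mem_centralizer_iff]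
        intro h hh
        rw [Set.mem_singleton_iff] at hh
        subst hh
        exact (Subgroup.mem_centralizer_iff.mp ha w rfl).symm
    have h2 : v ∈ Subgroup.centralizer ({a} : Set G) := by
      have h3 : v ∈ commutator G ⊓ Subgroup.centralizer ({a} : Set G) := by
        rw [h1]
        exact hv
      exact (Subgroup.mem_inf.mp h3).2
    exact Subgroup.mem_centralizer_iff.mp h2 a rfl
  have hLC : ∀ v ∈ commutator G, v ∈ Subgroup.centralizer ({w} : Set G) := by
    intro v hv
    have h1 : commutator G ⊓ Subgroup.centralizer ({w} : Set G) = commutator G := by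
      apply eq_of_between_prime_sq hp hL hM (le_inf hML ?_) inf_le_left
        (Subgroup.mem_inf.mpr ⟨hwL, ?_⟩) hwM
      · exact hMc.trans (Subgroup.center_le_centralizer _)
      · rw [Subgroup.mem_centralizer_iff]
        intro h hh
        rw [Set.mem_singleton_iff] at hh
        subst hh
        rfl
    have h3 : v ∈ commutator G ⊓ Subgroup.centralizer ({w} : Set G) := by
      rw [h1]
      exact hv
    exact (Subgroup.mem_inf.mp h3).2
  -- commutators of the centralizer of `w` lie in `M`
  have hCM : ∀ a ∈ Subgroup.centralizer ({w} : Set G), ∀ b ∈ Subgroup.centralizer ({w} : Set G),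
      a * b * a⁻¹ * b⁻¹ ∈ M := by
    intro a ha b hb
    apply hM0 _ (comm_mem_commutator a b)
    rw [Subgroup.mem_center_iff]
    intro g
    have hu : g * a * g⁻¹ * a⁻¹ ∈ commutator G := comm_mem_commutator g a
    have hv : g * b * g⁻¹ * b⁻¹ ∈ commutator G := comm_mem_commutator g b
    have e : g * (a * b * a⁻¹ * b⁻¹) * g⁻¹ =
        ((g * a * g⁻¹ * a⁻¹) * a) * ((g * b * g⁻¹ * b⁻¹) * b) * ((g * a * g⁻¹ * a⁻¹) * a)⁻¹ *
          ((g * b * g⁻¹ * b⁻¹) * b)⁻¹ := by group
    have e2 := comm_mul_central (u := g * a * g⁻¹ * a⁻¹) (v := g * b * g⁻¹ * b⁻¹) (a := a) (b := b)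
      (hCL a ha _ hu).symm (hCL b hb _ hu).symm (hCL a ha _ hv).symm (hCL b hb _ hv).symm
      (hCL _ (hLC _ hu) _ hv)
    rw [e2] at e
    exact mul_inv_eq_iff_eq_mul.mp e
  -- an element outside the centralizer of `w`
  have hx : ∃ x : G, x ∉ Subgroup.centralizer ({w} : Set G) := by
    by_contra h
    push Not at h
    have h1 : Subgroup.centralizer ({w} : Set G) = ⊤ := (Subgroup.eq_top_iff' _).mpr h
    rw [h1, Subgroup.index_top] at hCi
    exact hp.one_lt.ne hCi
  obtain ⟨x, hx⟩ := hx
  -- the quotient by `M`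
  have hQ : IsPGroup p (G ⧸ M) := hG.to_quotient M
  have hK : Nat.card ((commutator G).map (QuotientGroup.mk' M)) = p := by
    have h1 := card_map_mk_mul M (commutator G) hML
    rw [hM, hL, pow_two] at h1
    exact Nat.eq_of_mul_eq_mul_left hp.pos h1
  have hKn : ((commutator G).map (QuotientGroup.mk' M)).Normal :=
    Subgroup.Normal.map inferInstance _ (QuotientGroup.mk'_surjective M)
  have hKc := Cfsg.Agent.H67.le_center_of_normal_of_card_eq_prime hQ
    ((commutator G).map (QuotientGroup.mk' M)) hK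
  have hDi : ((Subgroup.centralizer ({(QuotientGroup.mk x : G ⧸ M)} : Set (G ⧸ M))).comap
      (QuotientGroup.mk' M)).index ≤ p := by
    rw [Subgroup.index_comap_of_surjective _ (QuotientGroup.mk'_surjective M)]
    by_cases hxc : (QuotientGroup.mk x : G ⧸ M) ∈ Subgroup.center (G ⧸ M)
    · have h1 : Subgroup.centralizer ({(QuotientGroup.mk x : G ⧸ M)} : Set (G ⧸ M)) = ⊤ := by
        rw [Subgroup.centralizer_eq_top_iff_subset]
        intro y hy
        rw [Set.mem_singleton_iff] at hy
        rw [hy]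
        exact hxc
      rw [h1, Subgroup.index_top]
      exact hp.one_lt.le
    · have h1 := (Cfsg.Agent.H32.centralizer_normal_index hp hK hKc (z := (QuotientGroup.mk x : G ⧸ M))
        (by
          intro q
          obtain ⟨g, rfl⟩ := QuotientGroup.mk_surjective q
          have h2 : (QuotientGroup.mk x : G ⧸ M) * QuotientGroup.mk g * (QuotientGroup.mk x)⁻¹ *
              (QuotientGroup.mk g)⁻¹ = QuotientGroup.mk' M (x * g * x⁻¹ * g⁻¹) := by
            simp
          rw [h2]
          exact Subgroup.mem_map_of_mem _ (comm_mem_commutator x g)) hxc).2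
      exact h1.le
  -- the intersection lies in `Z`
  have hle : Subgroup.centralizer ({w} : Set G) ⊓
      (Subgroup.centralizer ({(QuotientGroup.mk x : G ⧸ M)} : Set (G ⧸ M))).comap
        (QuotientGroup.mk' M) ≤ Z := by
    intro a ha
    obtain ⟨haC, haD⟩ := Subgroup.mem_inf.mp ha
    apply hZ
    have hCE : Subgroup.centralizer ({w} : Set G) ≤
        (Subgroup.centralizer ({(QuotientGroup.mk a : G ⧸ M)} : Set (G ⧸ M))).comap
          (QuotientGroup.mk' M) := by
      intro c hc
      rw [Subgroup.mem_comap, Subgroup.mem_centralizer_iff]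
      intro h hh
      rw [Set.mem_singleton_iff] at hh
      subst hh
      exact (quot_comm_eq_one_iff M a c).mp (hCM a haC c hc)
    have hxE : x ∈ (Subgroup.centralizer ({(QuotientGroup.mk a : G ⧸ M)} : Set (G ⧸ M))).comap
        (QuotientGroup.mk' M) := by
      rw [Subgroup.mem_comap, Subgroup.mem_centralizer_iff]
      intro h hh
      rw [Set.mem_singleton_iff] at hh
      subst hh
      rw [Subgroup.mem_comap, Subgroup.mem_centralizer_iff] at haD
      exact (haD _ rfl).symm
    have hE : (Subgroup.centralizer ({(QuotientGroup.mk a : G ⧸ M)} : Set (G ⧸ M))).comap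
        (QuotientGroup.mk' M) = ⊤ := by
      have h1 := Subgroup.index_dvd_of_le hCE
      rw [hCi] at h1
      rcases (Nat.dvd_prime hp).mp h1 with h2 | h2
      · exact Subgroup.index_eq_one.mp h2
      · exfalso
        apply hx
        have h3 := Subgroup.card_mul_index (Subgroup.centralizer ({w} : Set G))
        have h4 := Subgroup.card_mul_index
          ((Subgroup.centralizer ({(QuotientGroup.mk a : G ⧸ M)} : Set (G ⧸ M))).comap
            (QuotientGroup.mk' M))
        rw [hCi] at h3
        rw [h2, ← h3] at h4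
        have h5 := Nat.eq_of_mul_eq_mul_right hp.pos h4
        have h6 := Subgroup.eq_of_le_of_card_ge hCE h5.le
        rw [h6]
        exact hxE
    intro g
    have hg : g ∈ (Subgroup.centralizer ({(QuotientGroup.mk a : G ⧸ M)} : Set (G ⧸ M))).comap
        (QuotientGroup.mk' M) := by rw [hE]; exact Subgroup.mem_top g
    rw [Subgroup.mem_comap, Subgroup.mem_centralizer_iff] at hg
    exact (quot_comm_eq_one_iff M a g).mpr (hg _ rfl)
  have h1 := Subgroup.index_dvd_of_le hle
  have h2 := Subgroup.index_inf_le (H := Subgroup.centralizer ({w} : Set G))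
    (K := (Subgroup.centralizer ({(QuotientGroup.mk x : G ⧸ M)} : Set (G ⧸ M))).comap
      (QuotientGroup.mk' M))
  have h3 : 0 < (Subgroup.centralizer ({w} : Set G) ⊓
      (Subgroup.centralizer ({(QuotientGroup.mk x : G ⧸ M)} : Set (G ⧸ M))).comap
        (QuotientGroup.mk' M)).index := Nat.pos_of_ne_zero Subgroup.index_ne_zero_of_finite
  have h4 := Nat.le_of_dvd h3 h1
  rw [hCi] at h2
  calc Z.index ≤ _ := h4
    _ ≤ p * _ := h2
    _ ≤ p * p := Nat.mul_le_mul_left p hDi
    _ = p ^ 2 := (pow_two p).symm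

/-- In a cyclic group, the elements of order dividing `p` all lie in any subgroup of order
`p`. -/
theorem mem_of_pow_prime_eq_one_of_cyclic [Finite G] {p : ℕ} (hp : p.Prime) (Z L : Subgroup G)
    [IsCyclic Z] (hLZ : L ≤ Z) (hL : Nat.card L = p) {z : G} (hz : z ∈ Z) (hzp : z ^ p = 1) :
    z ∈ L := by
  classical
  have hFZ : Fintype Z := Fintype.ofFinite Z
  have hS : (Finset.univ.filter (fun a : Z => a ^ p = 1)).card ≤ p :=
    IsCyclic.card_pow_eq_one_le hp.pos
  have hTS : Finset.univ.filter (fun a : Z => (a : G) ∈ L) ⊆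
      Finset.univ.filter (fun a : Z => a ^ p = 1) := by
    intro a ha
    rw [Finset.mem_filter] at ha ⊢
    refine ⟨Finset.mem_univ _, ?_⟩
    apply Subtype.ext
    simpa using pow_card_eq_one_of_mem hL ha.2
  have hT : (Finset.univ.filter (fun a : Z => (a : G) ∈ L)).card = p := by
    rw [← hL, ← Nat.card_congr (Subgroup.subgroupOfEquivOfLe hLZ).toEquiv,
      Nat.card_eq_fintype_card, Fintype.card_subtype]
    rfl
  have hEq := Finset.eq_of_subset_of_card_le hTS (by rw [hT]; exact hS)
  have hmem : (⟨z, hz⟩ : Z) ∈ Finset.univ.filter (fun a : Z => a ^ p = 1) := by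
    rw [Finset.mem_filter]
    refine ⟨Finset.mem_univ _, ?_⟩
    apply Subtype.ext
    simpa using hzp
  rw [← hEq, Finset.mem_filter] at hmem
  exact hmem.2

end GCG

end Cfsg.Agent.H16
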