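import Mathlib
import Cfsg.Agent.H16.GCGroup

/-!
# helper16: `p`-groups whose equal-degree nonlinear characters are Galois conjugate (S4845)

`gc_forward`: the condition forces a cyclic centre and a derived subgroup of order `p`.
`gc_backward`: the converse.
-/

set_option autoImplicit false

namespace Cfsg.Agent.H16

open Cfsg Cfsg.Agent.H82

universe u

/-- Nonlinear irreducible characters have kernel inside the derived subgroup, and nonlinear
irreducible characters of equal degree have equal kernels. -/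
def GCProp (P : Type u) [Group P] [Finite P] : Prop :=
  (∀ χ : IrrCharacter P, charDegree χ.1 ≠ 1 → irrKer χ ≤ commutator P) ∧
  (∀ χ ψ : IrrCharacter P, charDegree χ.1 ≠ 1 → charDegree χ.1 = charDegree ψ.1 →
    irrKer χ = irrKer ψ)

theorem gcProp_of_galois {P : Type u} [Group P] [Finite P]
    (h : ∀ χ ψ : IrrCharacter P, charDegree χ.1 ≠ 1 → charDegree χ.1 = charDegree ψ.1 →
      ∃ k : ℕ, Nat.Coprime k (Nat.card P) ∧ ∀ g : P, ψ.1 g = χ.1 (g ^ k)) : GCProp P := by
  have hE : ∀ χ ψ : IrrCharacter P, charDegree χ.1 ≠ 1 → charDegree χ.1 = charDegree ψ.1 →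
      irrKer χ = irrKer ψ := by
    intro χ ψ h1 h2
    obtain ⟨k, hk, hg⟩ := h χ ψ h1 h2
    exact (irrKer_eq_of_galois χ ψ k hk hg).symm
  refine ⟨?_, hE⟩
  intro χ h1
  apply irrKer_le_commutator_of_twist
  intro lam
  exact (hE χ (irrTwist χ lam) h1 (charDegree_irrTwist χ lam).symm).symm

theorem gcProp_quotient {P : Type u} [Group P] [Finite P] (h : GCProp P) (M : Subgroup P)
    [M.Normal] : GCProp (P ⧸ M) := by
  obtain ⟨hK, hE⟩ := h
  constructor
  · intro χ h1 q hq
    obtain ⟨g, rfl⟩ := QuotientGroup.mk_surjective q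
    have h2 : g ∈ irrKer (inflate M χ) := by
      rw [irrKer_inflate]
      exact hq
    have h3 := hK (inflate M χ) (by rw [charDegree_inflate]; exact h1) h2
    rw [commutator_quotient_eq_map]
    exact Subgroup.mem_map_of_mem (QuotientGroup.mk' M) h3
  · intro χ ψ h1 h2
    have h3 := hE (inflate M χ) (inflate M ψ) (by rw [charDegree_inflate]; exact h1)
      (by rw [charDegree_inflate, charDegree_inflate]; exact h2)
    rw [irrKer_inflate, irrKer_inflate] at h3
    exact Subgroup.comap_injective (QuotientGroup.mk'_surjective M) h3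

section CenterHom

variable {G : Type*} [Group G] [Finite G]

/-- The central character of an irreducible character, on the centre of the group. -/
noncomputable def centerHom (χ : IrrCharacter G) : Subgroup.center G →* ℂˣ :=
  ((irrCenHom χ).comp (Subgroup.inclusion (center_le_irrCen χ))).toHomUnits

theorem centerHom_apply (χ : IrrCharacter G) (z : Subgroup.center G) :
    ((centerHom χ z : ℂˣ) : ℂ) = χ.1 (z : G) / χ.1 1 := rfl

theorem centerHom_injective (χ : IrrCharacter G) (h : irrKer χ = ⊥) :
    Function.Injective (centerHom χ) := by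
  rw [injective_iff_map_eq_one]
  intro z hz
  have h1 : χ.1 (z : G) / χ.1 1 = 1 := by
    rw [← centerHom_apply, hz]
    rfl
  rw [div_eq_one_iff_eq (irr_one_ne_zero χ), ← mem_irrKer, h, Subgroup.mem_bot] at h1
  exact Subtype.ext h1

theorem center_cyclic_of_faithful (χ : IrrCharacter G) (h : irrKer χ = ⊥) :
    IsCyclic (Subgroup.center G) :=
  isCyclic_of_injective_ringHom ((Units.coeHom ℂ).comp (centerHom χ))
    (Units.val_injective.comp (centerHom_injective χ h))

end CenterHom

theorem sq_ne_prime_mul_sq {p : ℕ} (hp : p.Prime) (a b : ℕ) (hb : 0 < b) :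
    a ^ 2 ≠ p * b ^ 2 := by
  intro h
  have hpF : Fact p.Prime := ⟨hp⟩
  have ha : a ≠ 0 := by
    rintro rfl
    have h1 : 0 < p * b ^ 2 := Nat.mul_pos hp.pos (pow_pos hb 2)
    rw [← h] at h1
    simp at h1
  have h1 := congrArg (padicValNat p) h
  rw [padicValNat.pow a 2, padicValNat.mul hp.ne_zero (pow_pos hb 2).ne',
    padicValNat_self, padicValNat.pow b 2] at h1
  omega

theorem deg_eq_of_prime_mul {p : ℕ} (hp : p.Prime) {r s a b : ℕ} (hr : r ∣ p) (hs : s ∣ p)
    (h : r * a ^ 2 = s * b ^ 2) (ha : 0 < a) (hb : 0 < b) : a = b := by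
  rcases (Nat.dvd_prime hp).mp hr with rfl | rfl <;> rcases (Nat.dvd_prime hp).mp hs with rfl | rfl
  · rw [one_mul, one_mul] at h
    exact Nat.pow_left_injective two_ne_zero h
  · rw [one_mul] at h
    exact absurd h (sq_ne_prime_mul_sq hp a b hb)
  · rw [one_mul] at h
    exact absurd h.symm (sq_ne_prime_mul_sq hp b a ha)
  · exact Nat.pow_left_injective two_ne_zero (Nat.eq_of_mul_eq_mul_left hp.pos h)

theorem charDegree_eq_prime_of_sq_le {P : Type u} [Group P] [Finite P] {p : ℕ} (hp : p.Prime)
    (hP : IsPGroup p P) (χ : IrrCharacter P) (h1 : charDegree χ.1 ≠ 1)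
    (h : charDegree χ.1 ^ 2 ≤ p ^ 3) : charDegree χ.1 = p := by
  obtain ⟨n, hn, hχ⟩ := Cfsg.Agent.H4.irr_degree_dvd_card χ
  have hd : charDegree χ.1 = n := by
    rw [irr_one_eq_charDegree] at hχ
    exact_mod_cast hχ
  have hpF : Fact p.Prime := ⟨hp⟩
  obtain ⟨a, ha⟩ := IsPGroup.iff_card.mp hP
  rw [ha] at hn
  obtain ⟨i, -, hi⟩ := (Nat.dvd_prime_pow hp).mp hn
  rw [hd, hi] at h h1 ⊢
  have hi0 : i ≠ 0 := by
    rintro rfl
    exact h1 (pow_zero p)
  rw [← pow_mul] at h
  have h2 := (Nat.pow_le_pow_iff_right hp.one_lt).mp h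
  have hi1 : i = 1 := by omega
  rw [hi1, pow_one]

/-- The derived subgroup cannot have order `p ^ 2`. -/
theorem gc_not_card_sq {P : Type u} [Group P] [Finite P] (p : ℕ) [Fact p.Prime]
    (hP : IsPGroup p P) (hGC : GCProp P) (hL : Nat.card (commutator P) = p ^ 2) : False := by
  have hp : p.Prime := Fact.out
  obtain ⟨hK, hE⟩ := hGC
  have hLne : commutator P ≠ ⊥ := by
    intro h
    rw [h, Subgroup.card_bot] at hL
    have h1 : 1 < p ^ 2 := Nat.one_lt_pow two_ne_zero hp.one_lt
    omega
  obtain ⟨M, hML, hMc, hM⟩ := exists_central_prime_subgroup hP (commutator P) hLne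
  have hMn : M.Normal := Cfsg.Agent.H32.normal_of_le_center' hMc
  have hcomm := comm_mem_of_card_sq hP M hM hML hL
  have hnle : ¬ commutator P ≤ M := by
    intro h
    have h1 := Subgroup.card_le_of_le h
    rw [hL, hM] at h1
    have h2 : p < p ^ 2 := by
      have := hp.one_lt
      nlinarith
    omega
  obtain ⟨χM, hχM1, hχMk⟩ := exists_nonlinear_of_not_le M hnle
  have hkerM : irrKer χM = M := by
    have h1 : irrKer χM ≤ commutator P := hK χM hχM1
    have h2 : irrKer χM ≠ commutator P := by
      intro h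
      exact hχM1 (linear_of_commutator_le_irrKer χM h.ge)
    rcases card_eq_one_or_prime_of_lt hp hL h1 h2 with h3 | h3
    · have h4 := Subgroup.card_le_of_le hχMk
      rw [h3, hM] at h4
      have := hp.one_lt
      omega
    · exact (Subgroup.eq_of_le_of_card_ge hχMk (by rw [h3, hM])).symm
  have hcenM : commutator P ≤ irrCen χM := by
    intro w hw
    rw [mem_irrCen, hkerM]
    exact hcomm w hw
  have hsqM := sq_eq_index_irrCen χM hcenM
  have hrelM := center_relIndex_irrCen_dvd χM (hkerM ▸ hMc) p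
    (fun k hk => pow_card_eq_one_of_mem hM (hkerM ▸ hk))
  have hidxM := Subgroup.relIndex_mul_index (center_le_irrCen χM)
  obtain ⟨z, hzM, hz1⟩ := Cfsg.Agent.H32.exists_ne_one_of_card_prime hp hM
  obtain ⟨χ', hχ'z, -⟩ := Cfsg.Agent.H32.exists_irr_two_ne hz1 hz1
  have hzker : z ∉ irrKer χ' := hχ'z
  have hχ'1 : charDegree χ'.1 ≠ 1 := by
    intro h
    exact hzker (commutator_le_irrKer_of_linear χ' h (hML hzM))
  have hker' : irrKer χ' ≤ commutator P := hK χ' hχ'1
  have hdne : charDegree χ'.1 ≠ charDegree χM.1 := by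
    intro h
    have h1 := hE χ' χM hχ'1 h
    rw [hkerM] at h1
    exact hzker (h1 ▸ hzM)
  have hker'ne : irrKer χ' ≠ commutator P := by
    intro h
    exact hχ'1 (linear_of_commutator_le_irrKer χ' h.ge)
  have hcard' := card_eq_one_or_prime_of_lt hp hL hker' hker'ne
  by_cases hcl : commutator P ≤ Subgroup.center P
  · -- class two
    have hcen' : commutator P ≤ irrCen χ' := hcl.trans (center_le_irrCen χ')
    have hsq' := sq_eq_index_irrCen χ' hcen'
    have hrel' := center_relIndex_irrCen_dvd χ' (hker'.trans hcl) p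
      (fun k hk => pow_prime_eq_one_of_card hcard' hk)
    have hidx' := Subgroup.relIndex_mul_index (center_le_irrCen χ')
    rw [← hsq'] at hidx'
    rw [← hsqM] at hidxM
    exact hdne (deg_eq_of_prime_mul hp hrel' hrelM (hidx'.trans hidxM.symm)
      (charDegree_pos χ') (charDegree_pos χM))
  · -- class three
    have hM0 : ∀ v ∈ commutator P, v ∈ Subgroup.center P → v ∈ M := by
      intro v hv hvc
      by_contra hvM
      have h1 : commutator P ⊓ Subgroup.center P = commutator P :=
        eq_of_between_prime_sq hp hL hM (le_inf hML hMc) inf_le_left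
          (Subgroup.mem_inf.mpr ⟨hv, hvc⟩) hvM
      exact hcl (inf_eq_left.mp h1)
    have hstruct : (irrCen χM).index ≤ p ^ 2 :=
      index_le_sq_of_class3 hP M hM hMc hML hL hcl (irrCen χM) (by
        intro a ha
        rw [mem_irrCen, hkerM]
        exact ha)
    have hdM : charDegree χM.1 ^ 2 ≤ p ^ 3 := by
      rw [hsqM]
      exact hstruct.trans (Nat.pow_le_pow_right hp.pos (by norm_num))
    have hd' : charDegree χ'.1 ^ 2 ≤ p ^ 3 := by
      have h1 := sq_le_index_irrCen χ'
      have h2 : (irrCen χ').index ≤ (Subgroup.center P).index :=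
        Nat.le_of_dvd (Nat.pos_of_ne_zero Subgroup.index_ne_zero_of_finite)
          (Subgroup.index_dvd_of_le (center_le_irrCen χ'))
      have h3 : (Subgroup.center P).relIndex (irrCen χM) ≤ p := Nat.le_of_dvd hp.pos hrelM
      calc charDegree χ'.1 ^ 2 ≤ (irrCen χ').index := h1
        _ ≤ (Subgroup.center P).index := h2
        _ = (Subgroup.center P).relIndex (irrCen χM) * (irrCen χM).index := hidxM.symm
        _ ≤ p * p ^ 2 := Nat.mul_le_mul h3 hstruct
        _ = p ^ 3 := by ring
    apply hdne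
    rw [charDegree_eq_prime_of_sq_le hp hP χ' hχ'1 hd',
      charDegree_eq_prime_of_sq_le hp hP χM hχM1 hdM]

/-- Under `GCProp`, the derived subgroup of a nonabelian `p`-group has order `p`. -/
theorem gc_card_commutator (p : ℕ) [Fact p.Prime] :
    ∀ (n : ℕ) (P : Type u) [Group P] [Finite P], Nat.card P = n → IsPGroup p P →
      commutator P ≠ ⊥ → GCProp P → Nat.card (commutator P) = p := by
  intro n
  induction n using Nat.strong_induction_on with
  | _ n ih =>
    intro P _ _ hn hP hne hGC
    have hp : p.Prime := Fact.out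
    obtain ⟨M, hML, hMc, hM⟩ := exists_central_prime_subgroup hP (commutator P) hne
    have hMn : M.Normal := Cfsg.Agent.H32.normal_of_le_center' hMc
    by_cases hle : commutator P ≤ M
    · rw [le_antisymm hle hML]
      exact hM
    · exfalso
      have hQ : IsPGroup p (P ⧸ M) := hP.to_quotient M
      have hcardQ : Nat.card (P ⧸ M) < n := by
        have h1 := Subgroup.card_eq_card_quotient_mul_card_subgroup M
        rw [hn, hM] at h1
        have hpos : 0 < Nat.card (P ⧸ M) := Nat.card_pos
        have h2 := hp.one_lt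
        nlinarith
      have hneQ : commutator (P ⧸ M) ≠ ⊥ := by
        intro h
        apply hle
        intro w hw
        have h1 : (QuotientGroup.mk' M w) ∈ commutator (P ⧸ M) := by
          rw [commutator_quotient_eq_map]
          exact Subgroup.mem_map_of_mem _ hw
        rw [h, Subgroup.mem_bot] at h1
        exact (QuotientGroup.eq_one_iff w).mp h1
      have h1 := ih _ hcardQ (P ⧸ M) rfl hQ hneQ (gcProp_quotient hGC M)
      rw [commutator_quotient_eq_map] at h1
      have h2 := card_map_mk_mul M (commutator P) hML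
      rw [hM, h1] at h2
      exact gc_not_card_sq p hP hGC (by rw [← h2, pow_two])

theorem gc_forward {P : Type u} [Group P] [Finite P] (p : ℕ) [Fact p.Prime] (hP : IsPGroup p P)
    (hna : ¬ IsMulCommutative P) (hGC : GCProp P) :
    IsCyclic (Subgroup.center P) ∧ Nat.card (commutator P) = p := by
  have hp : p.Prime := Fact.out
  have hne : commutator P ≠ ⊥ := by
    intro h
    apply hna
    refine ⟨⟨fun a b => ?_⟩⟩
    have h1 : a * b * a⁻¹ * b⁻¹ ∈ commutator P := comm_mem_commutator a b
    rw [h, Subgroup.mem_bot] at h1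
    exact (comm_form_eq_one_iff a b).mp h1
  have hc := gc_card_commutator p _ P rfl hP hne hGC
  refine ⟨?_, hc⟩
  obtain ⟨χ, hχ1, -⟩ := exists_nonlinear_of_not_le (⊥ : Subgroup P)
    (fun h => hne (le_bot_iff.mp h))
  have h1 : irrKer χ ≤ commutator P := hGC.1 χ hχ1
  have h2 : irrKer χ ≠ commutator P := fun h => hχ1 (linear_of_commutator_le_irrKer χ h.ge)
  have h3 : irrKer χ = ⊥ := by
    have hd : Nat.card (irrKer χ) ∣ p := hc ▸ Subgroup.card_dvd_of_le h1
    rcases (Nat.dvd_prime hp).mp hd with h | h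
    · exact Subgroup.card_eq_one.mp h
    · exact absurd (Subgroup.eq_of_le_of_card_ge h1 (by rw [h, hc])) h2
  exact center_cyclic_of_faithful χ h3

section Backward

variable {P : Type u} [Group P] [Finite P]

/-- With cyclic centre and derived subgroup of order `p`, nonlinear characters are faithful. -/
theorem gcb_faithful (p : ℕ) [Fact p.Prime] (hP : IsPGroup p P)
    (hZ : IsCyclic (Subgroup.center P)) (hc : Nat.card (commutator P) = p)
    (θ : IrrCharacter P) (hθ : charDegree θ.1 ≠ 1) : irrKer θ = ⊥ := by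
  have hp : p.Prime := Fact.out
  have hL1 : commutator P ≤ Subgroup.center P :=
    Cfsg.Agent.H67.le_center_of_normal_of_card_eq_prime hP (commutator P) hc
  by_contra hne
  obtain ⟨z, hzK, hzo, hz1⟩ := Cfsg.Agent.H3.normal_exists_central_order_p hP (irrKer θ) hne
  have hzc : z ∈ Subgroup.center P := hzo.1
  have hzp : z ^ p = 1 := hzo.2
  have hzL : z ∈ commutator P :=
    mem_of_pow_prime_eq_one_of_cyclic hp (Subgroup.center P) (commutator P) hL1 hc hzc hzp
  have hle := Cfsg.Agent.H32.le_of_prime_card_of_mem hp hc hzL hzK hz1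
  exact hθ (linear_of_commutator_le_irrKer θ hle)

/-- With derived subgroup of order `p`, faithful characters vanish off the centre. -/
theorem gcb_vanish (p : ℕ) [Fact p.Prime] (hP : IsPGroup p P)
    (hc : Nat.card (commutator P) = p)
    (θ : IrrCharacter P) (hθ : irrKer θ = ⊥) {g : P} (hg : g ∉ Subgroup.center P) :
    θ.1 g = 0 := by
  have hL1 : commutator P ≤ Subgroup.center P :=
    Cfsg.Agent.H67.le_center_of_normal_of_card_eq_prime hP (commutator P) hc
  rw [Subgroup.mem_center_iff] at hg
  push Not at hg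
  obtain ⟨h, hh⟩ := hg
  apply irr_vanish_of_comm θ (h := h)
  · exact center_le_irrCen θ (hL1 (comm_mem_commutator h g))
  · rw [hθ, Subgroup.mem_bot, comm_form_eq_one_iff]
    exact hh

theorem gc_backward (p : ℕ) [Fact p.Prime] (hP : IsPGroup p P)
    (hZ : IsCyclic (Subgroup.center P)) (hc : Nat.card (commutator P) = p)
    (χ ψ : IrrCharacter P) (hχ : charDegree χ.1 ≠ 1) (hd : charDegree χ.1 = charDegree ψ.1) :
    ∃ k : ℕ, Nat.Coprime k (Nat.card P) ∧ ∀ g : P, ψ.1 g = χ.1 (g ^ k) := by
  have hp : p.Prime := Fact.out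
  have hL1 : commutator P ≤ Subgroup.center P :=
    Cfsg.Agent.H67.le_center_of_normal_of_card_eq_prime hP (commutator P) hc
  have hψ : charDegree ψ.1 ≠ 1 := hd ▸ hχ
  have hχf := gcb_faithful p hP hZ hc χ hχ
  have hψf := gcb_faithful p hP hZ hc ψ hψ
  have h1eq : ψ.1 1 = χ.1 1 := by
    rw [irr_one_eq_charDegree, irr_one_eq_charDegree, hd]
  obtain ⟨t, ht⟩ := IsCyclic.exists_generator (α := Subgroup.center P)
  have hN : orderOf t = Nat.card (Subgroup.center P) := orderOf_eq_card_of_forall_mem_zpowers ht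
  have hNpos : 0 < Nat.card (Subgroup.center P) := Nat.card_pos
  have hNZ : NeZero (Nat.card (Subgroup.center P)) := ⟨hNpos.ne'⟩
  have ha : IsPrimitiveRoot (((centerHom χ t : ℂˣ) : ℂ)) (Nat.card (Subgroup.center P)) := by
    rw [IsPrimitiveRoot.coe_units_iff, ← hN, ← orderOf_injective (centerHom χ)
      (centerHom_injective χ hχf) t]
    exact IsPrimitiveRoot.orderOf _
  have hb : IsPrimitiveRoot (((centerHom ψ t : ℂˣ) : ℂ)) (Nat.card (Subgroup.center P)) := by
    rw [IsPrimitiveRoot.coe_units_iff, ← hN, ← orderOf_injective (centerHom ψ)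
      (centerHom_injective ψ hψf) t]
    exact IsPrimitiveRoot.orderOf _
  obtain ⟨i, -, hi⟩ := ha.eq_pow_of_pow_eq_one hb.pow_eq_one
  have hicop : i.Coprime (Nat.card (Subgroup.center P)) := by
    rw [← ha.pow_iff_coprime hNpos i, hi]
    exact hb
  have hpN : p ∣ Nat.card (Subgroup.center P) := hc ▸ Subgroup.card_dvd_of_le hL1
  have hip : i.Coprime p := Nat.Coprime.coprime_dvd_right hpN hicop
  obtain ⟨a, hPa⟩ := IsPGroup.iff_card.mp hP
  have hiP : i.Coprime (Nat.card P) := by
    rw [hPa]
    exact Nat.Coprime.pow_right a hip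
  refine ⟨i, hiP, ?_⟩
  have hu : centerHom ψ t = centerHom χ t ^ i := by
    apply Units.ext
    rw [Units.val_pow_eq_pow_val]
    exact hi.symm
  intro g
  by_cases hg : g ∈ Subgroup.center P
  · obtain ⟨j, hj⟩ := Subgroup.mem_zpowers_iff.mp (ht ⟨g, hg⟩)
    have h1 : centerHom ψ ⟨g, hg⟩ = centerHom χ (⟨g, hg⟩ ^ i) := by
      rw [← hj, map_zpow, hu, map_pow, map_zpow, ← zpow_natCast, ← zpow_natCast, ← zpow_mul,
        ← zpow_mul, mul_comm]
    have h2 := congrArg (fun u : ℂˣ => (u : ℂ)) h1
    simp only [centerHom_apply] at h2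
    rw [h1eq] at h2
    have h0 := irr_one_ne_zero χ
    have h3 : ψ.1 g = χ.1 (((⟨g, hg⟩ : Subgroup.center P) ^ i : Subgroup.center P) : P) := by
      field_simp at h2
      exact h2
    rw [h3]
    rfl
  · rw [gcb_vanish p hP hc ψ hψf hg]
    have hgi : g ^ i ∉ Subgroup.center P := by
      intro h
      apply hg
      have h1 := (powCoprime hiP.symm).left_inv g
      change (g ^ i) ^ ((Nat.card P).gcdB i) = g at h1
      rw [← h1]
      exact (Subgroup.center P).zpow_mem h _
    rw [gcb_vanish p hP hc χ hχf hgi]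

end Backward

end Cfsg.Agent.H16
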