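import Mathlib
import Cfsg.Agent.H10.HO.Defs2

/-!
# HO-HG (piece of helper10's project for S2075)

An automorphism fixing `x, z, t` fixes `n` (and hence everything), because `n⁻¹ β(n)` centralizes
`z` and the test words.
-/

set_option autoImplicit false

namespace Cfsg.Agent.H16.Ho

open Cfsg.Agent.H10.HO

universe u

theorem hg : StHG.{u} := by
  intro G _ x z t n k D hCz hnz hD hza hzat hgen β hx hz ht
  have hev : ∀ w : List ℕ, β (evS x z t w) = evS x z t w := by
    intro w
    induction w with
    | nil => simp [evS]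
    | cons a w ih =>
      rcases a with _ | _ | _ | _ | a
      · simp [evS, ih, hx]
      · simp [evS, ih, hx]
      · simp [evS, ih, hz]
      · simp [evS, ih, hz]
      · simp [evS, ih, ht]
  have hcomm : ∀ d : G, β d = d → β (n * d * n⁻¹) = n * d * n⁻¹ →
      (n⁻¹ * β n) * d = d * (n⁻¹ * β n) := by
    intro d hd hnd
    rw [map_mul, map_mul, map_inv, hd] at hnd
    have h1 : β n * d = n * d * n⁻¹ * β n := by rw [← hnd]; group
    calc n⁻¹ * β n * d = n⁻¹ * (β n * d) := by group
      _ = n⁻¹ * (n * d * n⁻¹ * β n) := by rw [h1]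
      _ = d * (n⁻¹ * β n) := by group
  have hw0z : (n⁻¹ * β n) * z = z * (n⁻¹ * β n) := by
    apply hcomm z hz
    rw [hnz, map_pow, hz]
  have hw0D : ∀ p ∈ D, (n⁻¹ * β n) * evS x z t p.1 = evS x z t p.1 * (n⁻¹ * β n) := by
    intro p hp
    apply hcomm _ (hev _)
    rw [hD p hp, hev]
  have hn : β n = n := by
    obtain ⟨a, ha, h | h⟩ := hCz _ hw0z
    · by_cases ha0 : a = 0
      · rw [ha0, pow_zero] at h
        have h2 : β n = n * (n⁻¹ * β n) := by group
        rw [h2, h, mul_one]
      · obtain ⟨p, hp, hne⟩ := hza a (by omega) ha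
        exact absurd (h ▸ hw0D p hp) hne
    · obtain ⟨p, hp, hne⟩ := hzat a ha
      exact absurd (h ▸ hw0D p hp) hne
  have hall : ∀ g : G, β g = g := by
    intro g
    have hg : g ∈ Subgroup.closure ({x, z, t, n} : Set G) := by rw [hgen]; exact Subgroup.mem_top g
    induction hg using Subgroup.closure_induction with
    | mem y hy =>
      simp only [Set.mem_insert_iff, Set.mem_singleton_iff] at hy
      rcases hy with rfl | rfl | rfl | rfl
      · exact hx
      · exact hz
      · exact ht
      · exact hn
    | one => exact map_one β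
    | mul a b _ _ ha hb => rw [map_mul, ha, hb]
    | inv a _ ha => rw [map_inv, ha]
  ext g
  exact hall g

example : StHG.{u} := hg

end Cfsg.Agent.H16.Ho
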