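import Mathlib
import Cfsg.Agent.H95.HupDefs

/-!
# S3360 (Huppert), basic pieces DVD, OT, ONE
-/

set_option autoImplicit false

universe u w

namespace Cfsg.Agent.H16.Hup

open Cfsg.Agent.H95.Hup

/-- S3360-DVD -/
theorem dvd : DvdStmt.{u, w} := by
  intro q _ V _ _ _ _ G _ _ ρ htr
  classical
  letI : MulAction G V := MulAction.compHom V (ρ : G →* (V ≃ₗ[ZMod q] V))
  have hsm : ∀ (g : G) (v : V), g • v = ρ g v := fun g v => rfl
  obtain ⟨v, hv⟩ := exists_ne (0 : V)
  have horb : MulAction.orbit G v = (Set.univ \ {0} : Set V) := by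
    ext w
    constructor
    · rintro ⟨g, rfl⟩
      refine ⟨Set.mem_univ _, ?_⟩
      intro h
      rw [Set.mem_singleton_iff] at h
      change ρ g v = 0 at h
      exact hv ((ρ g).map_eq_zero_iff.mp h)
    · rintro ⟨-, hw⟩
      obtain ⟨g, hg⟩ := htr v w hv hw
      exact ⟨g, hg⟩
  have h1 : Nat.card (MulAction.orbit G v) = Nat.card V - 1 := by
    rw [horb, Nat.card_coe_set_eq, Set.ncard_sdiff_singleton_of_mem (Set.mem_univ 0),
      Set.ncard_univ]
  rw [← h1, Nat.card_coe_set_eq, ← MulAction.index_stabilizer]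
  exact Subgroup.index_dvd_card _

/-- S3360-OT -/
theorem ot : OTStmt.{u, w} := by
  intro q _ V _ _ _ _ G _ _ ρ hinj htr t ht hnd T hTn hT
  classical
  haveI : Fact t.Prime := ⟨ht⟩
  letI : MulAction T V := MulAction.compHom V ((ρ : G →* (V ≃ₗ[ZMod q] V)).comp T.subtype)
  have hsm : ∀ (x : T) (v : V), x • v = ρ (x : G) v := fun x v => rfl
  have hmod := hT.card_modEq_card_fixedPoints V
  have hex : ∃ v : V, v ≠ 0 ∧ ∀ x : T, ρ (x : G) v = v := by
    by_contra hcon
    push Not at hcon
    have hfix : MulAction.fixedPoints T V = ({0} : Set V) := by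
      ext v
      constructor
      · intro hv
        by_contra hv0
        rw [Set.mem_singleton_iff] at hv0
        obtain ⟨x, hx⟩ := hcon v hv0
        exact hx (hv x)
      · intro hv
        rw [Set.mem_singleton_iff] at hv
        intro x
        rw [hv, hsm, map_zero]
    rw [hfix] at hmod
    have h1 : Nat.card (({0} : Set V)) = 1 := by
      rw [Nat.card_coe_set_eq, Set.ncard_singleton]
    rw [h1] at hmod
    have hpos : 1 ≤ Nat.card V := Nat.card_pos
    exact hnd ((Nat.modEq_iff_dvd' hpos).mp hmod.symm)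
  obtain ⟨v, hv0, hv⟩ := hex
  rw [Subgroup.eq_bot_iff_forall]
  intro x hx
  apply hinj
  rw [map_one]
  ext w
  rw [LinearEquiv.coe_one, id]
  by_cases hw : w = 0
  · rw [hw, map_zero]
  · obtain ⟨g, rfl⟩ := htr v w hv0 hw
    have h2 : g⁻¹ * x * g ∈ T := by
      have := hTn.conj_mem x hx g⁻¹
      rwa [inv_inv] at this
    have h3 := hv ⟨_, h2⟩
    have h4 : x * g = g * (g⁻¹ * x * g) := by group
    rw [← LinearEquiv.mul_apply, ← map_mul, h4, map_mul, LinearEquiv.mul_apply]
    exact congrArg (ρ g) h3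

/-- S3360-ONE -/
theorem one : OneStmt.{u, w} := by
  intro q hq V _ _ _ _ G _ _ ρ hinj hcard
  classical
  have hsub : ∀ W : Submodule (ZMod q) V, W = ⊥ ∨ W = ⊤ := by
    intro W
    have h1 : Nat.card W.toAddSubgroup ∣ Nat.card V := AddSubgroup.card_addSubgroup_dvd_card _
    rw [hcard] at h1
    rcases (Nat.dvd_prime hq.out).mp h1 with h | h
    · left
      have h2 := AddSubgroup.eq_bot_of_card_eq _ h
      apply Submodule.toAddSubgroup_injective
      rw [h2, Submodule.bot_toAddSubgroup]
    · right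
      have h2 := AddSubgroup.eq_top_of_card_eq _ (h.trans hcard.symm)
      apply Submodule.toAddSubgroup_injective
      rw [h2, Submodule.top_toAddSubgroup]
  obtain ⟨v, hv⟩ := exists_ne (0 : V)
  have hspan : ∀ w : V, ∃ c : ZMod q, w = c • v := by
    intro w
    have h1 : (Submodule.span (ZMod q) {v} : Submodule (ZMod q) V) = ⊤ := by
      rcases hsub (Submodule.span (ZMod q) {v}) with h | h
      · exfalso
        apply hv
        have : v ∈ (Submodule.span (ZMod q) {v} : Submodule (ZMod q) V) :=
          Submodule.mem_span_singleton_self v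
        rw [h] at this
        exact (Submodule.mem_bot _).mp this
      · exact h
    have h2 : w ∈ (Submodule.span (ZMod q) {v} : Submodule (ZMod q) V) := by
      rw [h1]
      exact Submodule.mem_top
    obtain ⟨c, hc⟩ := Submodule.mem_span_singleton.mp h2
    exact ⟨c, hc.symm⟩
  refine ⟨⊤, inferInstance, ?_, ?_⟩
  · intro a _ b _
    apply hinj
    rw [map_mul, map_mul]
    ext w
    rw [LinearEquiv.mul_apply, LinearEquiv.mul_apply]
    obtain ⟨c, rfl⟩ := hspan w
    obtain ⟨ca, hca⟩ := hspan (ρ a v)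
    obtain ⟨cb, hcb⟩ := hspan (ρ b v)
    rw [map_smul, map_smul, map_smul, map_smul, hca, hcb, map_smul, map_smul, hca, hcb,
      smul_smul, smul_smul, smul_smul, smul_smul]
    congr 1
    ring
  · intro W _
    exact hsub W

end Cfsg.Agent.H16.Hup
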