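import Mathlib
import Cfsg.Agent.H59.UniqueOrderP

/-!
# Groups with a unique involution and an involutory automorphism with two fixed points (helper16)

Setting (`Hyp z τ`): `z` is the unique involution of the finite group `H`, `τ` is an automorphism
with `τ² = 1` whose fixed points are `1, z`, and every element inverted by `τ` has the form
`k⁻¹ τ(k)`.  Main results:

* `Hyp.suz`: every `v` with `v² = z` normalises `⟨u⟩`, where `u` is the element with `τ u = u z`;
* `Hyp.inverted_of_even_index`: a `τ`-invariant subgroup of even index containing `z` is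
  inverted by `τ`;
* `Hyp.index_le_two`: a subgroup containing all `h⁻¹ τ(h)` has index at most 2.
-/

set_option autoImplicit false

namespace Cfsg.Agent.H16.I2

variable {H : Type*} [Group H]

/-- The hypotheses. -/
structure Hyp (z : H) (τ : H ≃* H) : Prop where
  z_ne : z ≠ 1
  z_sq : z * z = 1
  invol : ∀ h : H, h * h = 1 → h = 1 ∨ h = z
  tt : ∀ h : H, τ (τ h) = h
  fix : ∀ h : H, τ h = h → h = 1 ∨ h = z
  conj : ∀ h : H, τ h = h⁻¹ → ∃ k : H, h = k⁻¹ * τ k

namespace Hyp

variable {z : H} {τ : H ≃* H}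

theorem z_comm (hy : Hyp z τ) (g : H) : g * z = z * g := by
  have h1 : (g * z * g⁻¹) * (g * z * g⁻¹) = 1 := by
    have : (g * z * g⁻¹) * (g * z * g⁻¹) = g * (z * z) * g⁻¹ := by group
    rw [this, hy.z_sq]; group
  rcases hy.invol _ h1 with h | h
  · exfalso; apply hy.z_ne
    have : z = g⁻¹ * (g * z * g⁻¹) * g := by group
    rw [this, h]; group
  · calc g * z = (g * z * g⁻¹) * g := by group
      _ = z * g := by rw [h]

theorem z_inv (hy : Hyp z τ) : z⁻¹ = z := inv_eq_of_mul_eq_one_left hy.z_sq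

theorem tau_z (hy : Hyp z τ) : τ z = z := by
  have h1 : τ z * τ z = 1 := by rw [← map_mul, hy.z_sq, map_one]
  rcases hy.invol _ h1 with h | h
  · exfalso; apply hy.z_ne
    have := congrArg τ h
    rw [hy.tt, map_one] at this
    exact this
  · exact h

theorem phi_eq (hy : Hyp z τ) {h k : H} (e : h⁻¹ * τ h = k⁻¹ * τ k) : k = h ∨ k = h * z := by
  have h1 : τ (k * h⁻¹) = k * h⁻¹ := by
    rw [map_mul, map_inv]
    have : τ k = k * (h⁻¹ * τ h) := by rw [e]; group
    rw [this]; group
  rcases hy.fix _ h1 with h2 | h2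
  · left
    calc k = (k * h⁻¹) * h := by group
      _ = h := by rw [h2, one_mul]
  · right
    calc k = (k * h⁻¹) * h := by group
      _ = z * h := by rw [h2]
      _ = h * z := (hy.z_comm h).symm

/-- if `x² = z` then `x⁻¹ = x z`. -/
theorem inv_of_sq (hy : Hyp z τ) {x : H} (hx : x * x = z) : x⁻¹ = x * z := by
  apply inv_eq_of_mul_eq_one_right
  rw [← mul_assoc, hx, hy.z_sq]

theorem sq_ne_self_inv (hy : Hyp z τ) {x : H} (hx : x * x = z) : x ≠ x⁻¹ := by
  intro h
  apply hy.z_ne
  rw [← hx]
  nth_rewrite 2 [h]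
  exact mul_inv_cancel x

/-- commuting elements with square `z` agree up to inversion. -/
theorem sq_comm (hy : Hyp z τ) {x y : H} (hx : x * x = z) (hy' : y * y = z)
    (hc : x * y = y * x) : y = x ∨ y = x⁻¹ := by
  have h1 : (y * x⁻¹) * (y * x⁻¹) = 1 := by
    have hc' : x⁻¹ * y = y * x⁻¹ := by
      calc x⁻¹ * y = x⁻¹ * (y * x) * x⁻¹ := by group
        _ = x⁻¹ * (x * y) * x⁻¹ := by rw [hc]
        _ = y * x⁻¹ := by group
    calc (y * x⁻¹) * (y * x⁻¹) = y * (x⁻¹ * y) * x⁻¹ := by group
      _ = y * (y * x⁻¹) * x⁻¹ := by rw [hc']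
      _ = (y * y) * (x * x)⁻¹ := by group
      _ = 1 := by rw [hx, hy', mul_inv_cancel]
  rcases hy.invol _ h1 with h | h
  · left
    calc y = (y * x⁻¹) * x := by group
      _ = x := by rw [h, one_mul]
  · right
    calc y = (y * x⁻¹) * x := by group
      _ = z * x := by rw [h]
      _ = x * z := (hy.z_comm x).symm
      _ = x⁻¹ := (hy.inv_of_sq hx).symm

/-- The distinguished element `u`. -/
theorem exists_u (hy : Hyp z τ) :
    ∃ u : H, u * u = z ∧ τ u = u⁻¹ ∧ ∀ h : H, τ h = h * z → h = u ∨ h = u⁻¹ := by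
  have hz : τ z = z⁻¹ := by rw [hy.tau_z, hy.z_inv]
  obtain ⟨k, hk⟩ := hy.conj z hz
  have hτk : τ k = k * z := by rw [hk]; group
  have hkk : τ (k * k) = k * k := by
    rw [map_mul, hτk]
    calc k * z * (k * z) = k * (z * k) * z := by group
      _ = k * (k * z) * z := by rw [hy.z_comm k]
      _ = k * k * (z * z) := by group
      _ = k * k := by rw [hy.z_sq, mul_one]
  have hkz : k * k = z := by
    rcases hy.fix _ hkk with h | h
    · exfalso
      rcases hy.invol _ h with h' | h'
      · rw [h', map_one, one_mul] at hτk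
        exact hy.z_ne hτk.symm
      · rw [h', hy.tau_z] at hτk
        apply hy.z_ne
        calc z = z⁻¹ * (z * z) := by group
          _ = z⁻¹ * z := by rw [← hτk]
          _ = 1 := inv_mul_cancel z
    · exact h
  have hkinv : k⁻¹ = k * z := hy.inv_of_sq hkz
  refine ⟨k, hkz, by rw [hτk, hkinv], ?_⟩
  intro h hh
  have e : k⁻¹ * τ k = h⁻¹ * τ h := by rw [hh, ← hk]; group
  rcases hy.phi_eq e with h1 | h1
  · exact Or.inl h1
  · right; rw [h1, hkinv]

end Hyp

/-- The hypotheses together with the distinguished element `u`. -/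
structure Hyp2 (z : H) (τ : H ≃* H) (u : H) : Prop extends Hyp z τ where
  uu : u * u = z
  tu : τ u = u⁻¹
  fib : ∀ h : H, τ h = h * z → h = u ∨ h = u⁻¹

theorem Hyp.exists_hyp2 {z : H} {τ : H ≃* H} (hy : Hyp z τ) : ∃ u : H, Hyp2 z τ u := by
  obtain ⟨u, h1, h2, h3⟩ := hy.exists_u
  exact ⟨u, { hy with uu := h1, tu := h2, fib := h3 }⟩

namespace Hyp2

variable {z : H} {τ : H ≃* H} {u : H}

theorem tu_inv (hy : Hyp2 z τ u) : τ u⁻¹ = u := by rw [map_inv, hy.tu, inv_inv]

/-- **Suzuki-type lemma**: every `v` with `v² = z` normalises `⟨u⟩`. -/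
theorem suz [Finite H] (hy : Hyp2 z τ u) (v : H) (hv : v * v = z) :
    v * u * v⁻¹ = u ∨ v * u * v⁻¹ = u⁻¹ := by
  have hy0 : Hyp z τ := hy.toHyp
  have hzc := hy0.z_comm
  have hvinv : v⁻¹ = v * z := hy0.inv_of_sq hv
  have huinv : u⁻¹ = u * z := hy0.inv_of_sq hy.uu
  obtain ⟨e, he⟩ : ∃ e : H, e = v * τ v := ⟨_, rfl⟩
  have hτe' : τ e = τ v * v := by rw [he, map_mul, hy.tt]
  have hinve : e⁻¹ = τ v * v := by
    rw [he, mul_inv_rev, ← map_inv, hvinv, map_mul, hy0.tau_z]
    calc τ v * z * (v * z) = τ v * (z * v) * z := by group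
      _ = τ v * (v * z) * z := by rw [hzc v]
      _ = τ v * v * (z * z) := by group
      _ = τ v * v := by rw [hy.z_sq, mul_one]
  have hτe : τ e = e⁻¹ := by rw [hτe', hinve]
  have hve : v * e * v⁻¹ = e⁻¹ := by
    rw [hinve, he, hvinv]
    calc v * (v * τ v) * (v * z) = (v * v) * τ v * (v * z) := by group
      _ = z * τ v * (v * z) := by rw [hv]
      _ = τ v * z * (v * z) := by rw [hzc (τ v)]
      _ = τ v * (z * v) * z := by group
      _ = τ v * (v * z) * z := by rw [hzc v]
      _ = τ v * v * (z * z) := by group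
      _ = τ v * v := by rw [hy.z_sq, mul_one]
  have hvepow : ∀ j : ℕ, v * e ^ j * v⁻¹ = (e ^ j)⁻¹ := by
    intro j; rw [← conj_pow, hve, inv_pow]
  have hτepow : ∀ j : ℕ, τ (e ^ j) = (e ^ j)⁻¹ := by
    intro j; rw [map_pow, hτe, inv_pow]
  have hτv : τ v = e⁻¹ * v⁻¹ := by
    have h1 : τ v = v⁻¹ * e := by rw [he]; group
    have h0 : v * e⁻¹ * v⁻¹ = e := by
      calc v * e⁻¹ * v⁻¹ = (v * e * v⁻¹)⁻¹ := by group
        _ = e := by rw [hve, inv_inv]
    have h2 : v⁻¹ * e = e⁻¹ * v⁻¹ := by
      calc v⁻¹ * e = v⁻¹ * (v * e⁻¹ * v⁻¹) := by rw [h0]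
        _ = e⁻¹ * v⁻¹ := by group
    rw [h1, h2]
  have hkey : ∀ j : ℕ, τ (e ^ j * v) = (e ^ (j + 1))⁻¹ * (v * z) := by
    intro j
    rw [map_mul, hτepow, hτv, hvinv, pow_succ]; group
  -- the final step: `e ∈ {1, z}` gives the claim
  have hfin : e = 1 ∨ e = z → v * u * v⁻¹ = u ∨ v * u * v⁻¹ = u⁻¹ := by
    rintro (h | h)
    · have h1 : τ v = v * z := by
        have : τ v = v⁻¹ * e := by rw [he]; group
        rw [this, h, mul_one, hvinv]
      left
      rcases hy.fib v h1 with h2 | h2
      · rw [h2]; group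
      · rw [h2]; group
    · exfalso
      have h1 : τ v = v := by
        have : τ v = v⁻¹ * e := by rw [he]; group
        rw [this, h, ← hv]; group
      rcases hy.fix v h1 with h2 | h2
      · rw [h2, one_mul] at hv; exact hy.z_ne hv.symm
      · rw [h2, hy.z_sq] at hv; exact hy.z_ne hv.symm
  have hn : 0 < orderOf e := orderOf_pos e
  rcases Nat.even_or_odd' (orderOf e) with ⟨m, hm | hm⟩
  · -- even order `2m`
    have hm0 : 0 < m := by omega
    have hem : e ^ m = z := by
      have h1 : e ^ m * e ^ m = 1 := by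
        rw [← pow_add, ← two_mul, ← hm, pow_orderOf_eq_one]
      rcases hy.invol _ h1 with h | h
      · exfalso
        have := orderOf_dvd_of_pow_eq_one h
        have := Nat.le_of_dvd hm0 this
        omega
      · exact h
    rcases Nat.even_or_odd' m with ⟨j, hj | hj⟩
    · -- `m = 2j`
      have hw : e ^ j * e ^ j = z := by rw [← pow_add, ← two_mul, ← hj, hem]
      have hτw : τ (e ^ j) = e ^ j * z := by rw [hτepow, hy0.inv_of_sq hw]
      have hvw := hvepow j
      right
      rcases hy.fib _ hτw with h | h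
      · rw [h] at hvw; exact hvw
      · rw [h, inv_inv] at hvw
        have : v * u * v⁻¹ = (v * u⁻¹ * v⁻¹)⁻¹ := by group
        rw [this, hvw]
    · -- `m = 2j+1`
      have h1 : (e ^ (j + 1))⁻¹ = e ^ j * z := by
        apply inv_eq_of_mul_eq_one_left
        calc e ^ j * z * e ^ (j + 1) = e ^ j * (z * e ^ (j + 1)) := by group
          _ = e ^ j * (e ^ (j + 1) * z) := by rw [hzc]
          _ = e ^ (j + (j + 1)) * z := by rw [pow_add]; group
          _ = e ^ m * z := by rw [hj]; congr 2; omega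
          _ = 1 := by rw [hem, hy.z_sq]
      have h2 : τ (e ^ j * v) = e ^ j * v := by
        rw [hkey, h1]
        calc e ^ j * z * (v * z) = e ^ j * (z * v) * z := by group
          _ = e ^ j * (v * z) * z := by rw [hzc v]
          _ = e ^ j * v * (z * z) := by group
          _ = e ^ j * v := by rw [hy.z_sq, mul_one]
      have h3 : v * e = e * v := by
        rcases hy.fix _ h2 with h | h
        · have : v = (e ^ j)⁻¹ := by
            calc v = (e ^ j)⁻¹ * (e ^ j * v) := by group
              _ = (e ^ j)⁻¹ := by rw [h, mul_one]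
          rw [this]; group
        · have : v = (e ^ j)⁻¹ * z := by
            calc v = (e ^ j)⁻¹ * (e ^ j * v) := by group
              _ = (e ^ j)⁻¹ * z := by rw [h]
          rw [this]
          calc (e ^ j)⁻¹ * z * e = (e ^ j)⁻¹ * (z * e) := by group
            _ = (e ^ j)⁻¹ * (e * z) := by rw [hzc e]
            _ = e * ((e ^ j)⁻¹ * z) := by group
      have h4 : e * e = 1 := by
        have : e = e⁻¹ := by
          calc e = (e * v) * v⁻¹ := by group
            _ = v * e * v⁻¹ := by rw [h3]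
            _ = e⁻¹ := hve
        nth_rewrite 2 [this]
        exact mul_inv_cancel e
      exact hfin (hy.invol _ h4)
  · -- odd order `2m+1`
    have h1 : (e ^ (m + 1))⁻¹ = e ^ m := by
      apply inv_eq_of_mul_eq_one_left
      rw [← pow_add]
      have : m + (m + 1) = orderOf e := by omega
      rw [this, pow_orderOf_eq_one]
    have h2 : τ (e ^ m * v) = e ^ m * v * z := by
      rw [hkey, h1]; group
    obtain ⟨u', hu'⟩ : ∃ u' : H, u' = e ^ m * v := ⟨_, rfl⟩
    have hu'' : u' = u ∨ u' = u⁻¹ := by rw [hu']; exact hy.fib _ h2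
    have hτu' : τ u' = u'⁻¹ := by
      rcases hu'' with h | h
      · rw [h, hy.tu]
      · rw [h, hy.tu_inv, inv_inv]
    obtain ⟨k, hk⟩ := hy.conj u' hτu'
    have hτk : τ k = k * u' := by rw [hk]; group
    have hu'e : u' * e * u'⁻¹ = e⁻¹ := by
      rw [hu']
      calc e ^ m * v * e * (e ^ m * v)⁻¹ = e ^ m * (v * e * v⁻¹) * (e ^ m)⁻¹ := by group
        _ = e ^ m * e⁻¹ * (e ^ m)⁻¹ := by rw [hve]
        _ = e⁻¹ := by group
    have h3 : τ (k * e * k⁻¹) = k * e * k⁻¹ := by
      rw [map_mul, map_mul, map_inv, hτk, hτe]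
      calc k * u' * e⁻¹ * (k * u')⁻¹ = k * (u' * e * u'⁻¹)⁻¹ * k⁻¹ := by group
        _ = k * e * k⁻¹ := by rw [hu'e, inv_inv]
    apply hfin
    rcases hy.fix _ h3 with h | h
    · left
      calc e = k⁻¹ * (k * e * k⁻¹) * k := by group
        _ = 1 := by rw [h]; group
    · right
      calc e = k⁻¹ * (k * e * k⁻¹) * k := by group
        _ = k⁻¹ * (z * k) := by rw [h]; group
        _ = k⁻¹ * (k * z) := by rw [hzc k]
        _ = z := by group

/-- conjugated form of `suz`. -/
theorem suz_conj [Finite H] (hy : Hyp2 z τ u) (g v : H) (hv : v * v = z) :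
    v * (g * u * g⁻¹) * v⁻¹ = g * u * g⁻¹ ∨ v * (g * u * g⁻¹) * v⁻¹ = (g * u * g⁻¹)⁻¹ := by
  have hy0 : Hyp z τ := hy.toHyp
  have h1 : (g⁻¹ * v * g) * (g⁻¹ * v * g) = z := by
    calc (g⁻¹ * v * g) * (g⁻¹ * v * g) = g⁻¹ * (v * v) * g := by group
      _ = g⁻¹ * (z * g) := by rw [hv]; group
      _ = g⁻¹ * (g * z) := by rw [hy0.z_comm g]
      _ = z := by group
  rcases hy.suz _ h1 with h | h
  · left
    calc v * (g * u * g⁻¹) * v⁻¹ = g * ((g⁻¹ * v * g) * u * (g⁻¹ * v * g)⁻¹) * g⁻¹ := by group
      _ = g * u * g⁻¹ := by rw [h]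
  · right
    calc v * (g * u * g⁻¹) * v⁻¹ = g * ((g⁻¹ * v * g) * u * (g⁻¹ * v * g)⁻¹) * g⁻¹ := by group
      _ = g * u⁻¹ * g⁻¹ := by rw [h]
      _ = (g * u * g⁻¹)⁻¹ := by group

end Hyp2

section Counting

variable {z : H} {τ : H ≃* H} [Finite H]

/-- A subgroup containing all `h⁻¹ τ(h)` has index at most 2. -/
theorem Hyp.index_le_two (hy : Hyp z τ) (L : Subgroup H) (hL : ∀ h : H, h⁻¹ * τ h ∈ L) :
    L.index = 1 ∨ L.index = 2 := by
  classical
  haveI := Fintype.ofFinite H
  have hcard : Nat.card H ≤ 2 * Nat.card L := by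
    rw [Nat.card_eq_fintype_card, Nat.card_eq_fintype_card]
    have key := Finset.card_le_mul_card_image_of_maps_to (s := (Finset.univ : Finset H))
      (t := (Finset.univ : Finset L)) (f := fun h => (⟨h⁻¹ * τ h, hL h⟩ : L))
      (fun a _ => Finset.mem_univ _) 2 (by
        intro a _
        by_cases hne : (Finset.univ.filter
            (fun x : H => (⟨x⁻¹ * τ x, hL x⟩ : L) = a)).Nonempty
        · obtain ⟨x₀, hx₀⟩ := hne
          rw [Finset.mem_filter] at hx₀
          have hsub : (Finset.univ.filter (fun x : H => (⟨x⁻¹ * τ x, hL x⟩ : L) = a))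
              ⊆ {x₀, x₀ * z} := by
            intro x hx
            rw [Finset.mem_filter] at hx
            have e : x₀⁻¹ * τ x₀ = x⁻¹ * τ x := congrArg Subtype.val (hx₀.2.trans hx.2.symm)
            rcases hy.phi_eq e with h | h <;> simp [h]
          exact (Finset.card_le_card hsub).trans Finset.card_le_two
        · rw [Finset.not_nonempty_iff_eq_empty] at hne
          rw [hne]; simp)
    simpa using key
  have h1 : L.index * Nat.card L = Nat.card H := L.index_mul_card
  have hpos : 0 < Nat.card L := Nat.card_pos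
  have hi : L.index ≠ 0 := Subgroup.index_ne_zero_of_finite
  have h2 : L.index ≤ 2 := by
    by_contra hc
    push Not at hc
    have h3 : 3 * Nat.card L ≤ L.index * Nat.card L := Nat.mul_le_mul_right _ hc
    omega
  omega

/-- A `τ`-invariant subgroup of even index containing `z` is inverted by `τ`. -/
theorem Hyp.inverted_of_even_index (hy : Hyp z τ) (L : Subgroup H) (hzL : z ∈ L)
    (hτL : ∀ l ∈ L, τ l ∈ L) (hev : Even L.index) : ∀ l ∈ L, τ l = l⁻¹ := by
  classical
  haveI := Fintype.ofFinite H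
  -- Step 1: a second `τ`-fixed coset
  obtain ⟨h, hhL, hh⟩ : ∃ h : H, h ∉ L ∧ h⁻¹ * τ h ∈ L := by
    let σ : H ⧸ L → H ⧸ L := Quotient.map' (fun x => τ x) (by
      intro a b hab
      rw [QuotientGroup.leftRel_apply] at hab ⊢
      have := hτL _ hab
      rwa [map_mul, map_inv] at this)
    have hσmk : ∀ a : H, σ (QuotientGroup.mk a) = QuotientGroup.mk (τ a) := fun a => rfl
    have hσ : ∀ q, σ (σ q) = q := by
      intro q
      induction q using QuotientGroup.induction_on with
      | H a => rw [hσmk, hσmk, hy.tt]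
    let f : Function.End (H ⧸ L) := σ
    have hf : f ^ 2 ^ 1 = 1 := by
      rw [pow_one, pow_two]
      funext q
      exact hσ q
    haveI : Fact (Nat.Prime 2) := ⟨Nat.prime_two⟩
    have hmod := Equiv.Perm.card_fixedPoints_modEq (p := 2) (n := 1) hf
    have hidx : Fintype.card (H ⧸ L) = L.index := by
      rw [Subgroup.index_eq_card, Nat.card_eq_fintype_card]
    have hev' : Even (Fintype.card (Function.fixedPoints f)) := by
      rw [hidx] at hmod
      have h2 : L.index % 2 = 0 := Nat.even_iff.mp hev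
      have h3 : Fintype.card (Function.fixedPoints f) % 2 = 0 := by
        have := hmod
        unfold Nat.ModEq at this
        omega
      exact Nat.even_iff.mpr h3
    have h1fix : (QuotientGroup.mk (1 : H) : H ⧸ L) ∈ Function.fixedPoints f := by
      show σ (QuotientGroup.mk 1) = QuotientGroup.mk 1
      rw [hσmk, map_one]
    have hlt : 1 < Fintype.card (Function.fixedPoints f) := by
      have hpos : 0 < Fintype.card (Function.fixedPoints f) :=
        Fintype.card_pos_iff.mpr ⟨⟨_, h1fix⟩⟩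
      obtain ⟨k, hk⟩ := hev'
      omega
    obtain ⟨⟨q, hq⟩, hne⟩ := Fintype.exists_ne_of_one_lt_card hlt ⟨_, h1fix⟩
    induction q using QuotientGroup.induction_on with
    | H a =>
      refine ⟨a, ?_, ?_⟩
      · intro haL
        apply hne
        apply Subtype.ext
        show (QuotientGroup.mk a : H ⧸ L) = QuotientGroup.mk 1
        rw [QuotientGroup.eq]
        simpa using haL
      · have h2 : σ (QuotientGroup.mk a) = QuotientGroup.mk a := hq
        rw [hσmk, QuotientGroup.eq] at h2
        have h3 := L.inv_mem h2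
        rwa [mul_inv_rev, inv_inv] at h3
  -- Step 2: counting
  have hmem : ∀ (b : Bool) (x : L),
      ((if b then h else 1) * (x : H))⁻¹ * τ ((if b then h else 1) * (x : H)) ∈ L := by
    intro b x
    cases b
    · simp only [Bool.false_eq_true, if_false, one_mul]
      exact L.mul_mem (L.inv_mem x.2) (hτL _ x.2)
    · simp only [if_true]
      have : (h * (x : H))⁻¹ * τ (h * (x : H)) = (x : H)⁻¹ * (h⁻¹ * τ h) * τ (x : H) := by
        rw [map_mul]; group
      rw [this]
      exact L.mul_mem (L.mul_mem (L.inv_mem x.2) hh) (hτL _ x.2)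
  let F : Bool × L → L := fun bx => ⟨_, hmem bx.1 bx.2⟩
  have hfib : ∀ a ∈ (Finset.univ : Finset (Bool × L)).image F,
      ((Finset.univ : Finset (Bool × L)).filter (fun bx => F bx = a)).card ≤ 2 := by
    intro a _
    by_cases hne : ((Finset.univ : Finset (Bool × L)).filter (fun bx => F bx = a)).Nonempty
    · obtain ⟨⟨b₀, x₀⟩, hx₀⟩ := hne
      rw [Finset.mem_filter] at hx₀
      have hsub : ((Finset.univ : Finset (Bool × L)).filter (fun bx => F bx = a))
          ⊆ {(b₀, x₀), (b₀, x₀ * ⟨z, hzL⟩)} := by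
        rintro ⟨b, x⟩ hx
        rw [Finset.mem_filter] at hx
        have e : ((if b₀ then h else 1) * (x₀ : H))⁻¹ * τ ((if b₀ then h else 1) * (x₀ : H))
            = ((if b then h else 1) * (x : H))⁻¹ * τ ((if b then h else 1) * (x : H)) :=
          congrArg Subtype.val (hx₀.2.trans hx.2.symm)
        have hb : b = b₀ := by
          rcases hy.phi_eq e with h1 | h1
          · cases b <;> cases b₀
            · rfl
            · exfalso; apply hhL
              simp only [Bool.false_eq_true, if_false, one_mul, if_true] at h1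
              have : h = (x : H) * (x₀ : H)⁻¹ := by rw [h1]; group
              rw [this]; exact L.mul_mem x.2 (L.inv_mem x₀.2)
            · exfalso; apply hhL
              simp only [Bool.false_eq_true, if_false, one_mul, if_true] at h1
              have : h = (x₀ : H) * (x : H)⁻¹ := by rw [← h1]; group
              rw [this]; exact L.mul_mem x₀.2 (L.inv_mem x.2)
            · rfl
          · cases b <;> cases b₀
            · rfl
            · exfalso; apply hhL
              simp only [Bool.false_eq_true, if_false, one_mul, if_true] at h1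
              have : h = (x : H) * z⁻¹ * (x₀ : H)⁻¹ := by rw [h1]; group
              rw [this]; exact L.mul_mem (L.mul_mem x.2 (L.inv_mem hzL)) (L.inv_mem x₀.2)
            · exfalso; apply hhL
              simp only [Bool.false_eq_true, if_false, one_mul, if_true] at h1
              have : h = (x₀ : H) * z * (x : H)⁻¹ := by rw [← h1]; group
              rw [this]; exact L.mul_mem (L.mul_mem x₀.2 hzL) (L.inv_mem x.2)
            · rfl
        subst hb
        rcases hy.phi_eq e with h1 | h1
        · have : x = x₀ := Subtype.ext (mul_left_cancel h1)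
          simp [this]
        · have : x = x₀ * ⟨z, hzL⟩ := by
            apply Subtype.ext
            rw [mul_assoc] at h1
            exact mul_left_cancel h1
          simp [this]
      exact (Finset.card_le_card hsub).trans Finset.card_le_two
    · rw [Finset.not_nonempty_iff_eq_empty] at hne
      rw [hne]; simp
  have hc := Finset.card_le_mul_card_image (f := F) (Finset.univ : Finset (Bool × L)) 2 hfib
  have hc2 : Fintype.card L ≤ ((Finset.univ : Finset (Bool × L)).image F).card := by
    rw [Finset.card_univ, Fintype.card_prod, Fintype.card_bool] at hc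
    omega
  have hsurj : (Finset.univ : Finset (Bool × L)).image F = Finset.univ :=
    Finset.eq_univ_of_card _ (le_antisymm (Finset.card_le_univ _) hc2)
  intro l hl
  have : (⟨l, hl⟩ : L) ∈ (Finset.univ : Finset (Bool × L)).image F := by
    rw [hsurj]; exact Finset.mem_univ _
  rw [Finset.mem_image] at this
  obtain ⟨⟨b, x⟩, -, hbx⟩ := this
  have hl' : l = ((if b then h else 1) * (x : H))⁻¹ * τ ((if b then h else 1) * (x : H)) :=
    (congrArg Subtype.val hbx).symm
  rw [hl', map_mul, map_inv, hy.tt]; group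

/-- An element all of whose conjugates are inverted by `τ` is central, if `H` has no subgroup
of index 2. -/
theorem Hyp.central_of_inverted (hy : Hyp z τ) (hno : ¬ ∃ N : Subgroup H, N.index = 2)
    (c : H) (hc : ∀ g : H, τ (g * c * g⁻¹) = (g * c * g⁻¹)⁻¹) : ∀ g : H, g * c = c * g := by
  have hτc : τ c = c⁻¹ := by
    have := hc 1
    simpa using this
  have key : ∀ g : H, c * (g⁻¹ * τ g) = (g⁻¹ * τ g) * c := by
    intro g
    have h1 := hc g
    rw [map_mul, map_mul, map_inv, hτc] at h1
    have h2 : (g⁻¹ * τ g) * c⁻¹ * (g⁻¹ * τ g)⁻¹ = c⁻¹ := by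
      calc (g⁻¹ * τ g) * c⁻¹ * (g⁻¹ * τ g)⁻¹ = g⁻¹ * (τ g * c⁻¹ * (τ g)⁻¹) * g := by group
        _ = g⁻¹ * (g * c * g⁻¹)⁻¹ * g := by rw [h1]
        _ = c⁻¹ := by group
    have h3 : (g⁻¹ * τ g) * c * (g⁻¹ * τ g)⁻¹ = c := by
      calc (g⁻¹ * τ g) * c * (g⁻¹ * τ g)⁻¹ = ((g⁻¹ * τ g) * c⁻¹ * (g⁻¹ * τ g)⁻¹)⁻¹ := by group
        _ = c := by rw [h2, inv_inv]
    calc c * (g⁻¹ * τ g) = ((g⁻¹ * τ g) * c * (g⁻¹ * τ g)⁻¹) * (g⁻¹ * τ g) := by rw [h3]
      _ = (g⁻¹ * τ g) * c := by group
  have hC : ∀ g : H, g⁻¹ * τ g ∈ Subgroup.centralizer ({c} : Set H) := by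
    intro g
    rw [Subgroup.mem_centralizer_iff]
    intro x hx
    rw [Set.mem_singleton_iff] at hx
    subst hx
    exact key g
  rcases hy.index_le_two _ hC with h | h
  · rw [Subgroup.index_eq_one] at h
    intro g
    have : g ∈ Subgroup.centralizer ({c} : Set H) := by rw [h]; trivial
    rw [Subgroup.mem_centralizer_iff] at this
    exact (this c rfl).symm
  · exact absurd ⟨_, h⟩ hno

end Counting

/-- If `H` has a subgroup of index 2 and `τ` is an involutory automorphism, then `H` has a
`τ`-invariant subgroup of index 2. -/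
theorem exists_invariant_index_two (τ : H ≃* H) (hττ : ∀ h : H, τ (τ h) = h)
    (hN : ∃ N : Subgroup H, N.index = 2) :
    ∃ N : Subgroup H, N.index = 2 ∧ ∀ n ∈ N, τ n ∈ N := by
  classical
  obtain ⟨N, hN⟩ := hN
  by_cases hinv : ∀ n ∈ N, τ n ∈ N
  · exact ⟨N, hN, hinv⟩
  push Not at hinv
  obtain ⟨n₀, hn₀, hn₀'⟩ := hinv
  have hmul : ∀ a b : H, a * b ∈ N ↔ (a ∈ N ↔ b ∈ N) :=
    fun a b => Subgroup.mul_mem_iff_of_index_two hN
  let N' : Subgroup H :=
    { carrier := {h | h ∈ N ↔ τ h ∈ N}
      mul_mem' := by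
        intro a b ha hb
        simp only [Set.mem_ofPred_eq] at ha hb ⊢
        rw [map_mul, hmul, hmul, ha, hb]
      one_mem' := by
        simp only [Set.mem_ofPred_eq, map_one]
      inv_mem' := by
        intro a ha
        simp only [Set.mem_ofPred_eq] at ha ⊢
        rw [map_inv, inv_mem_iff, inv_mem_iff, ha] }
  have hmem : ∀ h : H, h ∈ N' ↔ (h ∈ N ↔ τ h ∈ N) := fun h => Iff.rfl
  refine ⟨N', ?_, ?_⟩
  · rw [Subgroup.index_eq_two_iff]
    refine ⟨n₀, fun b => ?_⟩
    rw [hmem, hmem, map_mul, hmul, hmul]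
    by_cases h1 : b ∈ N <;> by_cases h2 : τ b ∈ N <;> simp [h1, h2, hn₀, hn₀', Xor]
  · intro n hn
    rw [hmem] at hn ⊢
    rw [hττ]
    exact hn.symm

end Cfsg.Agent.H16.I2
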