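import Mathlib
import Cfsg.Agent.H16.I2Abs

/-!
# Structure theorem for `Hyp z τ` (helper16)

`Hyp.main`: under `Hyp z τ` the group `H` has a subgroup of index 2 or
`|H| = 12 |Z(H)|`.
-/

set_option autoImplicit false

namespace Cfsg.Agent.H16.I2

variable {H : Type*} [Group H]

/-- A finite group of even order with a cyclic Sylow 2-subgroup has a subgroup of index 2. -/
theorem exists_index_two_of_cyclic_sylow [Finite H] (P : Sylow 2 H) (hP : IsCyclic P)
    (h2 : 2 ∣ Nat.card H) : ∃ N : Subgroup H, N.index = 2 := by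
  haveI : Fact (Nat.Prime 2) := ⟨Nat.prime_two⟩
  have hp : (Nat.card H).minFac = 2 := (Nat.minFac_eq_two_iff _).mpr h2
  have hcomp := IsCyclic.isComplement' hp hP
  obtain ⟨K, hKn, hK⟩ : ∃ K : Subgroup H, K.Normal ∧ K.IsComplement' P :=
    ⟨_, MonoidHom.normal_ker _, hcomp⟩
  have hKidx : K.index = Nat.card P := hK.symm.index_eq_card
  obtain ⟨k, hk⟩ := IsPGroup.iff_card.mp P.isPGroup'
  have hk0 : k ≠ 0 := by
    rintro rfl
    have h1 := P.ne_bot_of_dvd_card h2
    apply h1
    rw [← Subgroup.card_eq_one, hk, pow_zero]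
  have hqc : Nat.card (H ⧸ K) = 2 ^ k := by rw [← Subgroup.index_eq_card, hKidx, hk]
  obtain ⟨j, rfl⟩ : ∃ j, k = j + 1 := ⟨k - 1, by omega⟩
  obtain ⟨M, hM⟩ := Sylow.exists_subgroup_card_pow_prime 2 (G := H ⧸ K) (n := j)
    (by rw [hqc]; exact pow_dvd_pow 2 (Nat.le_succ j))
  refine ⟨M.comap (QuotientGroup.mk' K), ?_⟩
  rw [Subgroup.index_comap_of_surjective _ (QuotientGroup.mk'_surjective K)]
  have h3 := M.index_mul_card
  rw [hM, hqc, pow_succ] at h3
  have h4 : 0 < 2 ^ j := by positivity
  have h5 : M.index * 2 ^ j = 2 * 2 ^ j := by rw [h3, mul_comm]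
  exact Nat.eq_of_mul_eq_mul_right h4 h5

variable {z : H} {τ : H ≃* H}

/-- If the element `u` with `u² = z` is central, `H` has a subgroup of index 2. -/
theorem Hyp.index_two_of_central [Finite H] (hy : Hyp z τ) (u : H) (huu : u * u = z)
    (hcen : ∀ g : H, g * u = u * g) : ∃ N : Subgroup H, N.index = 2 := by
  classical
  have hsq : ∀ v : H, v * v = z → v = u ∨ v = u⁻¹ :=
    fun v hv => hy.sq_comm huu hv (hcen v).symm
  haveI : Fact (Nat.Prime 2) := ⟨Nat.prime_two⟩
  have h2 : 2 ∣ Nat.card H := by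
    have : orderOf z = 2 := orderOf_eq_prime (by rw [pow_two]; exact hy.z_sq) hy.z_ne
    rw [← this]; exact orderOf_dvd_natCard z
  obtain ⟨P⟩ : Nonempty (Sylow 2 H) := inferInstance
  by_cases hP : IsCyclic P
  · exact exists_index_two_of_cyclic_sylow P hP h2
  exfalso
  have key : ∀ A : Subgroup P, Nat.card A = 2 → ∀ x : P, x ∈ A ↔ (x = 1 ∨ ((x : H) = z)) := by
    intro A hA x
    have fwd : ∀ y : P, y ∈ A → (y = 1 ∨ ((y : H) = z)) := by
      intro y hy'
      have h1 : (⟨y, hy'⟩ : A) ^ 2 = 1 := by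
        have h0 : (⟨y, hy'⟩ : A) ^ Nat.card A = 1 := pow_card_eq_one'
        rwa [hA] at h0
      have h2 : y * y = 1 := by
        have := congrArg Subtype.val h1
        simpa [pow_two] using this
      have h3 : (y : H) * (y : H) = 1 := by
        have := congrArg Subtype.val h2
        simpa using this
      rcases hy.invol _ h3 with h | h
      · left; exact Subtype.ext h
      · right; exact h
    refine ⟨fwd x, ?_⟩
    rintro (h | h)
    · rw [h]; exact A.one_mem
    · have hne : A ≠ ⊥ := by
        intro hb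
        rw [hb, Subgroup.card_bot] at hA
        omega
      obtain ⟨y, hy1⟩ := Subgroup.ne_bot_iff_exists_ne_one.mp hne
      rcases fwd y y.2 with h' | h'
      · exact absurd (Subtype.ext h') hy1
      · have : x = (y : P) := Subtype.ext (h.trans h'.symm)
        rw [this]; exact y.2
  have huniq : ∀ A B : Subgroup P, Nat.card A = 2 → Nat.card B = 2 → A = B := by
    intro A B hA hB
    ext x
    rw [key A hA, key B hB]
  rcases Cfsg.Agent.H59.cyclic_or_quaternion_of_unique 2 P.isPGroup' huniq with h | ⟨-, n, ⟨e⟩⟩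
  · exact hP h
  · rcases n with _ | n
    · apply hP
      haveI : IsCyclic (QuaternionGroup (2 ^ 0)) := QuaternionGroup.quaternionGroup_one_isCyclic
      exact isCyclic_of_surjective e.symm e.symm.surjective
    · have hm2 : 2 ≤ 2 ^ (n + 1) := by
        calc 2 = 2 ^ 1 := by norm_num
          _ ≤ 2 ^ (n + 1) := Nat.pow_le_pow_right (by norm_num) (by omega)
      generalize 2 ^ (n + 1) = m at e hm2
      have hzero : (m : ZMod (2 * m)) + (m : ZMod (2 * m)) = 0 := by
        have : ((2 * m : ℕ) : ZMod (2 * m)) = 0 := ZMod.natCast_self _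
        rw [← two_mul]
        exact_mod_cast this
      have hsqv : ∀ i : ZMod (2 * m),
          ((e.symm (QuaternionGroup.xa i) : P) : H) * ((e.symm (QuaternionGroup.xa i) : P) : H)
            = z := by
        intro i
        have h1 : e.symm (QuaternionGroup.xa i) * e.symm (QuaternionGroup.xa i)
            = e.symm (QuaternionGroup.a (m : ZMod (2 * m))) := by
          rw [← map_mul, QuaternionGroup.xa_mul_xa]
          congr 2
          ring
        have h2 : e.symm (QuaternionGroup.a (m : ZMod (2 * m))) ≠ 1 := by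
          intro h
          have h3 := e.symm.injective (h.trans (map_one e.symm).symm)
          rw [QuaternionGroup.one_def] at h3
          injection h3 with h3
          rw [ZMod.natCast_eq_zero_iff] at h3
          have := Nat.le_of_dvd (by omega) h3
          omega
        have h3 : e.symm (QuaternionGroup.a (m : ZMod (2 * m)))
            * e.symm (QuaternionGroup.a (m : ZMod (2 * m))) = 1 := by
          rw [← map_mul, QuaternionGroup.a_mul_a, hzero, QuaternionGroup.a_zero, map_one]
        have h4 : ((e.symm (QuaternionGroup.a (m : ZMod (2 * m))) : P) : H) = z := by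
          have h5 : ((e.symm (QuaternionGroup.a (m : ZMod (2 * m))) : P) : H)
              * ((e.symm (QuaternionGroup.a (m : ZMod (2 * m))) : P) : H) = 1 :=
            congrArg Subtype.val h3
          rcases hy.invol _ h5 with h | h
          · exact absurd (Subtype.ext h) h2
          · exact h
        rw [← h4, ← h1]; rfl
      have h0 := hsq _ (hsqv 0)
      have h1 := hsq _ (hsqv 1)
      have hcomm : ((e.symm (QuaternionGroup.xa 0) : P) : H) * ((e.symm (QuaternionGroup.xa 1) : P) : H)
          = ((e.symm (QuaternionGroup.xa 1) : P) : H) * ((e.symm (QuaternionGroup.xa 0) : P) : H) := by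
        rcases h0 with h0 | h0 <;> rcases h1 with h1 | h1 <;> rw [h0, h1] <;> group
      have hcomm' : e.symm (QuaternionGroup.xa 0) * e.symm (QuaternionGroup.xa 1)
          = e.symm (QuaternionGroup.xa 1) * e.symm (QuaternionGroup.xa 0) := Subtype.ext hcomm
      rw [← map_mul, ← map_mul] at hcomm'
      have h3 := e.symm.injective hcomm'
      rw [QuaternionGroup.xa_mul_xa, QuaternionGroup.xa_mul_xa] at h3
      injection h3 with h3
      have h4 : ((2 : ℕ) : ZMod (2 * m)) = 0 := by
        have : (1 : ZMod (2 * m)) + 1 = 0 := by linear_combination h3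
        push_cast
        rw [← this]; norm_num
      rw [ZMod.natCast_eq_zero_iff] at h4
      have := Nat.le_of_dvd (by norm_num) h4
      omega

/-- the normaliser of the axis `{u, u⁻¹}`. -/
def axisNorm (u : H) : Subgroup H where
  carrier := {g | g * u * g⁻¹ = u ∨ g * u * g⁻¹ = u⁻¹}
  mul_mem' := by
    intro a b ha hb
    show a * b * u * (a * b)⁻¹ = u ∨ a * b * u * (a * b)⁻¹ = u⁻¹
    have e : a * b * u * (a * b)⁻¹ = a * (b * u * b⁻¹) * a⁻¹ := by group
    rw [e]
    rcases hb with hb | hb
    · rw [hb]; exact ha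
    · rw [hb]
      have e2 : a * u⁻¹ * a⁻¹ = (a * u * a⁻¹)⁻¹ := by group
      rw [e2]
      rcases ha with ha | ha
      · right; rw [ha]
      · left; rw [ha, inv_inv]
  one_mem' := Or.inl (by group)
  inv_mem' := by
    intro a ha
    show a⁻¹ * u * a⁻¹⁻¹ = u ∨ a⁻¹ * u * a⁻¹⁻¹ = u⁻¹
    rcases ha with ha | ha
    · left
      calc a⁻¹ * u * a⁻¹⁻¹ = a⁻¹ * (a * u * a⁻¹) * a := by rw [ha]; group
        _ = u := by group
    · right
      calc a⁻¹ * u * a⁻¹⁻¹ = (a⁻¹ * u⁻¹ * a)⁻¹ := by group
        _ = (a⁻¹ * (a * u * a⁻¹) * a)⁻¹ := by rw [ha]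
        _ = u⁻¹ := by group

theorem mem_axisNorm (u g : H) : g ∈ axisNorm u ↔ (g * u * g⁻¹ = u ∨ g * u * g⁻¹ = u⁻¹) :=
  Iff.rfl

theorem mem_centralizer_singleton (u x : H) :
    x ∈ Subgroup.centralizer ({u} : Set H) ↔ x * u * x⁻¹ = u := by
  rw [Subgroup.mem_centralizer_iff]
  constructor
  · intro h
    rw [← h u rfl]; group
  · intro h y hy'
    rw [Set.mem_singleton_iff] at hy'
    subst hy'
    calc y * x = (x * y * x⁻¹) * x := by rw [h]
      _ = x * y := by group

/-- **Structure theorem**: `H` has a subgroup of index 2, or `|H| = 12 |Z(H)|`. -/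
theorem Hyp.main [Finite H] (hy : Hyp z τ) :
    (∃ N : Subgroup H, N.index = 2) ∨ Nat.card H = 12 * Nat.card (Subgroup.center H) := by
  classical
  by_cases hno : ∃ N : Subgroup H, N.index = 2
  · exact Or.inl hno
  right
  obtain ⟨u, hy2⟩ := hy.exists_hyp2
  have huu := hy2.uu
  have hzc := hy.z_comm
  have hune : u ≠ u⁻¹ := hy.sq_ne_self_inv huu
  have huinv : u⁻¹ = u * z := hy.inv_of_sq huu
  have hconj_sq : ∀ g : H, (g * u * g⁻¹) * (g * u * g⁻¹) = z := by
    intro g
    calc (g * u * g⁻¹) * (g * u * g⁻¹) = g * (u * u) * g⁻¹ := by group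
      _ = g * z * g⁻¹ := by rw [huu]
      _ = z * g * g⁻¹ := by rw [hzc g]
      _ = z := by group
  by_cases hD : ∀ g : H, g * u * g⁻¹ = u ∨ g * u * g⁻¹ = u⁻¹
  · exfalso; apply hno
    by_cases hD' : ∃ g : H, g * u * g⁻¹ = u⁻¹
    · obtain ⟨g, hg⟩ := hD'
      refine ⟨Subgroup.centralizer {u}, ?_⟩
      rw [Subgroup.index_eq_two_iff]
      refine ⟨g, fun b => ?_⟩
      rw [mem_centralizer_singleton, mem_centralizer_singleton]
      have e : b * g * u * (b * g)⁻¹ = b * (g * u * g⁻¹) * b⁻¹ := by group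
      rw [e, hg]
      have e2 : b * u⁻¹ * b⁻¹ = (b * u * b⁻¹)⁻¹ := by group
      rw [e2]
      rcases hD b with h | h
      · rw [h]; right
        exact ⟨rfl, fun h' => hune h'.symm⟩
      · rw [h, inv_inv]; left
        exact ⟨rfl, fun h' => hune h'.symm⟩
    · push Not at hD'
      apply hy.index_two_of_central u huu
      intro g
      rcases hD g with h | h
      · calc g * u = (g * u * g⁻¹) * g := by group
          _ = u * g := by rw [h]
      · exact absurd h (hD' g)
  · push Not at hD
    obtain ⟨g₂, hg₂a, hg₂b⟩ := hD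
    obtain ⟨u₂, hu₂⟩ : ∃ u₂ : H, u₂ = g₂ * u * g₂⁻¹ := ⟨_, rfl⟩
    rw [← hu₂] at hg₂a hg₂b
    have hu₂sq : u₂ * u₂ = z := by rw [hu₂]; exact hconj_sq g₂
    have hu₂inv : u₂⁻¹ = u₂ * z := hy.inv_of_sq hu₂sq
    have hu₂ne : u₂ ≠ u₂⁻¹ := hy.sq_ne_self_inv hu₂sq
    have hnc : u * u₂ ≠ u₂ * u := by
      intro hc
      rcases hy.sq_comm huu hu₂sq hc with h' | h'
      · exact hg₂a h'
      · exact hg₂b h'
    have anti1 : u₂ * u * u₂⁻¹ = u⁻¹ := by
      rcases hy2.suz u₂ hu₂sq with h | h
      · exfalso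
        apply hnc
        calc u * u₂ = (u₂ * u * u₂⁻¹) * u₂ := by rw [h]
          _ = u₂ * u := by group
      · exact h
    have anti2 : u * u₂ * u⁻¹ = u₂⁻¹ := by
      have := hy2.suz_conj g₂ u huu
      rw [← hu₂] at this
      rcases this with h | h
      · exfalso
        apply hnc
        calc u * u₂ = (u * u₂ * u⁻¹) * u := by group
          _ = u₂ * u := by rw [h]
      · exact h
    obtain ⟨w, hw⟩ : ∃ w : H, w = u * u₂ := ⟨_, rfl⟩
    have hwsq : w * w = z := by
      rw [hw]
      calc u * u₂ * (u * u₂) = u * (u₂ * u * u₂⁻¹) * u₂ * u₂ := by group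
        _ = u * u⁻¹ * u₂ * u₂ := by rw [anti1]
        _ = u₂ * u₂ := by group
        _ = z := hu₂sq
    have hwinv : w⁻¹ = w * z := hy.inv_of_sq hwsq
    have huwu : u * w * u⁻¹ = w⁻¹ := by
      rw [hwinv, hw]
      calc u * (u * u₂) * u⁻¹ = u * (u * u₂ * u⁻¹) := by group
        _ = u * u₂⁻¹ := by rw [anti2]
        _ = u * u₂ * z := by rw [hu₂inv]; group
    -- distinctness
    have hu1 : u ≠ 1 := by
      rintro h; rw [h, one_mul] at huu; exact hy.z_ne huu.symm
    have hu₂1 : u₂ ≠ 1 := by
      rintro h; rw [h, one_mul] at hu₂sq; exact hy.z_ne hu₂sq.symm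
    have huz : u ≠ z := by
      rintro h; rw [h, hy.z_sq] at huu; exact hy.z_ne huu.symm
    have hu₂z : u₂ ≠ z := by
      rintro h; rw [h, hy.z_sq] at hu₂sq; exact hy.z_ne hu₂sq.symm
    have hwu : w ≠ u := by
      intro h; apply hu₂1
      calc u₂ = u⁻¹ * (u * u₂) := by group
        _ = u⁻¹ * u := by rw [← hw, h]
        _ = 1 := inv_mul_cancel u
    have hwui : w ≠ u⁻¹ := by
      intro h; apply hu₂z
      calc u₂ = u⁻¹ * (u * u₂) := by group
        _ = u⁻¹ * u⁻¹ := by rw [← hw, h]
        _ = (u * u)⁻¹ := by group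
        _ = z := by rw [huu, hy.z_inv]
    have hwu₂ : w ≠ u₂ := by
      intro h; apply hu1
      calc u = (u * u₂) * u₂⁻¹ := by group
        _ = u₂ * u₂⁻¹ := by rw [← hw, h]
        _ = 1 := mul_inv_cancel u₂
    have hwu₂i : w ≠ u₂⁻¹ := by
      intro h; apply huz
      calc u = (u * u₂) * u₂⁻¹ := by group
        _ = u₂⁻¹ * u₂⁻¹ := by rw [← hw, h]
        _ = (u₂ * u₂)⁻¹ := by group
        _ = z := by rw [hu₂sq, hy.z_inv]
    have hwiu : w⁻¹ ≠ u := fun h => hwui (by rw [← h, inv_inv])
    have hwiui : w⁻¹ ≠ u⁻¹ := fun h => hwu (inv_injective h)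
    have hwiu₂ : w⁻¹ ≠ u₂ := fun h => hwu₂i (by rw [← h, inv_inv])
    have hwiu₂i : w⁻¹ ≠ u₂⁻¹ := fun h => hwu₂ (inv_injective h)
    have hwne : w ≠ w⁻¹ := hy.sq_ne_self_inv hwsq
    -- six-way classification of conjugates
    have hsix : ∀ g : H, g * u * g⁻¹ = u ∨ g * u * g⁻¹ = u⁻¹ ∨ g * u * g⁻¹ = u₂ ∨
        g * u * g⁻¹ = u₂⁻¹ ∨ g * u * g⁻¹ = w ∨ g * u * g⁻¹ = w⁻¹ := by
      intro g
      obtain ⟨x, hx⟩ : ∃ x : H, x = g * u * g⁻¹ := ⟨_, rfl⟩
      rw [← hx]
      have hxsq : x * x = z := by rw [hx]; exact hconj_sq g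
      have h1 := hy2.suz x hxsq
      have h2 := hy2.suz_conj g₂ x hxsq
      rw [← hu₂] at h2
      rcases h1 with h1 | h1
      · have hc : u * x = x * u := by
          calc u * x = (x * u * x⁻¹) * x := by rw [h1]
            _ = x * u := by group
        rcases hy.sq_comm huu hxsq hc with h | h
        · exact Or.inl h
        · exact Or.inr (Or.inl h)
      · rcases h2 with h2 | h2
        · have hc : u₂ * x = x * u₂ := by
            calc u₂ * x = (x * u₂ * x⁻¹) * x := by rw [h2]
              _ = x * u₂ := by group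
          rcases hy.sq_comm hu₂sq hxsq hc with h | h
          · exact Or.inr (Or.inr (Or.inl h))
          · exact Or.inr (Or.inr (Or.inr (Or.inl h)))
        · have hc : w * x = x * w := by
            have : x * w * x⁻¹ = w := by
              rw [hw]
              calc x * (u * u₂) * x⁻¹ = (x * u * x⁻¹) * (x * u₂ * x⁻¹) := by group
                _ = u⁻¹ * u₂⁻¹ := by rw [h1, h2]
                _ = u * u₂ := by
                    rw [huinv, hu₂inv]
                    calc u * z * (u₂ * z) = u * (z * u₂) * z := by group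
                      _ = u * (u₂ * z) * z := by rw [hzc u₂]
                      _ = u * u₂ * (z * z) := by group
                      _ = u * u₂ := by rw [hy.z_sq, mul_one]
            calc w * x = (x * w * x⁻¹) * x := by rw [this]
              _ = x * w := by group
          rcases hy.sq_comm hwsq hxsq hc with h | h
          · exact Or.inr (Or.inr (Or.inr (Or.inr (Or.inl h))))
          · exact Or.inr (Or.inr (Or.inr (Or.inr (Or.inr h))))
    by_cases hW : ∃ g₃ : H, g₃ * u * g₃⁻¹ = w
    swap
    · -- only two axes are conjugate: the axis normaliser has index 2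
      exfalso; apply hno
      push Not at hW
      have hW' : ∀ g : H, g * u * g⁻¹ ≠ w⁻¹ := by
        intro g hg
        apply hW (u * g)
        calc u * g * u * (u * g)⁻¹ = u * (g * u * g⁻¹) * u⁻¹ := by group
          _ = u * w⁻¹ * u⁻¹ := by rw [hg]
          _ = (u * w * u⁻¹)⁻¹ := by group
          _ = w := by rw [huwu, inv_inv]
      have hfour : ∀ g : H, g * u * g⁻¹ = u ∨ g * u * g⁻¹ = u⁻¹ ∨ g * u * g⁻¹ = u₂ ∨
          g * u * g⁻¹ = u₂⁻¹ := by
        intro g
        rcases hsix g with h | h | h | h | h | h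
        · exact Or.inl h
        · exact Or.inr (Or.inl h)
        · exact Or.inr (Or.inr (Or.inl h))
        · exact Or.inr (Or.inr (Or.inr h))
        · exact absurd h (hW g)
        · exact absurd h (hW' g)
      refine ⟨axisNorm u, ?_⟩
      rw [Subgroup.index_eq_two_iff]
      refine ⟨g₂, fun b => ?_⟩
      have e : b * g₂ * u * (b * g₂)⁻¹ = b * u₂ * b⁻¹ := by rw [hu₂]; group
      by_cases hb : b ∈ axisNorm u
      · right
        refine ⟨hb, ?_⟩
        intro hbg
        rw [mem_axisNorm, e] at hbg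
        have hb' := (axisNorm u).inv_mem hb
        rw [mem_axisNorm, inv_inv] at hb'
        have e3 : u₂ = b⁻¹ * (b * u₂ * b⁻¹) * b := by group
        rcases hbg with h | h
        · rw [h] at e3
          rcases hb' with h' | h'
          · exact hg₂a (e3.trans h')
          · exact hg₂b (e3.trans h')
        · rw [h] at e3
          have e4 : b⁻¹ * u⁻¹ * b = (b⁻¹ * u * b)⁻¹ := by group
          rw [e4] at e3
          rcases hb' with h' | h'
          · exact hg₂b (e3.trans (by rw [h']))
          · exact hg₂a (e3.trans (by rw [h', inv_inv]))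
      · left
        refine ⟨?_, hb⟩
        rw [mem_axisNorm, e]
        rw [mem_axisNorm] at hb
        push Not at hb
        have hbu : b * u * b⁻¹ = u₂ ∨ b * u * b⁻¹ = u₂⁻¹ := by
          rcases hfour b with h | h | h | h
          · exact absurd h hb.1
          · exact absurd h hb.2
          · exact Or.inl h
          · exact Or.inr h
        have h4 := hfour (b * g₂)
        rw [e] at h4
        rcases h4 with h | h | h | h
        · exact Or.inl h
        · exact Or.inr h
        · exfalso
          rcases hbu with h' | h'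
          · -- b u₂ b⁻¹ = b u b⁻¹
            apply hg₂a
            have : b * u₂ * b⁻¹ = b * u * b⁻¹ := h.trans h'.symm
            calc u₂ = b⁻¹ * (b * u₂ * b⁻¹) * b := by group
              _ = b⁻¹ * (b * u * b⁻¹) * b := by rw [this]
              _ = u := by group
          · apply hg₂b
            have : b * u₂ * b⁻¹ = (b * u * b⁻¹)⁻¹ := by rw [h, h', inv_inv]
            calc u₂ = b⁻¹ * (b * u₂ * b⁻¹) * b := by group
              _ = b⁻¹ * (b * u * b⁻¹)⁻¹ * b := by rw [this]
              _ = u⁻¹ := by group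
        · exfalso
          rcases hbu with h' | h'
          · apply hg₂b
            have : b * u₂ * b⁻¹ = (b * u * b⁻¹)⁻¹ := by rw [h, h']
            calc u₂ = b⁻¹ * (b * u₂ * b⁻¹) * b := by group
              _ = b⁻¹ * (b * u * b⁻¹)⁻¹ * b := by rw [this]
              _ = u⁻¹ := by group
          · apply hg₂a
            have : b * u₂ * b⁻¹ = b * u * b⁻¹ := h.trans h'.symm
            calc u₂ = b⁻¹ * (b * u₂ * b⁻¹) * b := by group
              _ = b⁻¹ * (b * u * b⁻¹) * b := by rw [this]
              _ = u := by group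
    -- all three axes are conjugate
    obtain ⟨g₃, hg₃⟩ := hW
    -- no element centralising `u` maps the axis of `u₂` to that of `w`
    have IL : ∀ c : H, c * u * c⁻¹ = u → (c * u₂ * c⁻¹ = w ∨ c * u₂ * c⁻¹ = w⁻¹) → False := by
      intro c hcu hcw
      have hcu' : c * u = u * c := by
        calc c * u = (c * u * c⁻¹) * c := by group
          _ = u * c := by rw [hcu]
      have hcc : (c * c) * u₂ * (c * c)⁻¹ = u₂⁻¹ := by
        have hcwc : c * w * c⁻¹ = u * (c * u₂ * c⁻¹) := by
          rw [hw]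
          calc c * (u * u₂) * c⁻¹ = (c * u * c⁻¹) * (c * u₂ * c⁻¹) := by group
            _ = u * (c * u₂ * c⁻¹) := by rw [hcu]
        have e : (c * c) * u₂ * (c * c)⁻¹ = c * (c * u₂ * c⁻¹) * c⁻¹ := by group
        rw [e]
        rcases hcw with h | h
        · rw [h, hcwc, h, hw]
          calc u * (u * u₂) = (u * u) * u₂ := by group
            _ = z * u₂ := by rw [huu]
            _ = u₂ * z := (hzc u₂).symm
            _ = u₂⁻¹ := hu₂inv.symm
        · rw [h]
          have e2 : c * w⁻¹ * c⁻¹ = (c * w * c⁻¹)⁻¹ := by group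
          rw [e2, hcwc, h, hw]
          calc (u * (u * u₂)⁻¹)⁻¹ = u * u₂ * u⁻¹ := by group
            _ = u₂⁻¹ := anti2
      obtain ⟨d, hd⟩ : ∃ d : H, d = u⁻¹ * (c * c) := ⟨_, rfl⟩
      have hdc : Commute d c := by
        show d * c = c * d
        rw [hd]
        have : u⁻¹ * c = c * u⁻¹ := by
          calc u⁻¹ * c = u⁻¹ * (c * u) * u⁻¹ := by group
            _ = u⁻¹ * (u * c) * u⁻¹ := by rw [hcu']
            _ = c * u⁻¹ := by group
        calc u⁻¹ * (c * c) * c = (u⁻¹ * c) * c * c := by group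
          _ = (c * u⁻¹) * c * c := by rw [this]
          _ = c * (u⁻¹ * (c * c)) := by group
      have hdu : Commute d u := by
        show d * u = u * d
        rw [hd]
        calc u⁻¹ * (c * c) * u = u⁻¹ * c * (c * u) := by group
          _ = u⁻¹ * c * (u * c) := by rw [hcu']
          _ = u⁻¹ * (c * u) * c := by group
          _ = u⁻¹ * (u * c) * c := by rw [hcu']
          _ = u * (u⁻¹ * (c * c)) := by group
      have hdu₂ : Commute d u₂ := by
        show d * u₂ = u₂ * d
        have : d * u₂ * d⁻¹ = u₂ := by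
          rw [hd]
          calc u⁻¹ * (c * c) * u₂ * (u⁻¹ * (c * c))⁻¹
              = u⁻¹ * ((c * c) * u₂ * (c * c)⁻¹) * u := by group
            _ = u⁻¹ * u₂⁻¹ * u := by rw [hcc]
            _ = u⁻¹ * (u * u₂ * u⁻¹) * u := by rw [anti2]
            _ = u₂ := by group
        calc d * u₂ = (d * u₂ * d⁻¹) * d := by group
          _ = u₂ * d := by rw [this]
      have h4 : ∀ x : H, x * x = z → x * u = u * x → x * u₂ = u₂ * x → False := by
        intro x hx hxu hxu₂
        rcases hy.sq_comm huu hx hxu.symm with h | h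
        · rw [h] at hxu₂
          exact hnc hxu₂
        · rw [h] at hxu₂
          apply hnc
          calc u * u₂ = u * (u₂ * u⁻¹) * u := by group
            _ = u * (u⁻¹ * u₂) * u := by rw [hxu₂]
            _ = u₂ * u := by group
      obtain ⟨j, hj⟩ : ∃ j : ℕ, d ^ (2 * j + 1) = 1 ∨ d ^ (2 * j + 1) = z := by
        have hn := orderOf_pos d
        rcases Nat.even_or_odd' (orderOf d) with ⟨m, hm | hm⟩
        · have hm0 : 0 < m := by omega
          have hdm : d ^ m = z := by
            have h1 : d ^ m * d ^ m = 1 := by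
              rw [← pow_add, ← two_mul, ← hm, pow_orderOf_eq_one]
            rcases hy.invol _ h1 with h | h
            · exfalso
              have := Nat.le_of_dvd hm0 (orderOf_dvd_of_pow_eq_one h)
              omega
            · exact h
          rcases Nat.even_or_odd' m with ⟨j, hj | hj⟩
          · exfalso
            apply h4 (d ^ j)
            · rw [← pow_add, ← two_mul, ← hj, hdm]
            · exact (hdu.pow_left j)
            · exact (hdu₂.pow_left j)
          · exact ⟨j, Or.inr (by rw [← hj, hdm])⟩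
        · exact ⟨m, Or.inl (by rw [← hm, pow_orderOf_eq_one])⟩
      obtain ⟨c', hc'⟩ : ∃ c' : H, c' = c * d ^ j := ⟨_, rfl⟩
      have hdjc : d ^ j * c = c * d ^ j := hdc.pow_left j
      have hdju : d ^ j * u = u * d ^ j := hdu.pow_left j
      have hdju₂ : d ^ j * u₂ = u₂ * d ^ j := hdu₂.pow_left j
      have hc'c' : c' * c' = u ∨ c' * c' = u * z := by
        have : c' * c' = u * d ^ (2 * j + 1) := by
          rw [hc']
          calc c * d ^ j * (c * d ^ j) = c * (d ^ j * c) * d ^ j := by group
            _ = c * (c * d ^ j) * d ^ j := by rw [hdjc]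
            _ = u * (u⁻¹ * (c * c)) * (d ^ j * d ^ j) := by group
            _ = u * d * (d ^ j * d ^ j) := by rw [← hd]
            _ = u * d ^ (2 * j + 1) := by rw [pow_succ', two_mul, pow_add]; group
        rcases hj with h | h
        · left; rw [this, h, mul_one]
        · right; rw [this, h]
      have hc'u₂ : c' * u₂ * c'⁻¹ = c * u₂ * c⁻¹ := by
        rw [hc']
        calc c * d ^ j * u₂ * (c * d ^ j)⁻¹ = c * (d ^ j * u₂) * (d ^ j)⁻¹ * c⁻¹ := by group
          _ = c * (u₂ * d ^ j) * (d ^ j)⁻¹ * c⁻¹ := by rw [hdju₂]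
          _ = c * u₂ * c⁻¹ := by group
      obtain ⟨v, hv⟩ : ∃ v : H, v = c' * u₂ := ⟨_, rfl⟩
      have hvu₂ : v * u₂ * v⁻¹ = c * u₂ * c⁻¹ := by
        rw [hv, ← hc'u₂]; group
      have hvv : v * v = (c * u₂ * c⁻¹) * (c' * c') * u₂ := by
        rw [hv, ← hc'u₂]; group
      have hvv' : v * v = 1 ∨ v * v = z := by
        rcases hcw with h | h <;> rcases hc'c' with h' | h'
        · right; rw [hvv, h, h', mul_assoc, ← hw, hwsq]
        · left; rw [hvv, h, h']
          calc w * (u * z) * u₂ = w * u * (z * u₂) := by group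
            _ = w * u * (u₂ * z) := by rw [hzc u₂]
            _ = w * (u * u₂) * z := by group
            _ = 1 := by rw [← hw, hwsq, hy.z_sq]
        · left; rw [hvv, h, h', mul_assoc, ← hw, inv_mul_cancel]
        · right; rw [hvv, h, h']
          calc w⁻¹ * (u * z) * u₂ = w⁻¹ * u * (z * u₂) := by group
            _ = w⁻¹ * u * (u₂ * z) := by rw [hzc u₂]
            _ = w⁻¹ * (u * u₂) * z := by group
            _ = z := by rw [← hw]; group
      have hnot : c * u₂ * c⁻¹ ≠ u₂ ∧ c * u₂ * c⁻¹ ≠ u₂⁻¹ := by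
        rcases hcw with h | h
        · rw [h]; exact ⟨hwu₂, hwu₂i⟩
        · rw [h]; exact ⟨hwiu₂, hwiu₂i⟩
      rcases hvv' with h | h
      · have hvc : v * u₂ * v⁻¹ = u₂ := by
          rcases hy.invol v h with h1 | h1
          · rw [h1]; group
          · rw [h1]
            calc z * u₂ * z⁻¹ = (z * u₂) * z⁻¹ := by group
              _ = (u₂ * z) * z⁻¹ := by rw [hzc u₂]
              _ = u₂ := by group
        exact hnot.1 (hvu₂.symm.trans hvc)
      · have := hy2.suz_conj g₂ v h
        rw [← hu₂] at this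
        rcases this with h1 | h1
        · exact hnot.1 (hvu₂.symm.trans h1)
        · exact hnot.2 (hvu₂.symm.trans h1)
    -- the class of `u` has 6 elements
    have hC1 : (Subgroup.centralizer ({u} : Set H)).index = 6 := by
      have hst := MulAction.index_stabilizer (ConjAct H) u
      have horb : MulAction.orbit (ConjAct H) u = ({u, u⁻¹, u₂, u₂⁻¹, w, w⁻¹} : Set H) := by
        ext x
        constructor
        · rintro ⟨g, rfl⟩
          have h6 := hsix (ConjAct.ofConjAct g)
          simp only [Set.mem_insert_iff, Set.mem_singleton_iff]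
          exact h6
        · intro hx
          simp only [Set.mem_insert_iff, Set.mem_singleton_iff] at hx
          rcases hx with rfl | rfl | rfl | rfl | rfl | rfl
          · exact ⟨1, by simp⟩
          · exact ⟨ConjAct.toConjAct u₂, anti1⟩
          · exact ⟨ConjAct.toConjAct g₂, hu₂.symm⟩
          · refine ⟨ConjAct.toConjAct (u * g₂), ?_⟩
            show u * g₂ * u * (u * g₂)⁻¹ = u₂⁻¹
            calc u * g₂ * u * (u * g₂)⁻¹ = u * (g₂ * u * g₂⁻¹) * u⁻¹ := by group
              _ = u₂⁻¹ := by rw [← hu₂, anti2]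
          · exact ⟨ConjAct.toConjAct g₃, hg₃⟩
          · refine ⟨ConjAct.toConjAct (u * g₃), ?_⟩
            show u * g₃ * u * (u * g₃)⁻¹ = w⁻¹
            calc u * g₃ * u * (u * g₃)⁻¹ = u * (g₃ * u * g₃⁻¹) * u⁻¹ := by group
              _ = u * w * u⁻¹ := by rw [hg₃]
              _ = w⁻¹ := huwu
      have hcard6 : ({u, u⁻¹, u₂, u₂⁻¹, w, w⁻¹} : Set H).ncard = 6 := by
        rw [Set.ncard_insert_of_notMem, Set.ncard_insert_of_notMem, Set.ncard_insert_of_notMem,
          Set.ncard_insert_of_notMem, Set.ncard_insert_of_notMem, Set.ncard_singleton]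
        · simp only [Set.mem_singleton_iff]; exact hwne
        · simp only [Set.mem_insert_iff, Set.mem_singleton_iff, not_or]
          exact ⟨fun h => hwu₂i h.symm, fun h => hwiu₂i h.symm⟩
        · simp only [Set.mem_insert_iff, Set.mem_singleton_iff, not_or]
          exact ⟨hu₂ne, fun h => hwu₂ h.symm, fun h => hwiu₂ h.symm⟩
        · simp only [Set.mem_insert_iff, Set.mem_singleton_iff, not_or]
          exact ⟨fun h => hg₂b h.symm, fun h => hg₂a (inv_injective (by rw [h])),
            fun h => hwui h.symm, fun h => hwiui h.symm⟩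
        · simp only [Set.mem_insert_iff, Set.mem_singleton_iff, not_or]
          exact ⟨hune, fun h => hg₂a h.symm, fun h => hg₂b (by rw [h, inv_inv]),
            fun h => hwu h.symm, fun h => hwiu h.symm⟩
      have hstab : (MulAction.stabilizer (ConjAct H) u).index
          = (Subgroup.centralizer ({u} : Set H)).index := by
        have : MulAction.stabilizer (ConjAct H) u
            = (Subgroup.centralizer ({u} : Set H)).comap
              (ConjAct.ofConjAct : ConjAct H ≃* H).toMonoidHom := by
          ext g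
          rw [MulAction.mem_stabilizer_iff, Subgroup.mem_comap, mem_centralizer_singleton]
          rfl
        rw [this, Subgroup.index_comap_of_surjective _ (ConjAct.ofConjAct : ConjAct H ≃* H).surjective]
      rw [← hstab, hst, horb, hcard6]
    -- the centraliser of `u, u₂` has index 2 in the centraliser of `u`
    have hmem0 : ∀ x : H, x ∈ Subgroup.centralizer ({u, u₂} : Set H) ↔
        (x * u * x⁻¹ = u ∧ x * u₂ * x⁻¹ = u₂) := by
      intro x
      rw [Subgroup.mem_centralizer_iff]
      constructor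
      · intro h
        have h1 := h u (by simp)
        have h2 := h u₂ (by simp)
        exact ⟨by rw [← h1]; group, by rw [← h2]; group⟩
      · rintro ⟨h1, h2⟩ y hy'
        simp only [Set.mem_insert_iff, Set.mem_singleton_iff] at hy'
        rcases hy' with rfl | rfl
        · calc y * x = (x * y * x⁻¹) * x := by rw [h1]
            _ = x * y := by group
        · calc y * x = (x * y * x⁻¹) * x := by rw [h2]
            _ = x * y := by group
    have hC1u₂ : ∀ b : H, b * u * b⁻¹ = u → (b * u₂ * b⁻¹ = u₂ ∨ b * u₂ * b⁻¹ = u₂⁻¹) := by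
      intro b hb
      have e : b * g₂ * u * (b * g₂)⁻¹ = b * u₂ * b⁻¹ := by rw [hu₂]; group
      have h6 := hsix (b * g₂)
      rw [e] at h6
      have hback : u₂ = b⁻¹ * (b * u₂ * b⁻¹) * b := by group
      have hbu : b⁻¹ * u * b = u := by
        calc b⁻¹ * u * b = b⁻¹ * (b * u * b⁻¹) * b := by rw [hb]
          _ = u := by group
      rcases h6 with h | h | h | h | h | h
      · exfalso; apply hg₂a; rw [hback, h, hbu]
      · exfalso; apply hg₂b
        rw [hback, h]
        calc b⁻¹ * u⁻¹ * b = (b⁻¹ * u * b)⁻¹ := by group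
          _ = u⁻¹ := by rw [hbu]
      · exact Or.inl h
      · exact Or.inr h
      · exact (IL b hb (Or.inl h)).elim
      · exact (IL b hb (Or.inr h)).elim
    have hrel : (Subgroup.centralizer ({u, u₂} : Set H)).relIndex
        (Subgroup.centralizer ({u} : Set H)) = 2 := by
      rw [Subgroup.relIndex_eq_two_iff]
      refine ⟨u, ?_, ?_⟩
      · rw [mem_centralizer_singleton]; group
      · intro b hb
        rw [mem_centralizer_singleton] at hb
        rw [hmem0, hmem0]
        have e1 : b * u * u * (b * u)⁻¹ = b * u * b⁻¹ := by group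
        have e2 : b * u * u₂ * (b * u)⁻¹ = (b * u₂ * b⁻¹)⁻¹ := by
          calc b * u * u₂ * (b * u)⁻¹ = b * (u * u₂ * u⁻¹) * b⁻¹ := by group
            _ = b * u₂⁻¹ * b⁻¹ := by rw [anti2]
            _ = (b * u₂ * b⁻¹)⁻¹ := by group
        rw [e1, e2]
        rcases hC1u₂ b hb with h | h
        · right
          rw [h]
          exact ⟨⟨hb, rfl⟩, fun h' => hu₂ne h'.2.symm⟩
        · left
          rw [h, inv_inv]
          exact ⟨⟨hb, rfl⟩, fun h' => hu₂ne h'.2.symm⟩
    have hle : Subgroup.centralizer ({u, u₂} : Set H) ≤ Subgroup.centralizer ({u} : Set H) :=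
      Subgroup.centralizer_le (by simp)
    have hidx : (Subgroup.centralizer ({u, u₂} : Set H)).index = 12 := by
      rw [← Subgroup.relIndex_mul_index hle, hrel, hC1]
    -- elements of `C₀` commute with all conjugates of `u`
    have hc6 : ∀ c : H, c ∈ Subgroup.centralizer ({u, u₂} : Set H) →
        ∀ g : H, c * (g * u * g⁻¹) = (g * u * g⁻¹) * c := by
      intro c hc g
      rw [hmem0] at hc
      obtain ⟨h1, h2⟩ := hc
      have c1 : c * u = u * c := by
        calc c * u = (c * u * c⁻¹) * c := by group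
          _ = u * c := by rw [h1]
      have c2 : c * u₂ = u₂ * c := by
        calc c * u₂ = (c * u₂ * c⁻¹) * c := by group
          _ = u₂ * c := by rw [h2]
      have c1' : c * u⁻¹ = u⁻¹ * c := by
        calc c * u⁻¹ = u⁻¹ * (u * c) * u⁻¹ := by group
          _ = u⁻¹ * (c * u) * u⁻¹ := by rw [c1]
          _ = u⁻¹ * c := by group
      have c2' : c * u₂⁻¹ = u₂⁻¹ * c := by
        calc c * u₂⁻¹ = u₂⁻¹ * (u₂ * c) * u₂⁻¹ := by group
          _ = u₂⁻¹ * (c * u₂) * u₂⁻¹ := by rw [c2]
          _ = u₂⁻¹ * c := by group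
      have c3 : c * w = w * c := by
        rw [hw]
        calc c * (u * u₂) = (c * u) * u₂ := by group
          _ = u * (c * u₂) := by rw [c1]; group
          _ = u * u₂ * c := by rw [c2]; group
      have c3' : c * w⁻¹ = w⁻¹ * c := by
        calc c * w⁻¹ = w⁻¹ * (w * c) * w⁻¹ := by group
          _ = w⁻¹ * (c * w) * w⁻¹ := by rw [c3]
          _ = w⁻¹ * c := by group
      rcases hsix g with h | h | h | h | h | h <;> rw [h]
      · exact c1
      · exact c1'
      · exact c2
      · exact c2'
      · exact c3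
      · exact c3'
    -- `C₀` is normal, `τ`-invariant, contains `z`
    have hnorm : ∀ c : H, c ∈ Subgroup.centralizer ({u, u₂} : Set H) → ∀ g : H,
        g * c * g⁻¹ ∈ Subgroup.centralizer ({u, u₂} : Set H) := by
      intro c hc g
      rw [hmem0]
      have k1 := hc6 c hc g⁻¹
      have k2 := hc6 c hc (g⁻¹ * g₂)
      constructor
      · calc g * c * g⁻¹ * u * (g * c * g⁻¹)⁻¹
            = g * (c * (g⁻¹ * u * g⁻¹⁻¹)) * c⁻¹ * g⁻¹ := by group
          _ = g * ((g⁻¹ * u * g⁻¹⁻¹) * c) * c⁻¹ * g⁻¹ := by rw [k1]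
          _ = u := by group
      · calc g * c * g⁻¹ * u₂ * (g * c * g⁻¹)⁻¹
            = g * (c * (g⁻¹ * g₂ * u * (g⁻¹ * g₂)⁻¹)) * c⁻¹ * g⁻¹ := by rw [hu₂]; group
          _ = g * ((g⁻¹ * g₂ * u * (g⁻¹ * g₂)⁻¹) * c) * c⁻¹ * g⁻¹ := by rw [k2]
          _ = u₂ := by rw [hu₂]; group
    have hτinv : ∀ c : H, c ∈ Subgroup.centralizer ({u, u₂} : Set H) →
        τ c ∈ Subgroup.centralizer ({u, u₂} : Set H) := by
      intro c hc
      rw [hmem0]
      have k1 := hc6 c hc 1
      have k2 := hc6 c hc (τ g₂)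
      have e1 : τ u⁻¹ = u := hy2.tu_inv
      have e2 : τ ((τ g₂ * u * (τ g₂)⁻¹)⁻¹) = u₂ := by
        rw [map_inv, map_mul, map_mul, map_inv, hy.tt, hy2.tu, hu₂]; group
      have k1' : c * u⁻¹ = u⁻¹ * c := by
        have : c * u = u * c := by simpa using k1
        calc c * u⁻¹ = u⁻¹ * (u * c) * u⁻¹ := by group
          _ = u⁻¹ * (c * u) * u⁻¹ := by rw [this]
          _ = u⁻¹ * c := by group
      have k2' : c * (τ g₂ * u * (τ g₂)⁻¹)⁻¹ = (τ g₂ * u * (τ g₂)⁻¹)⁻¹ * c := by
        calc c * (τ g₂ * u * (τ g₂)⁻¹)⁻¹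
            = (τ g₂ * u * (τ g₂)⁻¹)⁻¹ * ((τ g₂ * u * (τ g₂)⁻¹) * c) * (τ g₂ * u * (τ g₂)⁻¹)⁻¹ := by
              group
          _ = (τ g₂ * u * (τ g₂)⁻¹)⁻¹ * (c * (τ g₂ * u * (τ g₂)⁻¹)) * (τ g₂ * u * (τ g₂)⁻¹)⁻¹ := by
              rw [k2]
          _ = (τ g₂ * u * (τ g₂)⁻¹)⁻¹ * c := by group
      constructor
      · have : τ c * u = u * τ c := by
          calc τ c * u = τ (c * u⁻¹) := by rw [map_mul, e1]
            _ = τ (u⁻¹ * c) := by rw [k1']
            _ = u * τ c := by rw [map_mul, e1]
        calc τ c * u * (τ c)⁻¹ = (u * τ c) * (τ c)⁻¹ := by rw [this]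
          _ = u := by group
      · have : τ c * u₂ = u₂ * τ c := by
          calc τ c * u₂ = τ (c * (τ g₂ * u * (τ g₂)⁻¹)⁻¹) := by rw [map_mul, e2]
            _ = τ ((τ g₂ * u * (τ g₂)⁻¹)⁻¹ * c) := by rw [k2']
            _ = u₂ * τ c := by rw [map_mul, e2]
        calc τ c * u₂ * (τ c)⁻¹ = (u₂ * τ c) * (τ c)⁻¹ := by rw [this]
          _ = u₂ := by group
    have hzmem : z ∈ Subgroup.centralizer ({u, u₂} : Set H) := by
      rw [Subgroup.mem_centralizer_iff]
      intro y _
      exact hzc y
    have hinvd := hy.inverted_of_even_index _ hzmem hτinv (by rw [hidx]; decide)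
    have hcen : Subgroup.centralizer ({u, u₂} : Set H) = Subgroup.center H := by
      apply le_antisymm
      · intro c hc
        rw [Subgroup.mem_center_iff]
        exact hy.central_of_inverted hno c (fun g => hinvd _ (hnorm c hc g))
      · exact Subgroup.center_le_centralizer _
    rw [← hcen, ← hidx, mul_comm]
    exact (Subgroup.card_mul_index _).symm

end Cfsg.Agent.H16.I2
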