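import Mathlib
import Cfsg.Agent.H16.KTBasic

/-!
# Near-field models of a group (helper16)

`NFModel H R m`: `m : H → R` identifies the group `H` (anti-multiplicatively) with the non-zero
elements of the finite near-field `R`.  Consequences: `H` has at most one involution, and
`|H| = 12 |Z(H)|` together with `72 ∣ |H|` is impossible (kern argument).
-/

set_option autoImplicit false

namespace Cfsg.Agent.H16.I2

open Cfsg.Agent.H16

/-- `m` identifies `H` anti-multiplicatively with the non-zero elements of the near-field `R`. -/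
structure NFModel (H : Type*) [Group H] (R : Type*) [AddCommGroup R] [Monoid R] (m : H → R) :
    Prop where
  nf : IsNF R
  ne : ∀ h, m h ≠ 0
  mul : ∀ h h', m (h * h') = m h' * m h
  inj : Function.Injective m
  surj : ∀ x : R, x ≠ 0 → ∃ h, m h = x

namespace NFModel

variable {H : Type*} [Group H] {R : Type*} [AddCommGroup R] [Monoid R] {m : H → R}

theorem map_one (M : NFModel H R m) : m 1 = 1 := by
  have h1 : m 1 * m 1 = m 1 := by rw [← M.mul, mul_one]
  obtain ⟨b, hb, -⟩ := M.nf.inv (m 1) (M.ne 1)
  calc m 1 = m 1 * (m 1 * b) := by rw [hb, mul_one]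
    _ = (m 1 * m 1) * b := by rw [mul_assoc]
    _ = m 1 * b := by rw [h1]
    _ = 1 := hb

theorem invol (M : NFModel H R m) {h : H} (hh : h * h = 1) : h = 1 ∨ m h = -1 := by
  have h1 : m h * m h = 1 := by rw [← M.mul, hh, M.map_one]
  rcases M.nf.sq_eq_one h1 with h2 | h2
  · left; apply M.inj; rw [h2, M.map_one]
  · right; exact h2

theorem invol_unique (M : NFModel H R m) {h h' : H} (hh : h * h = 1) (hh' : h' * h' = 1)
    (h1 : h ≠ 1) (h1' : h' ≠ 1) : h = h' := by
  rcases M.invol hh with h2 | h2
  · exact absurd h2 h1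
  rcases M.invol hh' with h3 | h3
  · exact absurd h3 h1'
  exact M.inj (h2.trans h3.symm)

theorem card_eq [Finite H] [Finite R] (M : NFModel H R m) : Nat.card H + 1 = Nat.card R := by
  classical
  have e : H ≃ {x : R // x ≠ 0} := Equiv.ofBijective (fun h => ⟨m h, M.ne h⟩)
    ⟨fun h h' hh => M.inj (congrArg Subtype.val hh), fun ⟨x, hx⟩ => by
      obtain ⟨h, hh⟩ := M.surj x hx; exact ⟨h, Subtype.ext hh⟩⟩
  rw [Nat.card_congr e]
  haveI := Fintype.ofFinite R
  rw [Nat.card_eq_fintype_card, Nat.card_eq_fintype_card, Fintype.card_subtype,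
    Finset.filter_ne' Finset.univ (0 : R), Finset.card_erase_of_mem (Finset.mem_univ _),
    Finset.card_univ]
  have : 0 < Fintype.card R := Fintype.card_pos_iff.mpr ⟨0⟩
  omega

/-- The kern argument: `|H| = 12 |Z(H)|` and `72 ∣ |H|` cannot both hold. -/
theorem no_twelve [Finite H] [Finite R] (M : NFModel H R m)
    (h12 : Nat.card H = 12 * Nat.card (Subgroup.center H)) (h72 : 72 ∣ Nat.card H) : False := by
  classical
  have hR := M.nf
  let K : AddSubgroup R :=
    { carrier := {k | ∀ a b : R, k * (a + b) = k * a + k * b}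
      zero_mem' := by
        intro a b
        rw [hR.zm, hR.zm, hR.zm, add_zero]
      add_mem' := by
        intro k k' hk hk' a b
        rw [hR.rd, hk, hk', hR.rd, hR.rd]; abel
      neg_mem' := by
        intro k hk a b
        rw [hR.neg_mul', hk, hR.neg_mul', hR.neg_mul', neg_add] }
  have hKmem : ∀ k : R, k ∈ K ↔ ∀ a b : R, k * (a + b) = k * a + k * b := fun k => Iff.rfl
  have hKmul : ∀ k k' : R, k ∈ K → k' ∈ K → k * k' ∈ K := by
    intro k k' hk hk' a b
    rw [mul_assoc, hk', hk, mul_assoc, mul_assoc]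
  have hKinv : ∀ k k' : R, k ∈ K → k * k' = 1 → k' * k = 1 → k' ∈ K := by
    intro k k' hk h1 h2 a b
    have ea : a = k * (k' * a) := by rw [← mul_assoc, h1, one_mul]
    have eb : b = k * (k' * b) := by rw [← mul_assoc, h1, one_mul]
    calc k' * (a + b) = k' * (k * (k' * a) + k * (k' * b)) := by rw [← ea, ← eb]
      _ = k' * (k * (k' * a + k' * b)) := by rw [hk]
      _ = k' * a + k' * b := by rw [← mul_assoc, h2, one_mul]
  have hcenK : ∀ h : H, h ∈ Subgroup.center H → m h ∈ K := by
    intro h hh a b
    have hcomm : ∀ x : R, m h * x = x * m h := by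
      intro x
      by_cases hx : x = 0
      · rw [hx, hR.mz, hR.zm]
      · obtain ⟨g, hg⟩ := M.surj x hx
        rw [← hg, ← M.mul, ← M.mul]
        exact congrArg m (Subgroup.mem_center_iff.mp hh g)
    rw [hcomm, hR.rd, hcomm a, hcomm b]
  have hcardH := M.card_eq
  have hcen : Nat.card (Subgroup.center H) + 1 ≤ Nat.card K := by
    have hinj : Function.Injective (fun o : Option (Subgroup.center H) =>
        (match o with
          | none => (⟨0, K.zero_mem⟩ : K)
          | some h => ⟨m h, hcenK h h.2⟩)) := by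
      rintro (_ | h) (_ | h') hh
      · rfl
      · exfalso
        have := congrArg Subtype.val hh
        exact M.ne _ this.symm
      · exfalso
        have := congrArg Subtype.val hh
        exact M.ne _ this
      · have := congrArg Subtype.val hh
        have h3 : (h : H) = h' := M.inj this
        rw [Subtype.ext h3]
    have := Nat.card_le_card_of_injective _ hinj
    rwa [Finite.card_option] at this
  have hKtop : ∃ w : R, w ∉ K := by
    by_contra hall
    push Not at hall
    have hcomm : ∀ x y : R, x * y = y * x := by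
      letI : Ring R := Ring.ofMinimalAxioms add_assoc zero_add neg_add_cancel mul_assoc one_mul
        mul_one (fun a b c => hall a b c) hR.rd
      haveI : Nontrivial R := ⟨⟨0, 1, hR.ne⟩⟩
      haveI : NoZeroDivisors R := ⟨fun {a b} hab => by
        by_contra h
        push Not at h
        exact hR.mul_ne_zero' h.1 h.2 hab⟩
      haveI : IsDomain R := NoZeroDivisors.to_isDomain R
      exact (Finite.isDomain_to_isField R).mul_comm
    have hHc : ∀ g h : H, g * h = h * g := by
      intro g h
      apply M.inj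
      rw [M.mul, M.mul, hcomm]
    have htop : Subgroup.center H = ⊤ := by
      rw [eq_top_iff]
      intro h _
      rw [Subgroup.mem_center_iff]
      intro g
      exact hHc g h
    rw [htop, Subgroup.card_top] at h12
    have : 0 < Nat.card H := Nat.card_pos
    omega
  obtain ⟨w, hw⟩ := hKtop
  have hsq : Nat.card K * Nat.card K ≤ Nat.card R := by
    have hinj : Function.Injective (fun p : K × K => (p.1 : R) + (p.2 : R) * w) := by
      rintro ⟨k₁, k₂⟩ ⟨k₁', k₂'⟩ h
      simp only at h
      by_cases hk : (k₂ : R) = (k₂' : R)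
      · have : (k₁ : R) = (k₁' : R) := by rw [hk] at h; exact add_right_cancel h
        exact Prod.ext (Subtype.ext this) (Subtype.ext hk)
      · exfalso
        have h2 : ((k₂ : R) - (k₂' : R)) * w = (k₁' : R) - (k₁ : R) := by
          rw [hR.sub_mul', sub_eq_sub_iff_add_eq_add, add_comm, h, add_comm]
        have hd : (k₂ : R) - (k₂' : R) ≠ 0 := sub_ne_zero.mpr hk
        obtain ⟨d', h1, h2'⟩ := hR.inv _ hd
        have hdK : (k₂ : R) - (k₂' : R) ∈ K := K.sub_mem k₂.2 k₂'.2
        have hd'K : d' ∈ K := hKinv _ _ hdK h1 h2'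
        apply hw
        have : w = d' * ((k₁' : R) - (k₁ : R)) := by
          rw [← h2, ← mul_assoc, h2', one_mul]
        rw [this]
        exact hKmul _ _ hd'K (K.sub_mem k₁'.2 k₁.2)
    have := Nat.card_le_card_of_injective _ hinj
    rwa [Nat.card_prod] at this
  have hdvd : Nat.card K ∣ Nat.card R := AddSubgroup.card_addSubgroup_dvd_card K
  -- arithmetic
  obtain ⟨κ, hκ⟩ : ∃ κ : ℕ, κ = Nat.card K := ⟨_, rfl⟩
  obtain ⟨c, hc⟩ : ∃ c : ℕ, c = Nat.card (Subgroup.center H) := ⟨_, rfl⟩
  obtain ⟨n, hn⟩ : ∃ n : ℕ, n = Nat.card H := ⟨_, rfl⟩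
  obtain ⟨q, hq⟩ : ∃ q : ℕ, q = Nat.card R := ⟨_, rfl⟩
  rw [← hκ, ← hq] at hsq hdvd
  rw [← hκ, ← hc] at hcen
  rw [← hn, ← hc] at h12
  rw [← hn] at h72
  rw [← hn, ← hq] at hcardH
  have hn0 : 0 < n := by rw [hn]; exact Nat.card_pos
  have hκ11 : κ ≤ 11 := by
    by_contra hcon
    push Not at hcon
    nlinarith
  obtain ⟨j, hj⟩ := h72
  have hn72 : n = 72 := by omega
  have hκ8 : κ ≤ 8 := by
    by_contra hcon
    push Not at hcon
    nlinarith
  have hq73 : q = 73 := by omega
  rw [hq73] at hdvd
  have hκ7 : 7 ≤ κ := by omega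
  interval_cases κ <;> omega

end NFModel

end Cfsg.Agent.H16.I2
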