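import Mathlib

set_option autoImplicit false

namespace Cfsg.Agent.H16

open MulAction SubMulAction Equiv Equiv.Perm
open scoped Pointwise

/-- Sylow conjugacy for subgroups of prime order when `p^2` does not divide the group order. -/
theorem exists_conj_mem_zpowers {H : Type*} [Group H] [Finite H] {p : ℕ} [Fact p.Prime]
    (hH : ¬ p ^ 2 ∣ Nat.card H) {g g' : H} (hg : orderOf g = p) (hg' : orderOf g' = p) :
    ∃ h : H, h * g' * h⁻¹ ∈ Subgroup.zpowers g := by
  have hp : p.Prime := Fact.out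
  have hdvd : p ∣ Nat.card H := hg ▸ orderOf_dvd_natCard g
  have hfac : (Nat.card H).factorization p = 1 := by
    have h1 : 1 ≤ (Nat.card H).factorization p := by
      rw [← hp.pow_dvd_iff_le_factorization Nat.card_pos.ne']; simpa using hdvd
    have h2 : ¬ 2 ≤ (Nat.card H).factorization p := by
      rw [← hp.pow_dvd_iff_le_factorization Nat.card_pos.ne']; exact hH
    omega
  have hc : ∀ x : H, orderOf x = p →
      Nat.card (Subgroup.zpowers x) = p ^ (Nat.card H).factorization p := by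
    intro x hx
    rw [hfac, pow_one, Nat.card_zpowers, hx]
  let S : Sylow p H := Sylow.ofCard (Subgroup.zpowers g) (hc g hg)
  let S' : Sylow p H := Sylow.ofCard (Subgroup.zpowers g') (hc g' hg')
  obtain ⟨h, hh⟩ := MulAction.exists_smul_eq H S' S
  refine ⟨h, ?_⟩
  have h1 : g' ∈ (S' : Subgroup H) := Subgroup.mem_zpowers g'
  have h2 : MulAut.conj h • g' ∈ MulAut.conj h • (S' : Subgroup H) :=
    Subgroup.smul_mem_pointwise_smul _ _ _ h1
  have h3 : (MulAut.conj h • (S' : Subgroup H)) = (S : Subgroup H) := by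
    rw [← Sylow.coe_subgroup_smul, hh]
  rw [h3] at h2
  have h4 : MulAut.conj h • g' = h * g' * h⁻¹ := by simp [MulAut.smul_def]
  rw [h4] at h2
  exact h2

variable {α : Type*}

/-- In a `k`-transitive group, any permutation can be matched on a `k`-subset. -/
theorem exists_mem_eq_on_finset (G : Subgroup (Equiv.Perm α)) (D : Finset α) {k : ℕ}
    (hD : D.card = k) (hk : IsMultiplyPretransitive G α k) (σ : Equiv.Perm α) :
    ∃ x ∈ G, ∀ d ∈ D, x d = σ d := by
  let e : D ≃ Fin k := Finset.equivFinOfCardEq hD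
  let u : Fin k ↪ α := ⟨fun i => (e.symm i : α), fun i j h => e.symm.injective (Subtype.ext h)⟩
  let u' : Fin k ↪ α := ⟨fun i => σ (e.symm i : α), fun i j h =>
    e.symm.injective (Subtype.ext (σ.injective h))⟩
  obtain ⟨x, hx⟩ := hk.exists_smul_eq u u'
  refine ⟨x, x.2, fun d hd => ?_⟩
  have h1 : (x • u) (e ⟨d, hd⟩) = u' (e ⟨d, hd⟩) := by rw [hx]
  rw [Function.Embedding.smul_apply] at h1
  change x • ((e.symm (e ⟨d, hd⟩) : D) : α) = σ ((e.symm (e ⟨d, hd⟩) : D) : α) at h1
  rw [Equiv.symm_apply_apply] at h1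
  exact h1

variable [Fintype α] [DecidableEq α]

/-- The key Sylow step: an element of `G` preserving the support of a prime cycle `g` can be
corrected, by an element of `G` fixing the complement of the support pointwise, to normalise
`⟨g⟩`. -/
theorem exists_normalizing (G : Subgroup (Equiv.Perm α)) {p : ℕ} (hp : p.Prime)
    {g : Equiv.Perm α} (hgc : g.IsCycle) (hgp : g.support.card = p) (hg : g ∈ G)
    {x : Equiv.Perm α} (hx : x ∈ G) (hxs : ∀ d, x d ∈ g.support ↔ d ∈ g.support) :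
    ∃ z ∈ G, (∃ j : ℤ, z * g * z⁻¹ = g ^ j) ∧ ∀ d, d ∉ g.support → z d = x d := by
  haveI : Fact p.Prime := ⟨hp⟩
  let R : Subgroup (Equiv.Perm α) :=
    (ofSubtype : Equiv.Perm {y // y ∈ g.support} →* Equiv.Perm α).range
  let H' : Subgroup (Equiv.Perm α) := G ⊓ R
  have hmemR : ∀ f : Equiv.Perm α, f ∈ R ↔ ∀ y, f y ≠ y → y ∈ g.support := by
    intro f
    rw [mem_range_ofSubtype_iff]
    constructor
    · intro h y hy
      exact h (by simpa using hy)
    · intro h y hy
      exact h y (by simpa using hy)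
  have hgH : g ∈ H' := ⟨hg, (hmemR g).mpr fun y hy => by simpa using hy⟩
  have hg'H : x * g * x⁻¹ ∈ H' := by
    refine ⟨G.mul_mem (G.mul_mem hx hg) (G.inv_mem hx), (hmemR _).mpr fun y hy => ?_⟩
    have : y ∈ (x * g * x⁻¹).support := Equiv.Perm.mem_support.mpr hy
    rw [support_conj, Finset.mem_map] at this
    obtain ⟨w, hw, rfl⟩ := this
    exact (hxs w).mpr hw
  have hcardR : Nat.card R = p.factorial := by
    have h1 : Nat.card R = Nat.card (Equiv.Perm {y // y ∈ g.support}) :=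
      Nat.card_congr (Equiv.ofInjective _ ofSubtype_injective).symm
    rw [h1, Nat.card_perm, Nat.card_eq_fintype_card, Fintype.card_coe, hgp]
  have hH'card : ¬ p ^ 2 ∣ Nat.card H' := by
    intro h
    have h2 : Nat.card H' ∣ Nat.card R := Subgroup.card_dvd_of_le inf_le_right
    have h3 : p ^ 2 ∣ p.factorial := hcardR ▸ h.trans h2
    have hpos : 0 < p := hp.pos
    obtain ⟨q, rfl⟩ : ∃ q, p = q + 1 := ⟨p - 1, by omega⟩
    rw [Nat.factorial_succ, pow_two] at h3
    have h4 : (q + 1) ∣ q.factorial := Nat.dvd_of_mul_dvd_mul_left (Nat.succ_pos q) h3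
    have h5 := (hp.dvd_factorial).mp h4
    omega
  have ho : orderOf (⟨g, hgH⟩ : H') = p := by
    rw [Subgroup.orderOf_mk, hgc.orderOf, hgp]
  have ho' : orderOf (⟨x * g * x⁻¹, hg'H⟩ : H') = p := by
    rw [Subgroup.orderOf_mk, (hgc.conj).orderOf, card_support_conj, hgp]
  obtain ⟨h, hh⟩ := exists_conj_mem_zpowers hH'card ho ho'
  obtain ⟨j, hj⟩ := Subgroup.mem_zpowers_iff.mp hh
  refine ⟨(h : Equiv.Perm α) * x, G.mul_mem h.2.1 hx, ⟨j, ?_⟩, fun d hd => ?_⟩
  · have := congrArg (Subtype.val) hj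
    simp only [Subgroup.coe_zpow, Subgroup.coe_mul, Subgroup.coe_inv] at this
    rw [this]
    group
  · rw [Equiv.Perm.mul_apply]
    by_contra hne
    have := (hmemR (h : Equiv.Perm α)).mp h.2.2 (x d) hne
    exact hd ((hxs d).mp this)

omit [Fintype α] [DecidableEq α] in
theorem preserve_of_eq_on (D : Set α) (x σ : Equiv.Perm α) (hσ : ∀ d, σ d ∈ D ↔ d ∈ D)
    (h : ∀ d ∈ D, x d = σ d) : ∀ d, x d ∈ D ↔ d ∈ D := by
  intro d
  constructor
  · intro hd
    have h1 : σ (σ⁻¹ (x d)) = x d := by simp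
    have h2 : σ⁻¹ (x d) ∈ D := (hσ _).mp (by rw [h1]; exact hd)
    have h3 : x (σ⁻¹ (x d)) = x d := by rw [h _ h2, h1]
    have h4 := x.injective h3
    rw [← h4]; exact h2
  · intro hd
    rw [h d hd]; exact (hσ d).mpr hd

omit [Fintype α] [DecidableEq α] in
theorem inv_eq_on (D : Set α) (x σ : Equiv.Perm α) (hσ : ∀ d, σ d ∈ D ↔ d ∈ D)
    (h : ∀ d ∈ D, x d = σ d) : ∀ d ∈ D, x⁻¹ d = σ⁻¹ d := by
  intro d hd
  have h1 : σ (σ⁻¹ d) = d := by simp
  have h2 : σ⁻¹ d ∈ D := (hσ _).mp (by rw [h1]; exact hd)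
  have h3 : x (σ⁻¹ d) = d := by rw [h _ h2, h1]
  rw [Equiv.Perm.inv_eq_iff_eq]; exact h3.symm

/-- **Jordan's theorem**: a primitive permutation group containing a cycle of prime length `p`
with at least three fixed points contains the alternating group. -/
theorem jordan_prime_cycle (G : Subgroup (Equiv.Perm α)) (hG : MulAction.IsPreprimitive G α)
    {p : ℕ} (hp : p.Prime) (hpn : p + 3 ≤ Fintype.card α) {g : Equiv.Perm α} (hgc : g.IsCycle)
    (hgp : g.support.card = p) (hg : g ∈ G) : alternatingGroup α ≤ G := by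
  obtain ⟨n, hn⟩ : ∃ n, Fintype.card α = p + (n + 3) := ⟨Fintype.card α - p - 3, by omega⟩
  have hcardα : Nat.card α = Fintype.card α := Nat.card_eq_fintype_card
  have hp2 := hp.two_le
  -- `G` is `(n+4)`-transitive
  have hsc : Set.ncard ((g.support : Set α)ᶜ) = (n + 2) + 1 := by
    apply Nat.add_left_cancel (n := (g.support : Set α).ncard)
    rw [Set.ncard_add_ncard_compl, Set.ncard_coe_finset, hgp, hcardα, hn]
  have hprim : IsPreprimitive (fixingSubgroup G ((g.support : Set α)ᶜ))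
      (ofFixingSubgroup G ((g.support : Set α)ᶜ)) := by
    classical
    have := isPretransitive_of_isCycle_mem hgc hg
    apply IsPreprimitive.of_prime_card
    convert hp
    rw [Nat.card_eq_fintype_card, Fintype.card_subtype, ← hgp]
    apply congr_arg
    ext x
    simp [SubMulAction.mem_ofFixingSubgroup_iff]
  have h4 : IsMultiplyPreprimitive G α (n + 2 + 2) :=
    hG.isMultiplyPreprimitive hsc (by rw [hcardα, hn]; omega) hprim
  have h4' : IsMultiplyPretransitive G α (n + 2 + 2) :=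
    IsMultiplyPreprimitive.isMultiplyPretransitive ..
  have h3 : IsMultiplyPretransitive G α (n + 3) :=
    isMultiplyPretransitive_of_le (n := n + 2 + 2) (by omega) (by rw [hcardα, hn]; omega)
  have hD : (g.supportᶜ : Finset α).card = n + 3 := by
    rw [Finset.card_compl, hgp, hn]; omega
  obtain ⟨a, b, e, ha, hb, he, hab, hae, hbe⟩ : ∃ a b e, a ∈ g.supportᶜ ∧ b ∈ g.supportᶜ ∧
      e ∈ g.supportᶜ ∧ a ≠ b ∧ a ≠ e ∧ b ≠ e := by
    have : 2 < (g.supportᶜ : Finset α).card := by rw [hD]; omega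
    rw [Finset.two_lt_card] at this
    obtain ⟨a, ha, b, hb, c, hc, hab, hac, hbc⟩ := this
    exact ⟨a, b, c, ha, hb, hc, hab, hac, hbc⟩
  set D : Set α := {d | d ∉ g.support} with hDdef
  have haD : a ∈ D := Finset.mem_compl.mp ha
  have hbD : b ∈ D := Finset.mem_compl.mp hb
  have heD : e ∈ D := Finset.mem_compl.mp he
  have hswapD : ∀ u v : α, u ∈ D → v ∈ D → ∀ d, swap u v d ∈ D ↔ d ∈ D := by
    intro u v hu hv d
    by_cases hdu : d = u
    · subst hdu; simp [hu, hv]
    · by_cases hdv : d = v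
      · subst hdv; simp [hu, hv]
      · rw [swap_apply_of_ne_of_ne hdu hdv]
  -- elements of the normaliser of `⟨g⟩` inducing given transpositions on `D`
  have key : ∀ u v : α, u ∈ D → v ∈ D → ∃ z ∈ G, (∃ j : ℤ, z * g * z⁻¹ = g ^ j) ∧
      ∀ d ∈ D, z d = swap u v d := by
    intro u v hu hv
    obtain ⟨x, hxG, hx⟩ := exists_mem_eq_on_finset G (g.supportᶜ) hD h3 (swap u v)
    have hx' : ∀ d ∈ D, x d = swap u v d := fun d hd => hx d (Finset.mem_compl.mpr hd)
    have hxs := preserve_of_eq_on D x (swap u v) (hswapD u v hu hv) hx'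
    have hxs' : ∀ d, x d ∈ g.support ↔ d ∈ g.support := fun d => by
      have := hxs d
      simp only [hDdef, Set.mem_ofPred_eq] at this
      exact not_iff_not.mp this
    obtain ⟨z, hzG, hzj, hz⟩ := exists_normalizing G hp hgc hgp hg hxG hxs'
    exact ⟨z, hzG, hzj, fun d hd => (hz d hd).trans (hx' d hd)⟩
  obtain ⟨z1, hz1G, ⟨j1, hj1⟩, hz1⟩ := key a b haD hbD
  obtain ⟨z2, hz2G, ⟨j2, hj2⟩, hz2⟩ := key b e hbD heD
  set c : Equiv.Perm α := z1⁻¹ * z2⁻¹ * z1 * z2 with hc
  have hcG : c ∈ G := G.mul_mem (G.mul_mem (G.mul_mem (G.inv_mem hz1G) (G.inv_mem hz2G)) hz1G) hz2G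
  have hcomm : c * g * c⁻¹ = g := by
    have e1 : (z1 * z2) * g * (z1 * z2)⁻¹ = g ^ (j1 * j2) := by
      have : (z1 * z2) * g * (z1 * z2)⁻¹ = z1 * (z2 * g * z2⁻¹) * z1⁻¹ := by group
      rw [this, hj2, ← conj_zpow, hj1, ← zpow_mul]
    have e2 : (z2 * z1) * g * (z2 * z1)⁻¹ = g ^ (j1 * j2) := by
      have : (z2 * z1) * g * (z2 * z1)⁻¹ = z2 * (z1 * g * z1⁻¹) * z2⁻¹ := by group
      rw [this, hj1, ← conj_zpow, hj2, ← zpow_mul, mul_comm]
    have e3 : c * g * c⁻¹ = (z2 * z1)⁻¹ * ((z1 * z2) * g * (z1 * z2)⁻¹) * (z2 * z1) := by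
      rw [hc]; group
    rw [e3, e1, ← e2]; group
  have hcg : ∀ y, c (g y) = g (c y) := by
    intro y
    have h1 : c * g = g * c := by
      have := congrArg (fun f => f * c) hcomm
      simpa [mul_assoc] using this
    have := congrArg (fun f : Equiv.Perm α => f y) h1
    simpa [Equiv.Perm.mul_apply] using this
  have hcgz : ∀ (m : ℤ) y, c ((g ^ m) y) = (g ^ m) (c y) := by
    intro m y
    have h1 : c * g = g * c := by
      have := congrArg (fun f => f * c) hcomm
      simpa [mul_assoc] using this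
    have h2 : Commute c (g ^ m) := (Commute.zpow_right h1 m)
    have := congrArg (fun f : Equiv.Perm α => f y) h2.eq
    simpa [Equiv.Perm.mul_apply] using this
  -- `c` acts on `D` as a 3-cycle
  set τ : Equiv.Perm α := (swap a b)⁻¹ * (swap b e)⁻¹ * swap a b * swap b e with hτ
  have hcD : ∀ d ∈ D, c d = τ d := by
    intro d hd
    have s1 := hswapD a b haD hbD
    have s2 := hswapD b e hbD heD
    have i1 := inv_eq_on D z1 (swap a b) s1 hz1
    have i2 := inv_eq_on D z2 (swap b e) s2 hz2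
    have s1' : ∀ d, (swap a b)⁻¹ d ∈ D ↔ d ∈ D := by
      intro d; rw [swap_inv]; exact s1 d
    have s2' : ∀ d, (swap b e)⁻¹ d ∈ D ↔ d ∈ D := by
      intro d; rw [swap_inv]; exact s2 d
    simp only [hc, hτ, Equiv.Perm.mul_apply]
    have m1 : swap b e d ∈ D := (s2 d).mpr hd
    have m2 : swap a b (swap b e d) ∈ D := (s1 _).mpr m1
    have m3 : (swap b e)⁻¹ (swap a b (swap b e d)) ∈ D := (s2' _).mpr m2
    rw [hz2 d hd, hz1 _ m1, i2 _ m2, i1 _ m3]
  -- `c` acts on the support of `g` as a power of `g`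
  obtain ⟨x0, hx0⟩ : ∃ x0, x0 ∈ g.support :=
    Finset.card_pos.mp (by rw [hgp]; omega)
  have hx0' : g x0 ≠ x0 := Equiv.Perm.mem_support.mp hx0
  have hcx0 : g (c x0) ≠ c x0 := by
    rw [← hcg]; exact fun h => hx0' (c.injective h)
  obtain ⟨i, hi⟩ := hgc.exists_zpow_eq hx0' hcx0
  have hcS : ∀ y ∈ g.support, c y = (g ^ i) y := by
    intro y hy
    obtain ⟨m, hm⟩ := hgc.exists_zpow_eq hx0' (Equiv.Perm.mem_support.mp hy)
    rw [← hm, hcgz, ← hi, ← Equiv.Perm.mul_apply, ← Equiv.Perm.mul_apply, ← zpow_add, ← zpow_add,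
      add_comm]
  have htG : c * g ^ (-i) ∈ G := G.mul_mem hcG (G.zpow_mem hg _)
  have hteq : c * g ^ (-i) = τ := by
    ext y
    rw [Equiv.Perm.mul_apply]
    by_cases hy : y ∈ g.support
    · have h1 : (g ^ (-i)) y ∈ g.support := Equiv.Perm.zpow_apply_mem_support.mpr hy
      rw [hcS _ h1, ← Equiv.Perm.mul_apply, ← zpow_add]
      have hya : y ≠ a := fun h => haD (h ▸ hy)
      have hyb : y ≠ b := fun h => hbD (h ▸ hy)
      have hye : y ≠ e := fun h => heD (h ▸ hy)
      simp [hτ, swap_inv, swap_apply_of_ne_of_ne, hya, hyb, hye]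
    · have h1 : (g ^ (-i)) y = y := by
        apply Equiv.Perm.zpow_apply_eq_self_of_apply_eq_self
        simpa using hy
      rw [h1]
      exact hcD y hy
  have h3c : IsThreeCycle τ := by
    have h1 : IsThreeCycle (swap b a * swap b e) :=
      isThreeCycle_swap_mul_swap_same (Ne.symm hab) hbe hae
    have h2 := h1.isThreeCycle_sq
    have h3 : τ = (swap b a * swap b e) * (swap b a * swap b e) := by
      rw [hτ, swap_inv, swap_inv, swap_comm a b]; group
    rw [h3]; exact h2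
  exact alternatingGroup_le_of_isPreprimitive_of_isThreeCycle_mem hG h3c (hteq ▸ htG)

end Cfsg.Agent.H16
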