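import Mathlib
import Cfsg.Agent.H82.JxDefs

/-!
# JX-FUN (piece of helper82's clause-5 project for S2948 / S2949)

An abelian 2-group `B` acting by conjugation on a nontrivial elementary abelian 2-group `U` with
at most two fixed points satisfies `2 |B : C_B(U)| ≤ |U|`.

Route (characters, no induction): `f` the fixed point `≠ 1`, `χ : U →* ℂˣ` with `χ f ≠ 1`;
`b ↦ χ ∘ c_b` is injective on `B / C_B(U)` (for `d = b⁻¹ c` the subgroup `{[d,u]}` of `U` is
`B`-invariant and killed by `χ`; a fixed point `≠ 1` in it would be `f`), the characters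
`χ ∘ c_b` take the value `χ f ≠ 1` at `f` and the characters `χ · (χ ∘ c_b)` the value `1`:
two disjoint injective families in `Hom(U, ℂˣ)`, which has `|U|` elements.
-/

set_option autoImplicit false

namespace Cfsg.Agent.H16.Jx

open Cfsg Cfsg.Agent.H82.Jx

universe u

/-- A 2-group acting by conjugation on a nontrivial subgroup of exponent 2 has a fixed point
`≠ 1`. -/
theorem exists_fixed {G : Type u} [Group G] [Finite G] (B U : Subgroup G)
    (hB2 : IsPGroup 2 ↥B) (hU2 : ∀ u ∈ U, u * u = 1)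
    (hBU : ∀ b ∈ B, ∀ u ∈ U, b * u * b⁻¹ ∈ U) (hU : U ≠ ⊥) :
    ∃ f ∈ U, f ≠ 1 ∧ ∀ b ∈ B, b * f * b⁻¹ = f := by
  classical
  haveI : Fact (Nat.Prime 2) := ⟨Nat.prime_two⟩
  letI : MulAction ↥B ↥U :=
    { smul := fun b u => ⟨(b : G) * u * (b : G)⁻¹, hBU b b.2 u u.2⟩
      one_smul := fun u => Subtype.ext (by
        show ((1 : ↥B) : G) * u * ((1 : ↥B) : G)⁻¹ = u
        simp)
      mul_smul := fun b c u => Subtype.ext (by
        show ((b * c : ↥B) : G) * u * ((b * c : ↥B) : G)⁻¹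
          = (b : G) * ((c : G) * u * (c : G)⁻¹) * (b : G)⁻¹
        simp [mul_assoc]) }
  have hsm : ∀ (b : ↥B) (u : ↥U), ((b • u : ↥U) : G) = (b : G) * u * (b : G)⁻¹ :=
    fun _ _ => rfl
  have h2 : 2 ∣ Nat.card ↥U := by
    have hUp : IsPGroup 2 ↥U := by
      intro u
      refine ⟨1, ?_⟩
      apply Subtype.ext
      have := hU2 u u.2
      simpa [pow_two] using this
    obtain ⟨n, hn⟩ := hUp.exists_card_eq
    have hn0 : n ≠ 0 := by
      rintro rfl
      have h1 : Nat.card ↥U = 1 := by simpa using hn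
      exact hU (Subgroup.card_eq_one.mp h1)
    rw [hn]; exact dvd_pow_self 2 hn0
  have h1 : (1 : ↥U) ∈ MulAction.fixedPoints ↥B ↥U := by
    intro b; apply Subtype.ext; rw [hsm]; simp
  obtain ⟨f, hf, hne⟩ := hB2.exists_fixed_point_of_prime_dvd_card_of_fixed_point ↥U h2 h1
  refine ⟨f, f.2, ?_, ?_⟩
  · intro h; exact hne (Subtype.ext h.symm)
  · intro b hb
    have h3 := congrArg Subtype.val (hf ⟨b, hb⟩)
    rwa [hsm] at h3

theorem fn : StFun.{u} := by
  intro G _ _ B U hBc hB2 hUc hU2 hBU hF hU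
  classical
  obtain ⟨f, hfU, hf1, hfB⟩ := exists_fixed B U hB2 hU2 hBU hU
  -- every fixed point is `1` or `f`
  have hfix : ∀ u ∈ U, (∀ b ∈ B, b * u * b⁻¹ = u) → u = 1 ∨ u = f := by
    intro u hu hub
    by_contra hcon
    rw [not_or] at hcon
    have hmem : ∀ v ∈ U, (∀ b ∈ B, b * v * b⁻¹ = v) →
        v ∈ U ⊓ Subgroup.centralizer (B : Set G) := by
      intro v hv hvb
      refine Subgroup.mem_inf.mpr ⟨hv, ?_⟩
      rw [Subgroup.mem_centralizer_iff]
      intro b hb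
      have h := hvb b hb
      calc b * v = b * v * b⁻¹ * b := by group
        _ = v * b := by rw [h]
    have h3 : ({1, f, u} : Set G) ⊆
        ((U ⊓ Subgroup.centralizer (B : Set G) : Subgroup G) : Set G) := by
      intro v hv
      simp only [Set.mem_insert_iff, Set.mem_singleton_iff] at hv
      rcases hv with rfl | rfl | rfl
      · exact Subgroup.one_mem _
      · exact hmem _ hfU hfB
      · exact hmem _ hu hub
    have hc := Set.ncard_le_ncard h3 (Set.toFinite _)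
    have h3' : ({1, f, u} : Set G).ncard = 3 :=
      Set.ncard_eq_three.mpr ⟨1, f, u, hf1.symm, fun h => hcon.1 h.symm,
        fun h => hcon.2 h.symm, rfl⟩
    have h4 : Nat.card ↥(U ⊓ Subgroup.centralizer (B : Set G))
        = ((U ⊓ Subgroup.centralizer (B : Set G) : Subgroup G) : Set G).ncard := rfl
    omega
  letI : CommGroup ↥U :=
    { (inferInstance : Group ↥U) with
      mul_comm := fun a b => Subtype.ext (hUc a a.2 b b.2) }
  obtain ⟨χ, hχ⟩ := CommGroup.exists_apply_ne_one_of_hasEnoughRootsOfUnity ↥U ℂ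
    (a := ⟨f, hfU⟩) (fun h => hf1 (congrArg Subtype.val h))
  have hcard : Nat.card (↥U →* ℂˣ) = Nat.card ↥U :=
    CommGroup.card_monoidHom_of_hasEnoughRootsOfUnity ↥U ℂ
  -- conjugation by `b ∈ B` on `U`
  let cj : ↥B → (↥U →* ↥U) := fun b =>
    MonoidHom.mk' (fun u => ⟨(b : G) * u * (b : G)⁻¹, hBU b b.2 u u.2⟩)
      (by intro u v; apply Subtype.ext; simp [mul_assoc])
  have hcj : ∀ (b : ↥B) (u : ↥U), ((cj b u : ↥U) : G) = (b : G) * u * (b : G)⁻¹ :=
    fun _ _ => rfl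
  have hcjf : ∀ b : ↥B, cj b ⟨f, hfU⟩ = ⟨f, hfU⟩ :=
    fun b => Subtype.ext (by rw [hcj]; exact hfB b b.2)
  -- the core: equal characters give the same class
  have hcore : ∀ b c : ↥B, χ.comp (cj b) = χ.comp (cj c) →
      b⁻¹ * c ∈ (B ⊓ Subgroup.centralizer (U : Set G)).subgroupOf B := by
    intro b c hbc
    obtain ⟨d, hd⟩ : ∃ d : ↥B, d = b⁻¹ * c := ⟨_, rfl⟩
    rw [← hd]
    have hχd : ∀ w : ↥U, χ (cj d w) = χ w := by
      intro w
      have hbw : (b : G)⁻¹ * w * (b : G) ∈ U := by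
        have := hBU (b : G)⁻¹ (inv_mem b.2) w w.2
        simpa using this
      have h1 := DFunLike.congr_fun hbc ⟨(b : G)⁻¹ * w * (b : G), hbw⟩
      simp only [MonoidHom.comp_apply] at h1
      have e1 : cj b ⟨(b : G)⁻¹ * w * (b : G), hbw⟩ = w := by
        apply Subtype.ext; rw [hcj]; group
      have e2 : cj c ⟨(b : G)⁻¹ * w * (b : G), hbw⟩ = cj d w := by
        apply Subtype.ext
        rw [hcj, hcj, hd]
        have hcb : (c : G) * (b : G)⁻¹ = (b : G)⁻¹ * (c : G) :=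
          hBc _ c.2 _ (inv_mem b.2)
        show (c : G) * ((b : G)⁻¹ * w * (b : G)) * (c : G)⁻¹
          = ((b : G)⁻¹ * (c : G)) * w * ((b : G)⁻¹ * (c : G))⁻¹
        calc (c : G) * ((b : G)⁻¹ * w * (b : G)) * (c : G)⁻¹
            = ((c : G) * (b : G)⁻¹) * w * ((c : G) * (b : G)⁻¹)⁻¹ := by group
          _ = ((b : G)⁻¹ * (c : G)) * w * ((b : G)⁻¹ * (c : G))⁻¹ := by rw [hcb]
      rw [e1, e2] at h1
      exact h1.symm
    by_contra hnot
    -- some `w0 ∈ U` is moved by `d`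
    have hex : ∃ w0 : ↥U, cj d w0 ≠ w0 := by
      by_contra hall
      rw [not_exists] at hall
      have hall : ∀ w0 : ↥U, cj d w0 = w0 := fun w0 => not_not.mp (hall w0)
      apply hnot
      rw [Subgroup.mem_subgroupOf]
      refine Subgroup.mem_inf.mpr ⟨d.2, ?_⟩
      rw [Subgroup.mem_centralizer_iff]
      intro w hw
      have h := congrArg Subtype.val (hall ⟨w, hw⟩)
      rw [hcj] at h
      show w * (d : G) = (d : G) * w
      calc w * (d : G) = (d : G) * w * (d : G)⁻¹ * (d : G) := by rw [h]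
        _ = (d : G) * w := by group
    obtain ⟨w0, hw0⟩ := hex
    let I : Subgroup G := ((cj d) / (MonoidHom.id ↥U)).range.map U.subtype
    have hmemI : ∀ g : G, g ∈ I ↔ ∃ w : ↥U, g = ((cj d w * w⁻¹ : ↥U) : G) := by
      intro g
      constructor
      · rintro ⟨y, ⟨w, rfl⟩, rfl⟩
        refine ⟨w, ?_⟩
        rw [MonoidHom.div_apply, div_eq_mul_inv]
        rfl
      · rintro ⟨w, rfl⟩
        refine ⟨_, ⟨w, rfl⟩, ?_⟩
        rw [MonoidHom.div_apply, div_eq_mul_inv]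
        rfl
    have hIU : I ≤ U := by
      rintro g ⟨y, -, rfl⟩
      exact y.2
    have hI2 : ∀ g ∈ I, g * g = 1 := fun g hg => hU2 g (hIU hg)
    have hBI : ∀ e ∈ B, ∀ g ∈ I, e * g * e⁻¹ ∈ I := by
      intro e he g hg
      obtain ⟨w, rfl⟩ := (hmemI g).1 hg
      refine (hmemI _).2 ⟨⟨e * w * e⁻¹, hBU e he w w.2⟩, ?_⟩
      have hed : e * (d : G) = (d : G) * e := hBc e he _ d.2
      have hed' : (d : G)⁻¹ * e⁻¹ = e⁻¹ * (d : G)⁻¹ := by
        rw [← mul_inv_rev, ← mul_inv_rev, hed]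
      show e * ((d : G) * w * (d : G)⁻¹ * (w : G)⁻¹) * e⁻¹
        = (d : G) * (e * w * e⁻¹) * (d : G)⁻¹ * (e * w * e⁻¹)⁻¹
      calc e * ((d : G) * w * (d : G)⁻¹ * (w : G)⁻¹) * e⁻¹
          = (e * (d : G)) * w * ((d : G)⁻¹ * e⁻¹) * (e * (w : G)⁻¹ * e⁻¹) := by group
        _ = ((d : G) * e) * w * (e⁻¹ * (d : G)⁻¹) * (e * (w : G)⁻¹ * e⁻¹) := by
            rw [hed, hed']
        _ = (d : G) * (e * w * e⁻¹) * (d : G)⁻¹ * (e * w * e⁻¹)⁻¹ := by group
    have hIne : I ≠ ⊥ := by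
      intro hbot
      have hm : ((cj d w0 * w0⁻¹ : ↥U) : G) ∈ I := (hmemI _).2 ⟨w0, rfl⟩
      rw [hbot, Subgroup.mem_bot] at hm
      apply hw0
      have h1 : cj d w0 * w0⁻¹ = 1 := Subtype.ext hm
      exact mul_inv_eq_one.mp h1
    obtain ⟨f', hf'I, hf'1, hf'B⟩ := exists_fixed B I hB2 hI2 hBI hIne
    have hf'f : f' = f := by
      rcases hfix f' (hIU hf'I) hf'B with h | h
      · exact absurd h hf'1
      · exact h
    obtain ⟨w, hw⟩ := (hmemI f').1 hf'I
    apply hχ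
    have h2 : (⟨f, hfU⟩ : ↥U) = cj d w * w⁻¹ := Subtype.ext (hf'f.symm.trans hw)
    rw [h2, map_mul, map_inv, hχd w, mul_inv_cancel]
  -- the two families of characters
  let K : Subgroup ↥B := (B ⊓ Subgroup.centralizer (U : Set G)).subgroupOf B
  let Ψ : (↥B ⧸ K) ⊕ (↥B ⧸ K) → (↥U →* ℂˣ) := fun s =>
    Sum.elim (fun q => χ.comp (cj q.out)) (fun q => χ * χ.comp (cj q.out)) s
  have hout : ∀ q q' : ↥B ⧸ K, χ.comp (cj q.out) = χ.comp (cj q'.out) → q = q' := by
    intro q q' h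
    have h1 := hcore _ _ h
    have h2 : ((q.out : ↥B) : ↥B ⧸ K) = ((q'.out : ↥B) : ↥B ⧸ K) := QuotientGroup.eq.mpr h1
    rwa [QuotientGroup.out_eq', QuotientGroup.out_eq'] at h2
  have hval : ∀ b : ↥B, (χ.comp (cj b)) ⟨f, hfU⟩ = χ ⟨f, hfU⟩ := by
    intro b
    rw [MonoidHom.comp_apply, hcjf]
  have hmix : ∀ b c : ↥B, χ.comp (cj b) ≠ χ * χ.comp (cj c) := by
    intro b c h
    have h1 := DFunLike.congr_fun h ⟨f, hfU⟩
    rw [MonoidHom.mul_apply, hval, hval] at h1
    exact hχ (by simpa using h1)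
  have hΨ : Function.Injective Ψ := by
    rintro (q | q) (q' | q') h
    · exact congrArg Sum.inl (hout q q' h)
    · exact absurd h (hmix _ _)
    · exact absurd h.symm (hmix _ _)
    · exact congrArg Sum.inr (hout q q' (mul_left_cancel h))
  have hle := Nat.card_le_card_of_injective Ψ hΨ
  rw [Nat.card_sum, hcard] at hle
  have hrel : (B ⊓ Subgroup.centralizer (U : Set G)).relIndex B = Nat.card (↥B ⧸ K) := rfl
  rw [hrel]
  omega

example : StFun.{u} := fn

end Cfsg.Agent.H16.Jx
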