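import Mathlib
import Cfsg.Agent.H52.JxDefs
import Cfsg.Agent.H48.JyV
import Cfsg.Agent.H8.JyExA
import Cfsg.Agent.H82.JvCaseA
import Cfsg.Agent.H16.JxStar

/-!
# KA glue (case `V ≤ Q₁` of JY-KILL2, S2953) from helper82's abstract core `caseA`

`ka_of_pside`: the case `V ≤ Q₁ = O₂(K' ⊔ T')` of the residual situation is impossible, given the
P-side input `StPSide` (helper52's post 11203, verbatim): index 2 of `Q₁` in `T'`, `T' ∖ Q₁`
inverts `K'` modulo `Q₁`, and an element of order 3 of `K'` outside the base.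
Inputs used: `H48.Jy.vfacts` (`V` a TI four-group with `N_G(V) = L`), `H8.Jy.exA` (a largest
elementary abelian `A ≤ T'` with `a ∈ A ∖ Q₁`), `H82.Jv.caseA` (the count).
-/

set_option autoImplicit false

namespace Cfsg.Agent.H16.Jx

open Cfsg Cfsg.Agent.H64.Jz Cfsg.Agent.H64.Jy

universe u

/-- The P-side input (helper52's `StPSide`, post 11203, verbatim). -/
def StPSide : Prop := ∀ {G : Type u} [Group G] [Finite G] (S : Sylow 2 G) (M T K L : Subgroup G),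
  Cfsg.Agent.H64.Jz.Base S M T K L →
  (∀ a ∈ T, ∀ b ∈ T, a ∉ pCoreOf 2 (K ⊔ T) → b ∉ pCoreOf 2 (K ⊔ T) →
    a * b ∈ pCoreOf 2 (K ⊔ T)) ∧
  (∀ x ∈ T, x ∉ pCoreOf 2 (K ⊔ T) → ∀ g ∈ K, x * g * x⁻¹ * g ∈ pCoreOf 2 (K ⊔ T)) ∧
  ∃ k ∈ K, k ^ 3 = 1 ∧ k ∉ M

/-- **KA** (the case `V ≤ Q₁` is impossible) from the P-side input. -/
theorem ka_of_pside (hPS : StPSide.{u}) : Cfsg.Agent.H52.Jx.StKA.{u} := by
  intro G _ _ S M K L T' K' L' hR hVQ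
  obtain ⟨hB, hNS, hB', hne⟩ := hR
  obtain ⟨hc4, hexp, hNV, -, -, hTI⟩ :=
    Cfsg.Agent.H48.Jy.vfacts S M K L T' K' L' hB hNS hB' hne
  obtain ⟨hQT, -, hPQ⟩ := pf_core S L T' K' L' hB'
  obtain ⟨hidx, hinv, k, hkK, hk3, hkL⟩ := hPS S L T' K' L' hB'
  obtain ⟨A, a, hAT, -, hAe, hmax, -, haA, haQ⟩ := Cfsg.Agent.H8.Jy.exA S L T' K' L' hB'
  have hSL : (S : Subgroup G) ≤ L := (Cfsg.Agent.H16.Jk.ka S M (S : Subgroup G) K L hB).1.1.1
  have hT'S : T' ≤ (S : Subgroup G) := hB'.2.2.2.2.2.1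
  have hT'N : T' ≤ Subgroup.normalizer (omegaCenterOf (pCoreOf 2 L) : Set G) := by
    rw [hNV]
    exact hT'S.trans hSL
  have hVQ' : omegaCenterOf (pCoreOf 2 L) ≤ pCoreOf 2 (K' ⊔ T') := hVQ
  refine Cfsg.Agent.H82.Jv.caseA T' (pCoreOf 2 (K' ⊔ T')) (omegaCenterOf (pCoreOf 2 L)) A k a
    hQT hVQ' hc4 hexp ?_ (hQT.trans hT'N) (hPQ (le_sup_left (b := T') hkK)) hk3 ?_ hAT hAe hmax
    haA (hT'N (hAT haA)) (hinv a (hAT haA) haQ k hkK) ?_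
  · intro g hg
    rw [hNV]
    exact hTI g hg
  · rw [hNV]
    exact hkL
  · intro t ht
    by_cases htQ : t ∈ pCoreOf 2 (K' ⊔ T')
    · exact Or.inl htQ
    · exact Or.inr (hidx t (hAT ht) a (hAT haA) htQ haQ)

end Cfsg.Agent.H16.Jx
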