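import Mathlib
import Cfsg.Agent.H68.LsDefs

/-!
# S2343 LS-PROJ (helper16, for helper68): the multiplicity of a linear character in a representation,
as the trace of the averaging idempotent, with the two extreme cases.
-/

set_option autoImplicit false

namespace Cfsg.Agent.H16.Ls

universe u

/-- **LS-PROJ**. -/
theorem proj : Cfsg.Agent.H68.Ls.StProj.{u} := by
  intro B _ _ k σ μ
  classical
  obtain ⟨S, hS⟩ : ∃ S : Module.End ℂ (Fin k → ℂ), S = ∑ b : B, ((μ b)⁻¹ : ℂ) • σ b := ⟨_, rfl⟩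
  have hcard : (Fintype.card B : ℂ) ≠ 0 := Nat.cast_ne_zero.mpr Fintype.card_ne_zero
  have hμ : ∀ b : B, ((μ b : ℂˣ) : ℂ) ≠ 0 := fun b => (μ b).ne_zero
  have h1 : ∀ c : B, σ c * S = ((μ c : ℂˣ) : ℂ) • S := by
    intro c
    rw [hS, Finset.mul_sum, Finset.smul_sum]
    refine Fintype.sum_equiv (Equiv.mulLeft c) _ _ (fun b => ?_)
    show σ c * (((μ b)⁻¹ : ℂ) • σ b) = ((μ c : ℂˣ) : ℂ) • (((μ (c * b))⁻¹ : ℂ) • σ (c * b))
    rw [mul_smul_comm, ← map_mul σ c b, smul_smul, map_mul μ c b, Units.val_mul, mul_inv,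
      ← mul_assoc, mul_inv_cancel₀ (hμ c), one_mul]
  have h2 : S * S = (Fintype.card B : ℂ) • S := by
    calc S * S = (∑ c : B, ((μ c)⁻¹ : ℂ) • σ c) * S := by rw [← hS]
      _ = ∑ c : B, ((μ c)⁻¹ : ℂ) • (σ c * S) := by
          rw [Finset.sum_mul]
          exact Finset.sum_congr rfl (fun c _ => smul_mul_assoc _ _ _)
      _ = ∑ _c : B, S := by
          apply Finset.sum_congr rfl
          intro c _
          rw [h1, smul_smul, inv_mul_cancel₀ (hμ c), one_smul]
      _ = (Fintype.card B : ℂ) • S := by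
          rw [Finset.sum_const, Finset.card_univ, Nat.cast_smul_eq_nsmul]
  obtain ⟨P, hP⟩ : ∃ P : Module.End ℂ (Fin k → ℂ), P = (Fintype.card B : ℂ)⁻¹ • S := ⟨_, rfl⟩
  have hPP : P * P = P := by
    rw [hP, smul_mul_smul_comm, h2, smul_smul, mul_assoc, inv_mul_cancel₀ hcard, mul_one]
  have hproj : LinearMap.IsProj (LinearMap.range P) P := by
    constructor
    · intro x
      exact LinearMap.mem_range_self P x
    · intro x hx
      obtain ⟨y, rfl⟩ := hx
      have h0 := congrArg (fun T : Module.End ℂ (Fin k → ℂ) => T y) hPP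
      exact h0
  have htr : LinearMap.trace ℂ (Fin k → ℂ) P = (Module.finrank ℂ (LinearMap.range P) : ℂ) :=
    hproj.trace
  have hSP : S = (Fintype.card B : ℂ) • P := by
    rw [hP, smul_smul, mul_inv_cancel₀ hcard, one_smul]
  refine ⟨Module.finrank ℂ (LinearMap.range P), ?_, ?_, ?_⟩
  · have h3 : LinearMap.trace ℂ (Fin k → ℂ) S =
        ∑ b : B, ((μ b)⁻¹ : ℂ) * LinearMap.trace ℂ (Fin k → ℂ) (σ b) := by
      rw [hS, map_sum]
      exact Finset.sum_congr rfl (fun b _ => by rw [map_smul, smul_eq_mul])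
    rw [← h3, ← htr, hSP, map_smul, smul_eq_mul]
  · intro hn
    have h4 : LinearMap.range P = ⊥ := Submodule.finrank_eq_zero.mp hn
    have h5 : P = 0 := LinearMap.range_eq_bot.mp h4
    rw [← hS, hSP, h5, smul_zero]
  · intro hn b
    have h7 : LinearMap.range P = ⊤ := by
      apply Submodule.eq_top_of_finrank_eq
      rw [hn, Module.finrank_fin_fun]
    have h8 : P = 1 := by
      apply LinearMap.ext
      intro x
      exact hproj.map_id x (by rw [h7]; exact Submodule.mem_top)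
    calc σ b = σ b * P := by rw [h8, mul_one]
      _ = (Fintype.card B : ℂ)⁻¹ • (σ b * S) := by rw [hP, mul_smul_comm]
      _ = ((μ b : ℂˣ) : ℂ) • P := by rw [h1, hP, smul_comm]
      _ = _ := by rw [h8]

end Cfsg.Agent.H16.Ls
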