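import Mathlib
import Cfsg.Agent.H68.LsDefs

/-!
# S2343 LS-ZAJ (helper16, for helper68): in a Ree datum, `Z = {R 0 0 v}`, `A = {R 0 u v}` and
`J = h (-1)` have the properties used by the trace argument.
-/

set_option autoImplicit false

namespace Cfsg.Agent.H16.Ls

universe u v

/-- **LS-ZAJ**. -/
theorem zaj (ha : Cfsg.Agent.H96.Ro.StArith.{u}) : Cfsg.Agent.H68.Ls.StZAJ.{u, v} := by
  intro K _ _ _ m hm hK G _ D
  classical
  obtain ⟨n, hn⟩ : ∃ n : ℕ, n = 3 ^ (m + 1) := ⟨_, rfl⟩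
  have hn0 : n ≠ 0 := by rw [hn]; positivity
  have har := (ha K m hm hK).2.2.2.1
  rw [← hn] at har D
  have h0n : (0 : K) ^ n = 0 := zero_pow hn0
  -- the group law on `A`
  have hA0 : ∀ u v u' v' : K, D.R 0 u v * D.R 0 u' v' = D.R 0 (u + u') (v + v') := by
    intro u v u' v'
    rw [D.R_mul]
    congr 1 <;> simp [h0n]
  have hR1 : D.R 0 0 0 = 1 := by
    have h1 := hA0 0 0 0 0
    rw [add_zero] at h1
    exact mul_eq_left.mp h1
  have hinv : ∀ u v : K, (D.R 0 u v)⁻¹ = D.R 0 (-u) (-v) := by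
    intro u v
    apply inv_eq_of_mul_eq_one_right
    rw [hA0, add_neg_cancel, add_neg_cancel, hR1]
  let A : Subgroup G :=
    { carrier := {g | ∃ u v : K, g = D.R 0 u v}
      mul_mem' := by
        rintro _ _ ⟨u, v, rfl⟩ ⟨u', v', rfl⟩
        exact ⟨u + u', v + v', hA0 u v u' v'⟩
      one_mem' := ⟨0, 0, hR1.symm⟩
      inv_mem' := by
        rintro _ ⟨u, v, rfl⟩
        exact ⟨-u, -v, hinv u v⟩ }
  let Z : Subgroup G :=
    { carrier := {g | ∃ v : K, g = D.R 0 0 v}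
      mul_mem' := by
        rintro _ _ ⟨v, rfl⟩ ⟨v', rfl⟩
        refine ⟨v + v', ?_⟩
        rw [hA0, add_zero]
      one_mem' := ⟨0, hR1.symm⟩
      inv_mem' := by
        rintro _ ⟨v, rfl⟩
        refine ⟨-v, ?_⟩
        rw [hinv, neg_zero] }
  have hAmem : ∀ g : G, g ∈ A ↔ ∃ u v : K, g = D.R 0 u v := fun _ => Iff.rfl
  have hZmem : ∀ g : G, g ∈ Z ↔ ∃ v : K, g = D.R 0 0 v := fun _ => Iff.rfl
  have hcardK : Nat.card K = 3 ^ (2 * m + 1) := by rw [Nat.card_eq_fintype_card, hK]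
  refine ⟨Z, A, D.h (-1), ?_, ?_, ?_, ?_, ?_, ?_, ?_, ?_, ?_⟩
  · intro g hg
    obtain ⟨v, rfl⟩ := (hZmem g).mp hg
    exact (hAmem _).mpr ⟨0, v, rfl⟩
  · rw [← hcardK]
    symm
    apply Nat.card_congr
    refine Equiv.ofBijective (fun v : K => (⟨D.R 0 0 v, (hZmem _).mpr ⟨v, rfl⟩⟩ : ↥Z)) ⟨?_, ?_⟩
    · intro v v' hvv
      exact (D.R_inj _ _ _ _ _ _ (congrArg Subtype.val hvv)).2.2
    · rintro ⟨g, hg⟩
      obtain ⟨v, rfl⟩ := (hZmem g).mp hg
      exact ⟨v, rfl⟩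
  · rw [← hcardK, ← Nat.card_prod]
    symm
    apply Nat.card_congr
    refine Equiv.ofBijective
      (fun p : K × K => (⟨D.R 0 p.1 p.2, (hAmem _).mpr ⟨p.1, p.2, rfl⟩⟩ : ↥A)) ⟨?_, ?_⟩
    · rintro ⟨u, v⟩ ⟨u', v'⟩ hvv
      have h1 := D.R_inj _ _ _ _ _ _ (congrArg Subtype.val hvv)
      exact Prod.ext h1.2.1 h1.2.2
    · rintro ⟨g, hg⟩
      obtain ⟨u, v, rfl⟩ := (hAmem g).mp hg
      exact ⟨(u, v), rfl⟩
  · intro a hamem b hbmem
    obtain ⟨u, v, rfl⟩ := (hAmem a).mp hamem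
    obtain ⟨u', v', rfl⟩ := (hAmem b).mp hbmem
    rw [hA0, hA0, add_comm u u', add_comm v v']
  · intro z hz hz1 z' hz' hz'1
    obtain ⟨v, rfl⟩ := (hZmem z).mp hz
    obtain ⟨v', rfl⟩ := (hZmem z').mp hz'
    have hv : v ≠ 0 := by
      rintro rfl
      exact hz1 hR1
    have hv' : v' ≠ 0 := by
      rintro rfl
      exact hz'1 hR1
    have hr : v' / v ≠ 0 := div_ne_zero hv' hv
    have hκ0 : (v' / v)⁻¹ ^ (n - 2) ≠ 0 := pow_ne_zero _ (inv_ne_zero hr)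
    refine ⟨D.h (Units.mk0 _ hκ0), ?_⟩
    rw [D.h_conj, Units.val_mk0, har _ hr, mul_zero, mul_zero, div_mul_cancel₀ _ hv]
  · intro a hamem haZ z hz
    obtain ⟨u, v, rfl⟩ := (hAmem a).mp hamem
    obtain ⟨w, rfl⟩ := (hZmem z).mp hz
    have hu : u ≠ 0 := by
      rintro rfl
      exact haZ ((hZmem _).mpr ⟨v, rfl⟩)
    refine ⟨D.R (w / u) 0 0, ?_⟩
    rw [mul_inv_eq_iff_eq_mul, hA0, D.R_mul, D.R_mul]
    congr 1
    · simp
    · simp [h0n]
    · simp only [h0n]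
      field_simp
      ring
  · intro hJ
    have h1 : D.h 1 = 1 := by
      have h2 := D.h_mul 1 1
      rw [mul_one] at h2
      exact (mul_eq_left.mp h2.symm)
    rw [← h1] at hJ
    have h3 : (-1 : Kˣ) = 1 := D.h_inj hJ
    have h4 : (-1 : K) = 1 := by
      have := congrArg (fun x : Kˣ => (x : K)) h3
      simpa using this
    have h5 : ((2 : ℕ) : K) = 0 := by
      push_cast
      linear_combination -h4
    have h6 := (CharP.cast_eq_zero_iff K 3 2).mp h5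
    omega
  · have h1 : D.h 1 = 1 := by
      have h2 := D.h_mul 1 1
      rw [mul_one] at h2
      exact (mul_eq_left.mp h2.symm)
    rw [← D.h_mul, neg_mul_neg, mul_one, h1]
  · intro z hz
    obtain ⟨v, rfl⟩ := (hZmem z).mp hz
    have hodd : Odd (n + 2) := by
      rw [hn]
      exact Odd.add_even (Odd.pow (by decide)) (by decide)
    rw [D.h_conj, hinv, Units.val_neg, Units.val_one, hodd.neg_one_pow, mul_zero, mul_zero,
      neg_one_mul, neg_zero]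

end Cfsg.Agent.H16.Ls
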