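import Mathlib
import Cfsg.Agent.S4441
import Cfsg.Agent.S4729
import Cfsg.Agent.H21.E2Block
import Cfsg.Agent.H4.IrrCount
import Cfsg.Agent.H81.Reg
import Cfsg.Agent.H81.Counting
import Cfsg.Agent.H16.Ord5040Grp
import Cfsg.Agent.H5.Ord5040P5

/-!
# The Sylow 7-subgroup of a simple group of order 5040 is self-centralizing (S0978-P7A)
-/

set_option autoImplicit false
set_option linter.style.haveILetI false

namespace Cfsg.Agent.H16.Ord5040

open Cfsg Cfsg.Agent.H21.E2Block

open scoped commutatorElement Pointwise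

/-- The possible (degree, sign) pairs of a non-principal member of the principal 7-block. -/
theorem cand7 (d : ℕ) (h14 : 14 ≤ d) (hdvd : d ∣ 5040) (hsq : d * d ≤ 5040) (s : ℤ)
    (hs : s = 1 ∨ s = -1) (hmod : (d : ℤ) % 7 = s % 7) :
    (d = 15 ∧ s = 1) ∨ (d = 36 ∧ s = 1) ∨ (d = 20 ∧ s = -1) ∨ (d = 48 ∧ s = -1) := by
  have hd70 : d ≤ 70 := by nlinarith
  rcases hs with rfl | rfl
  · interval_cases d <;> omega
  · interval_cases d <;> omega

/-- Counting the four kinds of (degree, sign) pairs in a finite family. -/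
theorem count4 {α : Type*} [DecidableEq α] (S : Finset α) (d : α → ℕ) (s : α → ℤ)
    (h : ∀ a ∈ S, (d a = 15 ∧ s a = 1) ∨ (d a = 36 ∧ s a = 1) ∨ (d a = 20 ∧ s a = -1) ∨
      (d a = 48 ∧ s a = -1)) :
    ∃ n1 n2 n3 n4 : ℕ, n1 + n2 + n3 + n4 = S.card ∧
      ∑ a ∈ S, s a * (d a : ℤ) = 15 * (n1 : ℤ) + 36 * n2 - 20 * n3 - 48 * n4 ∧
      ∑ a ∈ S, (d a) ^ 2 = 225 * n1 + 1296 * n2 + 400 * n3 + 2304 * n4 := by
  induction S using Finset.induction_on with
  | empty => exact ⟨0, 0, 0, 0, by simp, by simp, by simp⟩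
  | insert a S ha ih =>
    obtain ⟨n1, n2, n3, n4, h1, h2, h3⟩ := ih (fun b hb => h b (Finset.mem_insert_of_mem hb))
    rw [Finset.sum_insert ha, Finset.sum_insert ha, Finset.card_insert_of_notMem ha, h2, h3]
    rcases h a (Finset.mem_insert_self a S) with ⟨hd, hs⟩ | ⟨hd, hs⟩ | ⟨hd, hs⟩ | ⟨hd, hs⟩
    · exact ⟨n1 + 1, n2, n3, n4, by omega, by rw [hd, hs]; push_cast; ring, by rw [hd]; ring⟩
    · exact ⟨n1, n2 + 1, n3, n4, by omega, by rw [hd, hs]; push_cast; ring, by rw [hd]; ring⟩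
    · exact ⟨n1, n2, n3 + 1, n4, by omega, by rw [hd, hs]; push_cast; ring, by rw [hd]; ring⟩
    · exact ⟨n1, n2, n3, n4 + 1, by omega, by rw [hd, hs]; push_cast; ring, by rw [hd]; ring⟩

/-- The counting system of the case `e = 6` has no solution. -/
theorem arith6 (n1 n2 n3 n4 : ℕ) (h1 : n1 + n2 + n3 + n4 = 6)
    (h2 : 1 + 15 * n1 + 36 * n2 = 20 * n3 + 48 * n4)
    (h3 : 225 * n1 + 1296 * n2 + 400 * n3 + 2304 * n4 ≤ 5039) : False := by
  have hn2 : n2 ≤ 3 := by omega
  have hn4 : n4 ≤ 2 := by omega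
  have hn1 : n1 ≤ 6 := by omega
  interval_cases n2 <;> interval_cases n4 <;> interval_cases n1 <;> omega

/-- A non-abelian simple group is perfect. -/
theorem commutator_eq_top_of_simple {G : Type*} [Group G] [IsSimpleGroup G]
    (hna : ∃ u v : G, u * v ≠ v * u) : commutator G = ⊤ := by
  rcases (inferInstance : (commutator G).Normal).eq_bot_or_eq_top with h | h
  · exfalso
    obtain ⟨u, v, huv⟩ := hna
    apply huv
    have h1 : ⁅u, v⁆ ∈ commutator G := Subgroup.commutator_mem_commutator (Subgroup.mem_top u)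
      (Subgroup.mem_top v)
    rw [h, Subgroup.mem_bot, commutatorElement_eq_one_iff_mul_comm] at h1
    exact h1
  · exact h

set_option maxHeartbeats 2000000 in
/-- **S0978-P7A**, relative to the `p = 5` facts: in a simple group of order 5040 a Sylow
7-subgroup is self-centralizing with `|N(P) : C(P)| = 6`. -/
theorem p7_cent_of_p5 {G : Type*} [Group G] [Finite G] [IsSimpleGroup G]
    (hcard : Nat.card G = 5040)
    (hP5 : ∀ P5 : Sylow 5 G, ∃ u ∈ Subgroup.centralizer ((P5 : Subgroup G) : Set G),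
      orderOf u = 2 ∨ orderOf u = 7)
    (P : Sylow 7 G) :
    Nat.card (Subgroup.centralizer ((P : Subgroup G) : Set G)) = 7 ∧
    (Subgroup.centralizer ((P : Subgroup G) : Set G)).relIndex
        (Subgroup.normalizer ((P : Subgroup G) : Set G)) = 6 := by
  classical
  haveI : Fact (Nat.Prime 7) := ⟨by norm_num⟩
  haveI : Fact (Nat.Prime 5) := ⟨by norm_num⟩
  haveI : Fact (Nat.Prime 2) := ⟨Nat.prime_two⟩
  obtain ⟨hPc, e, k, n, he, hCk, hnek, hn7, hn8, hediv, he1, hpg, -⟩ :=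
    sylow_data hcard 7 (Or.inr rfl) P
  have he236 : e = 2 ∨ e = 3 ∨ e = 6 := by
    have h6 : e ≤ 6 := Nat.le_of_dvd (by norm_num) hediv
    interval_cases e <;> omega
  by_cases hk1 : k = 1
  · subst hk1
    rcases he236 with rfl | rfl | rfl
    · omega
    · omega
    · exact ⟨by rw [hCk], he⟩
  exfalso
  have hnp : ¬ (Nat.card G).Prime := by rw [hcard]; norm_num
  have hG : ¬ IsMulCommutative G := Cfsg.Agent.H21.not_comm_of_not_prime hnp
  have hna : ∃ u v : G, u * v ≠ v * u := by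
    by_contra hcon
    push Not at hcon
    exact hG ⟨⟨hcon⟩⟩
  have hperf := commutator_eq_top_of_simple hna
  obtain ⟨M, hM⟩ := Cfsg.Agent.H78.exists_isPModular 7 (by norm_num)
  haveI : Fintype G := Fintype.ofFinite G
  obtain ⟨X, Y, hB, hdisj, hXc, hYc, εX, ε, hX, hε, hYdeg, hYagree, hrel⟩ :=
    Cfsg.Agent.S4441.result 7 M hM (by norm_num) P hPc e he
  haveI := Cfsg.Agent.H4.finite_irr G
  have hdeg : ∀ ψ : IrrCharacter G, (ψ : G → ℂ) 1 = (charDegree (ψ : G → ℂ) : ℂ) :=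
    fun ψ => (Cfsg.Agent.H81.irr_charDegree ψ).1
  have hdvd : ∀ ψ : IrrCharacter G, charDegree (ψ : G → ℂ) ∣ 5040 := fun ψ => by
    have := Cfsg.Agent.H81.irr_charDegree_dvd ψ
    rwa [hcard] at this
  have hsq : ∀ S : Finset (IrrCharacter G), ∑ ψ ∈ S, (charDegree (ψ : G → ℂ)) ^ 2 ≤ 5040 := by
    intro S
    letI := Cfsg.Agent.H4.fintypeIrr G
    have h1 := Cfsg.Agent.H4.sum_irr_sq (G := G)
    rw [Cfsg.Agent.H4.finsum_irr_eq_sum, hcard] at h1
    have h2 : ∑ ψ : IrrCharacter G, (charDegree (ψ : G → ℂ)) ^ 2 = 5040 := by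
      have h3 : ((∑ ψ : IrrCharacter G, (charDegree (ψ : G → ℂ)) ^ 2 : ℕ) : ℂ) =
          ((5040 : ℕ) : ℂ) := by
        rw [← h1]
        push_cast
        apply Finset.sum_congr rfl
        intro ψ _
        rw [hdeg ψ]
      exact_mod_cast h3
    rw [← h2]
    exact Finset.sum_le_sum_of_subset (Finset.subset_univ S)
  have htrivB : triv G ∈ principalBlock M G := Cfsg.Agent.H81.mem_blockOf_self hM (triv G)
  have htriv1 : charDegree ((triv G : IrrCharacter G) : G → ℂ) = 1 := by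
    have h := hdeg (triv G)
    rw [triv_apply] at h
    exact_mod_cast h.symm
  have hbig : ∀ ψ ∈ principalBlock M G, ψ ≠ triv G → 14 ≤ charDegree (ψ : G → ℂ) := by
    intro ψ hψ hne
    by_contra hlt
    push Not at hlt
    have h1 : (ψ : G → ℂ) 1 ≠ 1 := by
      intro h1
      have := Cfsg.Agent.S0910.result 7 M hM hna ψ hψ 0 (by rw [h1]; simp)
      exact hne (Subtype.ext this)
    have hfaith : ∀ g : G, (ψ : G → ℂ) g = (ψ : G → ℂ) 1 → g = 1 := by
      intro g hg
      by_contra hg1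
      exact Cfsg.Agent.H21.ResidueTrick.irr_apply_ne_degree ψ h1 g hg1 hg
    have := Cfsg.Agent.S4729.result 7 M hM hperf P ψ hψ hfaith (by omega)
    exact hk1 (hpg this)
  have hreg1 : ¬ 7 ∣ orderOf (1 : G) := by rw [orderOf_one]; norm_num
  obtain ⟨x0, hx0P, hx0⟩ : ∃ x0 ∈ (P : Subgroup G), orderOf x0 = 7 :=
    Cfsg.Agent.H21.exists_mem_orderOf_eq_prime (P : Subgroup G) 7 (by rw [hPc])
  have hx01 : x0 ≠ 1 := by
    rintro rfl
    rw [orderOf_one] at hx0
    omega
  have htrivX : triv G ∈ X → εX (triv G) = 1 := by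
    intro h
    have h1 := (hX _ h).2.2 x0 hx0P hx01 1 (Subgroup.one_mem _) hreg1
    rw [triv_apply] at h1
    exact_mod_cast h1.symm
  have hXcand : ∀ ψ ∈ X, ψ ≠ triv G →
      (charDegree (ψ : G → ℂ) = 15 ∧ εX ψ = 1) ∨ (charDegree (ψ : G → ℂ) = 36 ∧ εX ψ = 1) ∨
      (charDegree (ψ : G → ℂ) = 20 ∧ εX ψ = -1) ∨ (charDegree (ψ : G → ℂ) = 48 ∧ εX ψ = -1) := by
    intro ψ hψ hne
    have hψB : ψ ∈ principalBlock M G := by rw [hB]; exact Or.inl hψ
    obtain ⟨hs, hmod, -⟩ := hX ψ hψ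
    have h14 := hbig ψ hψB hne
    have hsq1 := hsq {ψ}
    rw [Finset.sum_singleton] at hsq1
    have hmod' : (charDegree (ψ : G → ℂ) : ℤ) % 7 = εX ψ % 7 := hmod
    exact cand7 _ h14 (hdvd ψ) (by nlinarith) (εX ψ) hs hmod'
  -- finsets
  obtain ⟨Xf, hXf⟩ : ∃ Xf : Finset (IrrCharacter G), ∀ ψ, ψ ∈ Xf ↔ ψ ∈ X :=
    ⟨(Set.toFinite X).toFinset, fun ψ => Set.Finite.mem_toFinset _⟩
  obtain ⟨Yf, hYf⟩ : ∃ Yf : Finset (IrrCharacter G), ∀ ψ, ψ ∈ Yf ↔ ψ ∈ Y :=
    ⟨(Set.toFinite Y).toFinset, fun ψ => Set.Finite.mem_toFinset _⟩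
  have hXfc : Xf.card = e := by
    rw [← hXc, ← Nat.card_eq_finsetCard]
    exact Nat.card_congr (Equiv.subtypeEquivRight hXf)
  have hYfc : Yf.card = (7 - 1) / e := by
    rw [← hYc, ← Nat.card_eq_finsetCard]
    exact Nat.card_congr (Equiv.subtypeEquivRight hYf)
  have hdisjf : Disjoint Xf Yf :=
    Finset.disjoint_left.mpr (fun a ha hb =>
      Set.disjoint_left.mp hdisj ((hXf a).mp ha) ((hYf a).mp hb))
  have hfs : ∀ f : IrrCharacter G → ℂ, ∑ᶠ χ ∈ X, f χ = ∑ χ ∈ Xf, f χ := by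
    intro f
    rw [finsum_mem_eq_finite_toFinset_sum f (Set.toFinite X)]
    apply Finset.sum_congr _ (fun _ _ => rfl)
    ext ψ
    rw [Set.Finite.mem_toFinset, hXf]
  have hrel1 : ∀ θ ∈ Y, ε * (charDegree (θ : G → ℂ) : ℤ) =
      ∑ χ ∈ Xf, εX χ * (charDegree (χ : G → ℂ) : ℤ) := by
    intro θ hθ
    have h := hrel θ hθ 1 hreg1
    rw [hfs, hdeg θ] at h
    have h2 : ((ε * (charDegree (θ : G → ℂ) : ℤ) : ℤ) : ℂ) =
        ((∑ χ ∈ Xf, εX χ * (charDegree (χ : G → ℂ) : ℤ) : ℤ) : ℂ) := by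
      push_cast
      rw [h]
      apply Finset.sum_congr rfl
      intro χ _
      rw [hdeg χ]
    exact_mod_cast h2
  have hYsame : ∀ θ ∈ Y, ∀ θ' ∈ Y, charDegree (θ : G → ℂ) = charDegree (θ' : G → ℂ) := by
    intro θ hθ θ' hθ'
    have h := hYagree θ hθ θ' hθ' 1 hreg1
    unfold charDegree
    rw [h]
  by_cases htX : triv G ∈ X
  · -- the principal character lies in `X`
    have hs1 := htrivX htX
    have hXmem : triv G ∈ Xf := (hXf _).mpr htX
    obtain ⟨T, hT⟩ : ∃ T : Finset (IrrCharacter G), T = Xf.erase (triv G) := ⟨_, rfl⟩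
    have hTc : T.card = e - 1 := by rw [hT, Finset.card_erase_of_mem hXmem, hXfc]
    have hTcand : ∀ ψ ∈ T,
        (charDegree (ψ : G → ℂ) = 15 ∧ εX ψ = 1) ∨ (charDegree (ψ : G → ℂ) = 36 ∧ εX ψ = 1) ∨
        (charDegree (ψ : G → ℂ) = 20 ∧ εX ψ = -1) ∨
        (charDegree (ψ : G → ℂ) = 48 ∧ εX ψ = -1) := by
      intro ψ hψ
      rw [hT] at hψ
      obtain ⟨hne, hψX⟩ := Finset.mem_erase.mp hψ
      exact hXcand ψ ((hXf ψ).mp hψX) hne
    have hsumX : ∑ χ ∈ Xf, εX χ * (charDegree (χ : G → ℂ) : ℤ) =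
        1 + ∑ χ ∈ T, εX χ * (charDegree (χ : G → ℂ) : ℤ) := by
      rw [hT, ← Finset.add_sum_erase Xf _ hXmem, hs1, htriv1]
      norm_num
    have hsqX : ∑ χ ∈ Xf, (charDegree (χ : G → ℂ)) ^ 2 =
        1 + ∑ χ ∈ T, (charDegree (χ : G → ℂ)) ^ 2 := by
      rw [hT, ← Finset.add_sum_erase Xf _ hXmem, htriv1]
      norm_num
    obtain ⟨θ, hθf⟩ : ∃ θ, θ ∈ Yf := by
      apply Finset.card_pos.mp
      rw [hYfc]
      rcases he236 with rfl | rfl | rfl <;> norm_num
    have hθ : θ ∈ Y := (hYf θ).mp hθf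
    have hθne : θ ≠ triv G := fun h => Set.disjoint_left.mp hdisj htX (h ▸ hθ)
    have hθB : θ ∈ principalBlock M G := by rw [hB]; exact Or.inr hθ
    have hy14 := hbig θ hθB hθne
    have hydvd := hdvd θ
    have hymod : (charDegree (θ : G → ℂ) : ℤ) % 7 = (ε * (e : ℤ)) % 7 := hYdeg θ hθ
    have hrelθ := hrel1 θ hθ
    rw [hsumX] at hrelθ
    have hsqall := hsq (Xf ∪ Yf)
    rw [Finset.sum_union hdisjf, hsqX,
      Finset.sum_const_nat (fun ψ hψ => congrArg (· ^ 2) (hYsame ψ ((hYf ψ).mp hψ) θ hθ)),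
      hYfc] at hsqall
    obtain ⟨y, hy⟩ : ∃ y : ℕ, y = charDegree (θ : G → ℂ) := ⟨_, rfl⟩
    rw [← hy] at hy14 hydvd hymod hrelθ hsqall
    rcases he236 with rfl | rfl | rfl
    · -- `e = 2`
      obtain ⟨χ, hTχ⟩ := Finset.card_eq_one.mp hTc
      have hχT : χ ∈ T := by rw [hTχ]; exact Finset.mem_singleton_self χ
      have hχX : χ ∈ X := by
        rw [hT] at hχT
        exact (hXf χ).mp (Finset.mem_erase.mp hχT).2
      have hcχ := hTcand χ hχT
      rw [hTχ, Finset.sum_singleton] at hrelθ hsqall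
      obtain ⟨d, hd⟩ : ∃ d : ℕ, d = charDegree (χ : G → ℂ) := ⟨_, rfl⟩
      obtain ⟨σ, hσ⟩ : ∃ σ : ℤ, σ = εX χ := ⟨_, rfl⟩
      rw [← hd, ← hσ] at hcχ hrelθ
      rw [← hd] at hsqall
      have key : d = 15 ∧ σ = 1 ∧ ε = 1 ∧ y = 16 := by
        have hy41 : y ≤ 41 := by nlinarith
        rcases hcχ with ⟨h1, h2⟩ | ⟨h1, h2⟩ | ⟨h1, h2⟩ | ⟨h1, h2⟩ <;>
          rcases hε with h3 | h3 <;>
          · subst h1 h2 h3
            interval_cases y <;> omega
      obtain ⟨hd15, hσ1, hε1, hy16⟩ := key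
      have hθg : ∀ g : G, ¬ 7 ∣ orderOf g → (θ : G → ℂ) g = 1 + (χ : G → ℂ) g := by
        intro g hg
        have h := hrel θ hθ g hg
        rw [hfs, ← Finset.add_sum_erase Xf _ hXmem, ← hT, hTχ, Finset.sum_singleton, hs1,
          triv_apply, ← hσ, hσ1, hε1] at h
        push_cast at h
        linear_combination h
      have hχ0 : ∀ g : G, 5 ∣ orderOf g → (χ : G → ℂ) g = 0 := fun g hg =>
        Cfsg.Agent.H78.irr_defect_zero_vanish 5 (by norm_num) χ
          (by rw [hcard, ← hd, hd15]; norm_num) g hg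
      have hθ0 : ∀ g : G, 2 ∣ orderOf g → (θ : G → ℂ) g = 0 := fun g hg =>
        Cfsg.Agent.H78.irr_defect_zero_vanish 2 Nat.prime_two θ
          (by rw [hcard, ← hy, hy16]; norm_num) g hg
      obtain ⟨P5⟩ : Nonempty (Sylow 5 G) := inferInstance
      obtain ⟨u, huC, hu⟩ := hP5 P5
      have hP5c : Nat.card (P5 : Subgroup G) = 5 := by
        have := Cfsg.Agent.H21.sylow_card_of_card_eq (p := 5) (k := 1) (m := 1008)
          (by rw [hcard]; norm_num) (by norm_num) P5
        simpa using this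
      obtain ⟨v, hvP, hv⟩ : ∃ v ∈ (P5 : Subgroup G), orderOf v = 5 :=
        Cfsg.Agent.H21.exists_mem_orderOf_eq_prime (P5 : Subgroup G) 5 (by rw [hP5c])
      have hcomm : Commute v u := by
        rw [Subgroup.mem_centralizer_iff] at huC
        exact huC v hvP
      rcases hu with hu | hu
      · have hord : orderOf (v * u) = 10 := by
          rw [hcomm.orderOf_mul_eq_mul_orderOf_of_coprime (by rw [hv, hu]; norm_num), hv, hu]
        have h1 := hθg (v * u) (by rw [hord]; norm_num)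
        rw [hθ0 _ (by rw [hord]; norm_num), hχ0 _ (by rw [hord]; norm_num)] at h1
        norm_num at h1
      · have hord : orderOf (u * v) = 35 := by
          rw [hcomm.symm.orderOf_mul_eq_mul_orderOf_of_coprime (by rw [hv, hu]; norm_num), hv, hu]
        obtain ⟨c, hc⟩ : ∃ c : G, c * u * c⁻¹ ∈ (P : Subgroup G) := by
          have hpg7 : IsPGroup 7 (Subgroup.zpowers u) := by
            apply IsPGroup.of_card (n := 1)
            rw [Nat.card_zpowers, hu, pow_one]
          obtain ⟨Q, hQ⟩ := hpg7.exists_le_sylow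
          obtain ⟨c, hc⟩ := MulAction.exists_smul_eq G Q P
          refine ⟨c, ?_⟩
          have h1 : MulAut.conj c • u ∈ MulAut.conj c • (Q : Subgroup G) :=
            Subgroup.smul_mem_pointwise_smul _ _ _ (hQ (Subgroup.mem_zpowers u))
          rw [← Sylow.coe_subgroup_smul, hc] at h1
          exact h1
        have hx1 : c * u * c⁻¹ ≠ 1 := by
          intro h
          have hu1 : u = 1 := by
            have h2 : u = c⁻¹ * (c * u * c⁻¹) * c := by group
            rw [h2, h]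
            group
          rw [hu1, orderOf_one] at hu
          omega
        have hv'ord : orderOf (c * v * c⁻¹) = 5 := by
          have h := (MulAut.conj c).orderOf_eq v
          rw [MulAut.conj_apply] at h
          rw [h, hv]
        have hv'C : c * v * c⁻¹ ∈ Subgroup.centralizer ((P : Subgroup G) : Set G) := by
          rw [← centralizer_singleton_eq 7 P hPc (c * u * c⁻¹) hc hx1,
            Subgroup.mem_centralizer_iff]
          intro h hh
          rw [Set.mem_singleton_iff] at hh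
          subst hh
          have h3 := hcomm.eq
          calc c * u * c⁻¹ * (c * v * c⁻¹) = c * (u * v) * c⁻¹ := by group
            _ = c * (v * u) * c⁻¹ := by rw [h3]
            _ = c * v * c⁻¹ * (c * u * c⁻¹) := by group
        have h1 := (hX χ hχX).2.2 (c * u * c⁻¹) hc hx1 (c * v * c⁻¹) hv'C
          (by rw [hv'ord]; norm_num)
        have h2 : c * u * c⁻¹ * (c * v * c⁻¹) = c * (u * v) * c⁻¹ := by group
        rw [h2, Cfsg.Agent.H81.irr_conj, hχ0 _ (by rw [hord]; norm_num), ← hσ, hσ1] at h1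
        norm_num at h1
    · -- `e = 3`
      obtain ⟨n1, n2, n3, n4, hn, hs, hq⟩ :=
        count4 T (fun ψ => charDegree (ψ : G → ℂ)) εX hTcand
      rw [hs] at hrelθ
      rw [hq] at hsqall
      rw [hTc] at hn
      have hy50 : y ≤ 50 := by nlinarith
      rcases hε with rfl | rfl
      · interval_cases y <;> omega
      · interval_cases y <;> omega
    · -- `e = 6`
      obtain ⟨n1, n2, n3, n4, hn, hs, hq⟩ :=
        count4 T (fun ψ => charDegree (ψ : G → ℂ)) εX hTcand
      rw [hs] at hrelθ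
      rw [hq] at hsqall
      rw [hTc] at hn
      have hy70 : y * y ≤ 5040 := by nlinarith
      have hc := cand7 y hy14 hydvd hy70 (-ε) (by rcases hε with rfl | rfl <;> simp)
        (by rcases hε with rfl | rfl <;> omega)
      rcases hc with ⟨h1, h2⟩ | ⟨h1, h2⟩ | ⟨h1, h2⟩ | ⟨h1, h2⟩
      · subst h1
        norm_num at hsqall
        clear * - hn h2 hrelθ hsqall
        exact arith6 (n1 + 1) n2 n3 n4 (by omega) (by omega) (by linarith)
      · subst h1
        norm_num at hsqall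
        clear * - hn h2 hrelθ hsqall
        exact arith6 n1 (n2 + 1) n3 n4 (by omega) (by omega) (by linarith)
      · subst h1
        norm_num at hsqall
        clear * - hn h2 hrelθ hsqall
        exact arith6 n1 n2 (n3 + 1) n4 (by omega) (by omega) (by linarith)
      · subst h1
        norm_num at hsqall
        clear * - hn h2 hrelθ hsqall
        exact arith6 n1 n2 n3 (n4 + 1) (by omega) (by omega) (by linarith)
  · -- the principal character lies in `Y`
    have htY : triv G ∈ Y := by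
      rw [hB] at htrivB
      exact htrivB.resolve_left htX
    have hYsub : ∀ θ ∈ Y, θ = triv G := by
      intro θ hθ
      have h1 := hYagree θ hθ (triv G) htY 1 hreg1
      rw [triv_apply] at h1
      have := Cfsg.Agent.S0910.result 7 M hM hna θ (by rw [hB]; exact Or.inr hθ) 0
        (by rw [h1]; simp)
      exact Subtype.ext this
    have hYf1 : Yf.card = 1 := by
      rw [Finset.card_eq_one]
      refine ⟨triv G, ?_⟩
      ext ψ
      rw [hYf, Finset.mem_singleton]
      exact ⟨hYsub ψ, fun h => h ▸ htY⟩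
    have he6 : e = 6 := by
      rw [hYfc] at hYf1
      rcases he236 with rfl | rfl | rfl <;> omega
    subst he6
    have hεm : ε = -1 := by
      have h : (charDegree ((triv G : IrrCharacter G) : G → ℂ) : ℤ) % 7 =
          (ε * ((6 : ℕ) : ℤ)) % 7 := hYdeg _ htY
      rw [htriv1] at h
      rcases hε with rfl | rfl
      · omega
      · rfl
    have hrelt := hrel1 _ htY
    rw [htriv1, hεm] at hrelt
    have hXcand' : ∀ ψ ∈ Xf,
        (charDegree (ψ : G → ℂ) = 15 ∧ εX ψ = 1) ∨ (charDegree (ψ : G → ℂ) = 36 ∧ εX ψ = 1) ∨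
        (charDegree (ψ : G → ℂ) = 20 ∧ εX ψ = -1) ∨
        (charDegree (ψ : G → ℂ) = 48 ∧ εX ψ = -1) :=
      fun ψ hψ => hXcand ψ ((hXf ψ).mp hψ) (fun h => htX (h ▸ (hXf ψ).mp hψ))
    obtain ⟨n1, n2, n3, n4, hn, hs, hq⟩ :=
      count4 Xf (fun ψ => charDegree (ψ : G → ℂ)) εX hXcand'
    have hsqall := hsq (insert (triv G) Xf)
    rw [Finset.sum_insert (fun h => htX ((hXf _).mp h)), htriv1, hq] at hsqall
    rw [hs] at hrelt
    rw [hXfc] at hn
    exact arith6 n1 n2 n3 n4 hn (by omega) (by omega)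

/-- **S0978-P7A**: in a simple group of order 5040 a Sylow 7-subgroup is self-centralizing
with `|N(P) : C(P)| = 6`. -/
theorem p7_cent {G : Type*} [Group G] [Finite G] [IsSimpleGroup G] (hcard : Nat.card G = 5040)
    (P : Sylow 7 G) :
    Nat.card (Subgroup.centralizer ((P : Subgroup G) : Set G)) = 7 ∧
    (Subgroup.centralizer ((P : Subgroup G) : Set G)).relIndex
        (Subgroup.normalizer ((P : Subgroup G) : Set G)) = 6 :=
  p7_cent_of_p5 hcard (fun P5 => (Cfsg.Agent.H5.Ord5040.p5_facts hcard P5).2) P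

end Cfsg.Agent.H16.Ord5040
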