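import Mathlib
import Cfsg.Prelude.Def_GeometricClasses

/-!
# S5981 team project: piece statements

`PSL_n(q)`, `q` odd, subgroups of orthogonal type: elements of prime order `r` conjugate into the
similarity group of a nondegenerate quadratic form.  Everything is phrased with matrices over
`Fin n`; `A` is a symmetric invertible Gram matrix, "`x` is a similarity of `A` with multiplier
`c`" means `x.transpose * A * x = c • A`.
-/

set_option autoImplicit false
open scoped MatrixGroups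

namespace Cfsg.Agent.H16.Orth

universe u

/-- The eigenvalue pattern of `M` is symmetric under `ν ↦ τ / ν` for some `τ ≠ 0`. -/
def OrthSym {F : Type u} [Field F] {n : ℕ} (M : Matrix (Fin n) (Fin n) F) : Prop :=
  ∃ τ : F, τ ≠ 0 ∧ ∀ ν : F, (M - ν • (1 : Matrix (Fin n) (Fin n) F)).rank
    = (M - (τ * ν⁻¹) • (1 : Matrix (Fin n) (Fin n) F)).rank

/-- GRAM: the similarity group of `Q` in terms of a symmetric invertible Gram matrix. -/
def StGram : Prop :=
  ∀ (F : Type u) [Field F] [Fintype F] (n : ℕ) (Q : (Fin n → F) → F), (2 : F) ≠ 0 →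
    Cfsg.Geo.IsNondegenerateQuadraticForm Q →
    ∃ A : Matrix (Fin n) (Fin n) F, A.transpose = A ∧ IsUnit A.det ∧
      ∀ g : GL (Fin n) F, g ∈ Cfsg.Geo.quadSimilarityGroup Q ↔
        ∃ c : F, c ≠ 0 ∧ (g : Matrix (Fin n) (Fin n) F).transpose * A
          * (g : Matrix (Fin n) (Fin n) F) = c • A

/-- CLASS: symmetric invertible matrices over a finite field of odd order with the same
discriminant class are congruent. -/
def StClass : Prop :=
  ∀ (F : Type u) [Field F] [Fintype F] (n : ℕ) (A A' : Matrix (Fin n) (Fin n) F), (2 : F) ≠ 0 →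
    A.transpose = A → A'.transpose = A' → IsUnit A.det → IsUnit A'.det →
    IsSquare (A.det * A'.det) →
    ∃ M : Matrix (Fin n) (Fin n) F, IsUnit M.det ∧ M.transpose * A' * M = A

/-- PERMFORM: a diagonal matrix whose entries are paired by an involution with a fixed point is a
similarity of symmetric invertible matrices of both discriminant classes. -/
def StPermForm : Prop :=
  ∀ (F : Type u) [Field F] (n : ℕ) (e : Fin n → F) (π : Fin n → Fin n) (c δ : F),
    (∀ j, π (π j) = j) → (∃ j, π j = j) → (∀ j, e j * e (π j) = c) → δ ≠ 0 →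
    ∃ A : Matrix (Fin n) (Fin n) F, A.transpose = A ∧ IsUnit A.det ∧
      (Matrix.diagonal e).transpose * A * Matrix.diagonal e = c • A ∧ IsSquare (A.det * δ)

/-- CONJFORM: transport of a similarity relation along a conjugation. -/
def StConjForm : Prop :=
  ∀ (F : Type u) [Field F] (n : ℕ) (x R s A₀ : Matrix (Fin n) (Fin n) F) (c : F),
    IsUnit R.det → x * R = R * s → A₀.transpose = A₀ → IsUnit A₀.det →
    s.transpose * A₀ * s = c • A₀ →
    ∃ A : Matrix (Fin n) (Fin n) F, A.transpose = A ∧ IsUnit A.det ∧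
      x.transpose * A * x = c • A ∧ ∃ t : F, t ≠ 0 ∧ A.det = t ^ 2 * A₀.det

/-- INVFIX: an involution of a set of odd size has a fixed point. -/
def StInvFix : Prop :=
  ∀ (n : ℕ), Odd n → ∀ π : Fin n → Fin n, (∀ j, π (π j) = j) → ∃ j, π j = j

/-- NSQFORM: a matrix with `x ^ 2 = z`, `z` a non-square, is a similarity (multiplier `z`) of
symmetric invertible matrices of both discriminant classes. -/
def StNsqForm : Prop :=
  ∀ (F : Type u) [Field F] [Fintype F] (n : ℕ) (x : Matrix (Fin n) (Fin n) F) (z δ : F),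
    0 < n → (2 : F) ≠ 0 → ¬ IsSquare z → x ^ 2 = z • (1 : Matrix (Fin n) (Fin n) F) → δ ≠ 0 →
    ∃ A : Matrix (Fin n) (Fin n) F, A.transpose = A ∧ IsUnit A.det ∧
      x.transpose * A * x = z • A ∧ IsSquare (A.det * δ)

/-- NSQCENT: the centraliser of a matrix with `x ^ 2 = z`, `z` a non-square, contains matrices
of every nonzero determinant. -/
def StNsqCent : Prop :=
  ∀ (F : Type u) [Field F] [Fintype F] (n : ℕ) (x : Matrix (Fin n) (Fin n) F) (z d : F),
    0 < n → (2 : F) ≠ 0 → ¬ IsSquare z → x ^ 2 = z • (1 : Matrix (Fin n) (Fin n) F) → d ≠ 0 →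
    ∃ h : Matrix (Fin n) (Fin n) F, h.det = d ∧ h * x = x * h

/-- RANKSYM: a similarity with multiplier `c` has an eigenvalue pattern symmetric under
`ν ↦ c / ν`. -/
def StRankSym : Prop :=
  ∀ (F : Type u) [Field F] (n : ℕ) (x A : Matrix (Fin n) (Fin n) F) (c : F), c ≠ 0 →
    IsUnit A.det → x.transpose * A * x = c • A →
    ∀ ν : F, (x - ν • (1 : Matrix (Fin n) (Fin n) F)).rank
      = (x - (c * ν⁻¹) • (1 : Matrix (Fin n) (Fin n) F)).rank

/-- WITA: the witness `u • diag(1, …, 1, u ^ (-n))`. -/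
def StWitA : Prop :=
  ∀ (F : Type u) [Field F] (n r : ℕ), 3 ≤ n → r.Prime → r ≠ 2 → ∀ u : F, u ≠ 0 → u ^ n ≠ 1 →
    (u ^ n) ^ r = 1 →
    ∃ M : Matrix (Fin n) (Fin n) F, M.det = 1 ∧
      M ^ r = (u ^ r) • (1 : Matrix (Fin n) (Fin n) F) ∧
      (∀ z : F, M ≠ z • (1 : Matrix (Fin n) (Fin n) F)) ∧ ¬ OrthSym M

/-- WITB: the witness `diag(ζ, ζ, ζ ^ (-2), 1, …, 1)`. -/
def StWitB : Prop :=
  ∀ (F : Type u) [Field F] (n r : ℕ), 7 ≤ n → r.Prime → r ≠ 2 → ∀ ζ : F, ζ ^ r = 1 → ζ ≠ 1 →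
    ∃ M : Matrix (Fin n) (Fin n) F, M.det = 1 ∧ M ^ r = 1 ∧
      (∀ z : F, M ≠ z • (1 : Matrix (Fin n) (Fin n) F)) ∧ ¬ OrthSym M

/-- TRV: in odd characteristic `p` a transvection is not a similarity of a symmetric invertible
matrix. -/
def StTrv : Prop :=
  ∀ (F : Type u) [Field F] (p : ℕ) [Fact p.Prime] [CharP F p] (n : ℕ), 2 ≤ n → p ≠ 2 →
    ∃ M : Matrix (Fin n) (Fin n) F, M.det = 1 ∧ M ^ p = 1 ∧
      (∀ z : F, M ≠ z • (1 : Matrix (Fin n) (Fin n) F)) ∧
      ∀ (A : Matrix (Fin n) (Fin n) F) (c : F), A.transpose = A → IsUnit A.det →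
        M.transpose * A * M = c • A → False

/-- ODDRANK: an isometry of odd prime order `r` of a symmetric invertible matrix has
`rank (x - 1)` even. -/
def StOddRank : Prop :=
  ∀ (F : Type u) [Field F] (n r : ℕ), r.Prime → r ≠ 2 → (2 : F) ≠ 0 →
    ∀ x A : Matrix (Fin n) (Fin n) F, A.transpose = A → IsUnit A.det → x ^ r = 1 →
    x.transpose * A * x = A → Even (x - 1).rank

/-- EVEN: if `r` divides the index and `ord_r(q)` is even, some element of order `r` is not
conjugate into the similarity group. -/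
def StEven : Prop :=
  ∀ (F : Type u) [Field F] [Fintype F], Odd (Fintype.card F) → ∀ (n : ℕ), 3 ≤ n →
    ∀ (Q : (Fin n → F) → F), Cfsg.Geo.IsNondegenerateQuadraticForm Q →
    ∀ (r : ℕ), r.Prime → r ≠ 2 → (r : F) ≠ 0 → Even (orderOf (Fintype.card F : ZMod r)) →
    r ∣ (Cfsg.Geo.quadSimilarityGroup Q).relIndex (Cfsg.Geo.specialLinear (Fin n) F) →
    ∃ M : Matrix (Fin n) (Fin n) F, M.det = 1 ∧ M ^ r = 1 ∧
      (∀ z : F, M ≠ z • (1 : Matrix (Fin n) (Fin n) F)) ∧
      ∀ x g : GL (Fin n) F, (x : Matrix (Fin n) (Fin n) F) = M →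
        g⁻¹ * x * g ∉ Cfsg.Geo.quadSimilarityGroup Q

end Cfsg.Agent.H16.Orth
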