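import Cfsg.Agent.H83.PCDefs

set_option autoImplicit false

/-!
# helper16: PC-SYL for helper83 (S3366), parallel take
-/

namespace Cfsg.Agent.H16.PC

open Cfsg.Agent.H83.PC

universe v

theorem fact648 : (648 : ℕ).factorization 3 = 4 := by
  have h : (648 : ℕ) = 3 ^ 4 * 8 := by norm_num
  rw [h, Nat.factorization_mul (by norm_num) (by norm_num),
    Nat.Prime.factorization_pow Nat.prime_three]
  simp [Nat.factorization_eq_zero_of_not_dvd (by norm_num : ¬ 3 ∣ 8)]

theorem fact25920 : (25920 : ℕ).factorization 3 = 4 := by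
  have h : (25920 : ℕ) = 3 ^ 4 * 320 := by norm_num
  rw [h, Nat.factorization_mul (by norm_num) (by norm_num),
    Nat.Prime.factorization_pow Nat.prime_three]
  simp [Nat.factorization_eq_zero_of_not_dvd (by norm_num : ¬ 3 ∣ 320)]

theorem syl : StSyl.{v} := by
  intro G _ _ c hc hC hG
  haveI : Fact (Nat.Prime 3) := ⟨Nat.prime_three⟩
  obtain ⟨C, hCd⟩ : ∃ C : Subgroup G, C = Subgroup.centralizer ({c} : Set G) := ⟨_, rfl⟩
  rw [← hCd] at hC
  have hcC : c ∈ C := by
    rw [hCd, Subgroup.mem_centralizer_iff]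
    intro h hh
    rw [Set.mem_singleton_iff] at hh
    rw [hh]
  have hpg : IsPGroup 3 ↥(Subgroup.zpowers (⟨c, hcC⟩ : ↥C)) := by
    apply IsPGroup.of_card (n := 1)
    rw [Nat.card_zpowers, pow_one, ← hc]
    exact Subgroup.orderOf_mk c hcC
  obtain ⟨Q, hQ⟩ := hpg.exists_le_sylow
  have hQcard : Nat.card ↥(Q : Subgroup ↥C) = 81 := by
    rw [Sylow.card_eq_multiplicity, hC, fact648]; norm_num
  obtain ⟨S0, hS0⟩ : ∃ S0 : Subgroup G, S0 = (Q : Subgroup ↥C).map C.subtype := ⟨_, rfl⟩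
  have hS0card : Nat.card ↥S0 = 3 ^ (Nat.card G).factorization 3 := by
    rw [hG, fact25920, hS0, Subgroup.card_map_of_injective C.subtype_injective, hQcard]; norm_num
  refine ⟨Sylow.ofCard S0 hS0card, ?_, ?_⟩
  · show c ∈ S0
    rw [hS0]
    exact ⟨⟨c, hcC⟩, hQ (Subgroup.mem_zpowers _), rfl⟩
  · rw [Subgroup.mem_centralizer_iff]
    intro s hs
    have hs' : s ∈ S0 := hs
    rw [hS0] at hs'
    obtain ⟨y, hy, rfl⟩ := hs'
    have h2 : (y : G) ∈ Subgroup.centralizer ({c} : Set G) := hCd ▸ y.2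
    rw [Subgroup.mem_centralizer_iff] at h2
    exact (h2 c (Set.mem_singleton c)).symm

end Cfsg.Agent.H16.PC
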