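import Mathlib
import Cfsg.Prelude.Def_Perm
import Cfsg.Prelude.Def_Characters
import Cfsg.Agent.H4.Chars
import Cfsg.Agent.H4.Integral

set_option autoImplicit false
set_option linter.unusedSectionVars false

namespace Cfsg.Agent.H16

open Cfsg Cfsg.Agent.H4 Module Representation
open scoped ComplexConjugate

universe u v w

section PermRep

variable {G : Type u} [Group G] {Ω : Type w} [Fintype Ω] [MulAction G Ω]

/-- The character of the permutation representation counts fixed points. -/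
theorem character_permRep (g : G) :
    (Cfsg.permRep ℂ G Ω).character g = (Nat.card (MulAction.fixedBy Ω g) : ℂ) := by
  classical
  rw [Representation.character, LinearMap.trace_eq_matrix_trace ℂ (Pi.basisFun ℂ Ω),
    LinearMap.toMatrix_eq_toMatrix', Matrix.trace]
  simp only [Matrix.diag_apply, LinearMap.toMatrix'_apply]
  have h : ∀ i : Ω, (Cfsg.permRep ℂ G Ω g (Pi.single i (1 : ℂ))) i =
      if g • i = i then 1 else 0 := by
    intro i
    change (Pi.single i (1 : ℂ) : Ω → ℂ) (g⁻¹ • i) = _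
    rw [Pi.single_apply]
    have : g⁻¹ • i = i ↔ g • i = i := by
      rw [inv_smul_eq_iff]; exact eq_comm
    simp only [this]
  simp_rw [h]
  rw [Finset.sum_boole, Nat.card_eq_fintype_card, Fintype.card_subtype]
  rfl

end PermRep

section General

variable {G : Type u} [Group G] [Fintype G]
variable {V : Type v} [AddCommGroup V] [Module ℂ V]
variable {W : Type w} [AddCommGroup W] [Module ℂ W]

theorem mem_linHom_invariants_iff_comm (ρ : Representation ℂ G V) (S : V →ₗ[ℂ] V) :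
    S ∈ (Representation.linHom ρ ρ).invariants ↔ ∀ g : G, S ∘ₗ ρ g = ρ g ∘ₗ S := by
  rw [Representation.mem_invariants]
  constructor
  · intro h g
    have h1 := h g
    rw [Representation.linHom_apply] at h1
    have h2 : (ρ g ∘ₗ S ∘ₗ ρ g⁻¹) ∘ₗ ρ g = ρ g ∘ₗ S := by
      ext v; simp
    rw [h1] at h2
    exact h2
  · intro h g
    rw [Representation.linHom_apply, h g⁻¹]
    ext v; simp

/-- Averaging a linear map into an equivariant one. -/
noncomputable def avgHom (ρ : Representation ℂ G V) (σ : Representation ℂ G W)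
    (f : V →ₗ[ℂ] W) : V →ₗ[ℂ] W :=
  (Nat.card G : ℂ)⁻¹ • ∑ g : G, σ g⁻¹ ∘ₗ f ∘ₗ ρ g

theorem avgHom_apply (ρ : Representation ℂ G V) (σ : Representation ℂ G W) (f : V →ₗ[ℂ] W)
    (v : V) : avgHom ρ σ f v = (Nat.card G : ℂ)⁻¹ • ∑ g : G, σ g⁻¹ (f (ρ g v)) := by
  simp [avgHom, LinearMap.sum_apply]

theorem avgHom_comm (ρ : Representation ℂ G V) (σ : Representation ℂ G W) (f : V →ₗ[ℂ] W)
    (h : G) : avgHom ρ σ f ∘ₗ ρ h = σ h ∘ₗ avgHom ρ σ f := by
  ext v
  simp only [LinearMap.comp_apply, avgHom_apply, map_smul, map_sum]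
  congr 1
  rw [← Equiv.sum_comp (Equiv.mulRight h⁻¹)]
  refine Finset.sum_congr rfl fun g _ => ?_
  simp

theorem avgHom_comp (ρ : Representation ℂ G V) (σ : Representation ℂ G W) (f : V →ₗ[ℂ] W)
    (φ : W →ₗ[ℂ] V) (hφ : ∀ g, φ ∘ₗ σ g = ρ g ∘ₗ φ) (hf : f ∘ₗ φ = LinearMap.id) :
    avgHom ρ σ f ∘ₗ φ = LinearMap.id := by
  ext w
  simp only [LinearMap.comp_apply, avgHom_apply, LinearMap.id_apply]
  have h1 : ∀ g : G, σ g⁻¹ (f (ρ g (φ w))) = w := by
    intro g
    have h2 : ρ g (φ w) = φ (σ g w) := by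
      have := congrArg (fun T : W →ₗ[ℂ] V => T w) (hφ g)
      simpa using this.symm
    have h3 : f (φ (σ g w)) = σ g w := by
      have := congrArg (fun T : W →ₗ[ℂ] W => T (σ g w)) hf
      simpa using this
    rw [h2, h3]
    simp
  simp only [h1, Finset.sum_const, Finset.card_univ]
  have hN : (Nat.card G : ℂ) ≠ 0 := by exact_mod_cast (Nat.card_pos (α := G)).ne'
  rw [← Nat.card_eq_fintype_card, ← Nat.cast_smul_eq_nsmul ℂ, smul_smul, inv_mul_cancel₀ hN,
    one_smul]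

end General

section MultFree

variable {G : Type u} [Group G] [Fintype G]
variable {V : Type v} [AddCommGroup V] [Module ℂ V] [FiniteDimensional ℂ V]

/-- An intertwining map out of an irreducible representation is zero or injective. -/
theorem intertwining_injective_of_irreducible {W : Type w} [AddCommGroup W] [Module ℂ W]
    (σ : Representation ℂ G W) [hσ : σ.IsIrreducible] (ρ : Representation ℂ G V)
    (φ : IntertwiningMap σ ρ) (hφ : φ ≠ 0) : Function.Injective φ.toLinearMap := by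
  rw [← LinearMap.ker_eq_bot]
  have hirr := (isIrreducible_iff σ).mp hσ
  rcases hirr.2 (LinearMap.ker φ.toLinearMap) (by
    intro g v hv
    rw [LinearMap.mem_ker] at hv ⊢
    have h1 := congrArg (fun T : W →ₗ[ℂ] V => T v) (φ.isIntertwining' g)
    simp only [LinearMap.comp_apply] at h1
    rw [h1, hv, map_zero]) with h | h
  · exact h
  · exfalso
    apply hφ
    apply IntertwiningMap.ext
    ext v
    have : v ∈ LinearMap.ker φ.toLinearMap := by rw [h]; trivial
    exact this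

/-- Commutativity of the equivariant endomorphism algebra implies multiplicity-freeness. -/
theorem multFree_of_commutative (ρ : Representation ℂ G V)
    (hcomm : ∀ S T : V →ₗ[ℂ] V, (∀ g, S ∘ₗ ρ g = ρ g ∘ₗ S) → (∀ g, T ∘ₗ ρ g = ρ g ∘ₗ T) →
      S ∘ₗ T = T ∘ₗ S) (χ : G → ℂ) (hχ : IsIrrCharacter G χ) :
    classInner ρ.character χ = 0 ∨ classInner ρ.character χ = 1 := by
  obtain ⟨n, σ, hσ, rfl⟩ := hχ
  have := hσ
  have hfr : classInner ρ.character σ.character = (finrank ℂ (IntertwiningMap σ ρ) : ℂ) :=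
    classInner_character σ ρ
  rw [hfr]
  by_contra hcon
  push Not at hcon
  have h2 : 1 < finrank ℂ (IntertwiningMap σ ρ) := by
    have h0 : finrank ℂ (IntertwiningMap σ ρ) ≠ 0 := fun h => hcon.1 (by rw [h]; simp)
    have h1 : finrank ℂ (IntertwiningMap σ ρ) ≠ 1 := fun h => hcon.2 (by rw [h]; simp)
    omega
  obtain ⟨φ₁, hφ₁⟩ : ∃ φ₁ : IntertwiningMap σ ρ, φ₁ ≠ 0 :=
    Module.finrank_pos_iff_exists_ne_zero.mp (lt_trans Nat.zero_lt_one h2)
  obtain ⟨φ₂, hind⟩ := exists_linearIndependent_pair_of_one_lt_finrank h2 hφ₁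
  have hinj := intertwining_injective_of_irreducible σ ρ φ₁ hφ₁
  obtain ⟨ψ₀, hψ₀⟩ := LinearMap.exists_leftInverse_of_injective φ₁.toLinearMap
    (LinearMap.ker_eq_bot.mpr hinj)
  obtain ⟨ψ, hψdef⟩ : ∃ ψ, ψ = avgHom ρ σ ψ₀ := ⟨_, rfl⟩
  have hψc : ∀ h, ψ ∘ₗ ρ h = σ h ∘ₗ ψ := by rw [hψdef]; exact avgHom_comm ρ σ ψ₀
  have hψφ : ψ ∘ₗ φ₁.toLinearMap = LinearMap.id := by
    rw [hψdef]; exact avgHom_comp ρ σ ψ₀ φ₁.toLinearMap (fun g => φ₁.isIntertwining' g) hψ₀
  have hS : ∀ g, (φ₁.toLinearMap ∘ₗ ψ) ∘ₗ ρ g = ρ g ∘ₗ (φ₁.toLinearMap ∘ₗ ψ) := by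
    intro g
    rw [LinearMap.comp_assoc, hψc g, ← LinearMap.comp_assoc, φ₁.isIntertwining' g,
      LinearMap.comp_assoc]
  have hT : ∀ g, (φ₂.toLinearMap ∘ₗ ψ) ∘ₗ ρ g = ρ g ∘ₗ (φ₂.toLinearMap ∘ₗ ψ) := by
    intro g
    rw [LinearMap.comp_assoc, hψc g, ← LinearMap.comp_assoc, φ₂.isIntertwining' g,
      LinearMap.comp_assoc]
  have hST := hcomm _ _ hS hT
  obtain ⟨c, hc⟩ := exists_smul_id_of_comm σ (ψ ∘ₗ φ₂.toLinearMap) (fun g => by
    rw [LinearMap.comp_assoc, φ₂.isIntertwining' g, ← LinearMap.comp_assoc, hψc g,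
      LinearMap.comp_assoc])
  have h3 : c • φ₁.toLinearMap = φ₂.toLinearMap := by
    have hA : ((φ₁.toLinearMap ∘ₗ ψ) ∘ₗ (φ₂.toLinearMap ∘ₗ ψ)) ∘ₗ φ₁.toLinearMap =
        c • φ₁.toLinearMap := by
      have : ((φ₁.toLinearMap ∘ₗ ψ) ∘ₗ (φ₂.toLinearMap ∘ₗ ψ)) ∘ₗ φ₁.toLinearMap =
          φ₁.toLinearMap ∘ₗ (ψ ∘ₗ φ₂.toLinearMap) ∘ₗ (ψ ∘ₗ φ₁.toLinearMap) := by
        simp only [LinearMap.comp_assoc]
      rw [this, hψφ, hc]
      ext v; simp
    have hB : ((φ₂.toLinearMap ∘ₗ ψ) ∘ₗ (φ₁.toLinearMap ∘ₗ ψ)) ∘ₗ φ₁.toLinearMap =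
        φ₂.toLinearMap := by
      have : ((φ₂.toLinearMap ∘ₗ ψ) ∘ₗ (φ₁.toLinearMap ∘ₗ ψ)) ∘ₗ φ₁.toLinearMap =
          φ₂.toLinearMap ∘ₗ (ψ ∘ₗ φ₁.toLinearMap) ∘ₗ (ψ ∘ₗ φ₁.toLinearMap) := by
        simp only [LinearMap.comp_assoc]
      rw [this, hψφ]
      ext v; simp
    calc c • φ₁.toLinearMap
        = ((φ₁.toLinearMap ∘ₗ ψ) ∘ₗ (φ₂.toLinearMap ∘ₗ ψ)) ∘ₗ φ₁.toLinearMap := hA.symm
      _ = ((φ₂.toLinearMap ∘ₗ ψ) ∘ₗ (φ₁.toLinearMap ∘ₗ ψ)) ∘ₗ φ₁.toLinearMap := by rw [hST]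
      _ = φ₂.toLinearMap := hB
  have h4 := (LinearIndependent.pair_iff.mp hind) c (-1) (by
    apply IntertwiningMap.ext
    have : (c • φ₁ + (-1 : ℂ) • φ₂).toLinearMap = c • φ₁.toLinearMap + (-1 : ℂ) • φ₂.toLinearMap :=
      rfl
    rw [this, h3]
    ext v; simp)
  exact absurd h4.2 (by norm_num)

/-- An intertwining map moves `wSum f` across. -/
theorem wSum_comp_intertwining {W : Type w} [AddCommGroup W] [Module ℂ W]
    (f : G → ℂ) (σ : Representation ℂ G W) (ρ : Representation ℂ G V) (φ : W →ₗ[ℂ] V)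
    (hφ : ∀ g, φ ∘ₗ σ g = ρ g ∘ₗ φ) : wSum f ρ ∘ₗ φ = φ ∘ₗ wSum f σ := by
  ext w
  simp only [wSum, LinearMap.comp_apply, LinearMap.sum_apply, LinearMap.smul_apply, map_sum,
    map_smul]
  refine Finset.sum_congr rfl fun g _ => ?_
  have := congrArg (fun T : W →ₗ[ℂ] V => T w) (hφ g)
  simp only [LinearMap.comp_apply] at this
  rw [this]

theorem finiteDimensional_intertwining {W : Type w} [AddCommGroup W] [Module ℂ W]
    [FiniteDimensional ℂ W] (σ : Representation ℂ G W) (ρ : Representation ℂ G V) :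
    FiniteDimensional ℂ (IntertwiningMap σ ρ) :=
  Module.Finite.equiv (Representation.invariantsEquivIntertwiningMap σ ρ)

/-- For a multiplicity-free representation, the equivariant endomorphisms are spanned by the
operators `∑ g, conj (ψ g) • ρ g` for the irreducible constituents `ψ`: induction principle. -/
theorem multFree_induction (ρ : Representation ℂ G V)
    (hmf : ∀ χ : G → ℂ, IsIrrCharacter G χ →
      classInner ρ.character χ = 0 ∨ classInner ρ.character χ = 1)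
    (P : (V →ₗ[ℂ] V) → Prop)
    (hmem : ∀ ψ : IrrCharacter G, classInner ρ.character ψ.1 = 1 →
      P (wSum (fun g => conj (ψ.1 g)) ρ))
    (h0 : P 0) (hadd : ∀ x y, P x → P y → P (x + y)) (hsmul : ∀ (c : ℂ) x, P x → P (c • x))
    (S : V →ₗ[ℂ] V) (hS : ∀ g, S ∘ₗ ρ g = ρ g ∘ₗ S) : P S := by
  classical
  letI := fintypeIrr G
  have hN : (Nat.card G : ℂ) ≠ 0 := by exact_mod_cast (Nat.card_pos (α := G)).ne'
  obtain ⟨m, hm⟩ := character_decomp ρ
  have hinner : ∀ ψ : IrrCharacter G, classInner ρ.character ψ.1 = m ψ := by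
    intro ψ; rw [hm, classInner_finsum_irr]
  have hm01 : ∀ ψ, m ψ = 0 ∨ m ψ = 1 := by
    intro ψ
    rcases hmf ψ.1 ψ.2 with h | h
    · left; rw [hinner] at h; exact_mod_cast h
    · right; rw [hinner] at h; exact_mod_cast h
  have hdim : finrank ℂ (IntertwiningMap ρ ρ) =
      Fintype.card {ψ : IrrCharacter G // m ψ = 1} := by
    have h1 := classInner_character ρ ρ
    have h2 : classInner ρ.character ρ.character =
        ∑ ψ : IrrCharacter G, (m ψ : ℂ) * (m ψ : ℂ) := by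
      conv_lhs => rw [hm, finsum_irr_eq_sum, classInner_sum_right]
      refine Finset.sum_congr rfl fun ψ _ => ?_
      rw [classInner_smul_right, Complex.conj_natCast, ← finsum_irr_eq_sum, ← hm, hinner]
    rw [h1] at h2
    have h3 : ∑ ψ : IrrCharacter G, (m ψ * m ψ) =
        Fintype.card {ψ : IrrCharacter G // m ψ = 1} := by
      rw [Fintype.card_subtype, Finset.card_filter]
      refine Finset.sum_congr rfl fun ψ _ => ?_
      rcases hm01 ψ with h | h <;> simp [h]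
    rw [← h3]
    exact_mod_cast h2
  have hcf : ∀ ψ : IrrCharacter G, IsClassFunction G (fun g => conj (ψ.1 g)) := by
    intro ψ g h
    simp only
    rw [irr_isClassFunction ψ g h]
  obtain ⟨e, he⟩ : ∃ e : {ψ : IrrCharacter G // m ψ = 1} → IntertwiningMap ρ ρ,
      ∀ ψ, (e ψ).toLinearMap = wSum (fun g => conj (ψ.1.1 g)) ρ :=
    ⟨fun ψ => ⟨wSum (fun g => conj (ψ.1.1 g)) ρ, wSum_comm (hcf ψ.1) ρ⟩, fun ψ => rfl⟩
  have hli : LinearIndependent ℂ e := by
    rw [linearIndependent_iff']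
    intro s c hsum ψ₀ hψ₀
    obtain ⟨n, σ, hσ, hσc⟩ := ψ₀.1.2
    have := hσ
    have hfr : finrank ℂ (IntertwiningMap σ ρ) = 1 := by
      have h1 := classInner_character σ ρ
      rw [hσc, hinner, ψ₀.2] at h1
      exact_mod_cast h1.symm
    have hfd := finiteDimensional_intertwining σ ρ
    obtain ⟨φ, hφ⟩ : ∃ φ : IntertwiningMap σ ρ, φ ≠ 0 :=
      Module.finrank_pos_iff_exists_ne_zero.mp (by rw [hfr]; exact Nat.one_pos)
    have hd : (finrank ℂ (Fin n → ℂ) : ℂ) ≠ 0 := by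
      exact_mod_cast (finrank_pos_of_irreducible σ).ne'
    have key : ∀ ψ : {ψ : IrrCharacter G // m ψ = 1},
        (e ψ).toLinearMap ∘ₗ φ.toLinearMap =
        (if ψ = ψ₀ then (Nat.card G : ℂ) / (finrank ℂ (Fin n → ℂ) : ℂ) else 0) •
          φ.toLinearMap := by
      intro ψ
      rw [he, wSum_comp_intertwining _ σ ρ φ.toLinearMap (fun g => φ.isIntertwining' g),
        wSum_eq_smul_id (hcf ψ.1) σ]
      have hs : ∑ g : G, conj (ψ.1.1 g) * σ.character g =
          (Nat.card G : ℂ) * classInner ψ₀.1.1 ψ.1.1 := by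
        rw [hσc]; unfold classInner
        rw [← mul_assoc, mul_inv_cancel₀ hN, one_mul]
        exact Finset.sum_congr rfl fun g _ => mul_comm _ _
      rw [hs, irr_inner]
      by_cases h : ψ = ψ₀
      · subst h
        ext v; simp
      · have h' : ¬ (ψ₀.1 = ψ.1) := fun h' => h (Subtype.ext h'.symm)
        ext v; simp [h, h']
    have h0 : (∑ i ∈ s, c i • e i).toLinearMap ∘ₗ φ.toLinearMap = 0 := by
      rw [hsum]; ext v; simp
    have h1 : (∑ i ∈ s, c i • e i).toLinearMap ∘ₗ φ.toLinearMap =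
        ∑ i ∈ s, c i • ((e i).toLinearMap ∘ₗ φ.toLinearMap) := by
      rw [IntertwiningMap.toLinearMap_sum]
      ext v
      simp [LinearMap.sum_apply]
    rw [h1] at h0
    simp only [key] at h0
    rw [Finset.sum_eq_single ψ₀] at h0
    · rw [if_pos rfl, smul_smul] at h0
      have hφ' : φ.toLinearMap ≠ 0 := fun h => hφ (IntertwiningMap.ext h)
      rcases smul_eq_zero.mp h0 with h | h
      · rcases mul_eq_zero.mp h with h | h
        · exact h
        · exact absurd h (div_ne_zero hN hd)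
      · exact absurd h hφ'
    · intro ψ _ hψ
      rw [if_neg hψ, zero_smul, smul_zero]
    · intro h; exact absurd hψ₀ h
  have hfd := finiteDimensional_intertwining ρ ρ
  have hspan : Submodule.span ℂ (Set.range e) = ⊤ :=
    hli.span_eq_top_of_card_eq_finrank' hdim.symm
  have hS' : (⟨S, hS⟩ : IntertwiningMap ρ ρ) ∈ Submodule.span ℂ (Set.range e) := by
    rw [hspan]; trivial
  have hall : ∀ x ∈ Submodule.span ℂ (Set.range e), P x.toLinearMap := by
    intro x hx
    induction hx using Submodule.span_induction with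
    | mem x hx =>
      obtain ⟨ψ, rfl⟩ := hx
      rw [he]
      refine hmem ψ.1 ?_
      rw [hinner, ψ.2, Nat.cast_one]
    | zero => exact h0
    | add x y _ _ hx hy =>
      rw [IntertwiningMap.add_toLinearMap]; exact hadd _ _ hx hy
    | smul a x _ hx =>
      rw [IntertwiningMap.toLinearMap_smul]; exact hsmul _ _ hx
  exact hall _ hS'

/-- Multiplicity-freeness implies commutativity of the equivariant endomorphism algebra. -/
theorem commutative_of_multFree (ρ : Representation ℂ G V)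
    (hmf : ∀ χ : G → ℂ, IsIrrCharacter G χ →
      classInner ρ.character χ = 0 ∨ classInner ρ.character χ = 1)
    (S T : V →ₗ[ℂ] V) (hS : ∀ g, S ∘ₗ ρ g = ρ g ∘ₗ S) (hT : ∀ g, T ∘ₗ ρ g = ρ g ∘ₗ T) :
    S ∘ₗ T = T ∘ₗ S := by
  refine multFree_induction ρ hmf (fun x => x ∘ₗ T = T ∘ₗ x) ?_ ?_ ?_ ?_ S hS
  · intro ψ _
    exact wSum_comp_intertwining _ ρ ρ T hT
  · simp
  · intro x y hx hy
    rw [LinearMap.add_comp, LinearMap.comp_add, hx, hy]
  · intro c x hx
    rw [LinearMap.smul_comp, LinearMap.comp_smul, hx]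

end MultFree

end Cfsg.Agent.H16
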