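import Cfsg.Agent.H7.PsDefs

set_option autoImplicit false

/-!
# helper16: PS-F3 for helper7 (S3664)

No `T` with `T * T = -1` commutes with an element `B` of order 13 of `Sp₆(3)`.

Route: `Φ = 1 + X + … + X¹² ≡ P * Q (mod 3)` with `Q` the reverse of `P`, `P`, `Q` coprime mod 3.
`Φ(B) = 0` (PS-F1), so `𝔽₃⁶ = ker P(B) ⊕ ker Q(B)`; `B ∈ Sp` gives `rank P(B) = rank Q(B)`, so
`ker P(B)` has dimension 3; it is `T`-invariant, and `T² = -1` on a 3-dimensional space over `𝔽₃`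
is impossible (determinant).
-/

namespace Cfsg.Agent.H16.Ps

open Cfsg Cfsg.Agent.H7.Ps Matrix Polynomial Module

section polys

variable {R : Type*} [Ring R]

/-- `P` -/
def pP (x : R) : R := 1 - x + x ^ 2 - x ^ 3 - x ^ 4 - x ^ 5 + x ^ 6
/-- `Q`, the reverse of `P` -/
def pQ (x : R) : R := 1 - x - x ^ 2 - x ^ 3 + x ^ 4 - x ^ 5 + x ^ 6
/-- Bezout coefficient -/
def pA (x : R) : R := -1 - x - x ^ 2 - x ^ 3 + x ^ 4 + x ^ 5
/-- Bezout coefficient -/
def pB (x : R) : R := -1 - x - x ^ 2 - x ^ 4 - x ^ 5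
/-- `(a P + b Q - 1) / 3` -/
def pH1 (x : R) : R := -1 + x ^ 3 + x ^ 4 + x ^ 5 + x ^ 6 + x ^ 7 - x ^ 8 - x ^ 9
/-- `(P Q - Φ) / 3` -/
def pH2 (x : R) : R := -x - x ^ 3 - x ^ 5 + (x ^ 6 + x ^ 6) - x ^ 7 - x ^ 9 - x ^ 11
/-- `(X⁶ P(X¹²) - Q) / (X¹³ - 1)` -/
def pH3 (x : R) : R := 1 - x - x ^ 2 - x ^ 3 + x ^ 4 - x ^ 5 + x ^ 13 - x ^ 14 - x ^ 15 - x ^ 16
  + x ^ 17 + x ^ 26 - x ^ 27 - x ^ 28 - x ^ 29 + x ^ 39 - x ^ 40 - x ^ 41 + x ^ 52 - x ^ 53 + x ^ 65
/-- `Φ₁₃` -/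
def pPhi (x : R) : R := 1 + x + x ^ 2 + x ^ 3 + x ^ 4 + x ^ 5 + x ^ 6 + x ^ 7 + x ^ 8 + x ^ 9
  + x ^ 10 + x ^ 11 + x ^ 12

theorem ev_pP (x : R) (q : ℤ[X]) : aeval x (pP q) = pP (aeval x q) := by
  simp only [pP, map_add, map_sub, map_pow, map_one]

theorem ev_pQ (x : R) (q : ℤ[X]) : aeval x (pQ q) = pQ (aeval x q) := by
  simp only [pQ, map_add, map_sub, map_pow, map_one]

theorem ev_pA (x : R) (q : ℤ[X]) : aeval x (pA q) = pA (aeval x q) := by
  simp only [pA, map_add, map_sub, map_neg, map_pow, map_one]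

theorem ev_pB (x : R) (q : ℤ[X]) : aeval x (pB q) = pB (aeval x q) := by
  simp only [pB, map_sub, map_neg, map_pow, map_one]

theorem ev_pH1 (x : R) (q : ℤ[X]) : aeval x (pH1 q) = pH1 (aeval x q) := by
  simp only [pH1, map_add, map_sub, map_neg, map_pow, map_one]

theorem ev_pH2 (x : R) (q : ℤ[X]) : aeval x (pH2 q) = pH2 (aeval x q) := by
  simp only [pH2, map_add, map_sub, map_neg, map_pow]

theorem ev_pH3 (x : R) (q : ℤ[X]) : aeval x (pH3 q) = pH3 (aeval x q) := by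
  simp only [pH3, map_add, map_sub, map_pow, map_one]

theorem ev_pPhi (x : R) (q : ℤ[X]) : aeval x (pPhi q) = pPhi (aeval x q) := by
  simp only [pPhi, map_add, map_pow, map_one]

theorem id1 : pP (X : ℤ[X]) * pQ X = pPhi X + (pH2 X + pH2 X + pH2 X) := by
  unfold pP pQ pPhi pH2; ring

theorem id2 : pA (X : ℤ[X]) * pP X + pB X * pQ X = 1 + (pH1 X + pH1 X + pH1 X) := by
  unfold pA pP pB pQ pH1; ring

theorem id3 : (X : ℤ[X]) ^ 6 * pP (X ^ 12) = pQ X + (X ^ 13 - 1) * pH3 X := by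
  unfold pP pQ pH3; ring

theorem id4 : ((X : ℤ[X]) - 1) * pPhi X = X ^ 13 - 1 := by
  unfold pPhi; ring

theorem m_id1 (x : R) : pP x * pQ x = pPhi x + (pH2 x + pH2 x + pH2 x) := by
  have h := congrArg (aeval x) id1
  rw [map_mul, map_add, map_add, map_add, ev_pP, ev_pQ, ev_pPhi, ev_pH2, aeval_X] at h
  exact h

theorem m_id2 (x : R) : pA x * pP x + pB x * pQ x = 1 + (pH1 x + pH1 x + pH1 x) := by
  have h := congrArg (aeval x) id2
  rw [map_add, map_mul, map_mul, map_add, map_add, map_add, map_one, ev_pA, ev_pP, ev_pB, ev_pQ,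
    ev_pH1, aeval_X] at h
  exact h

theorem m_id3 (x : R) : x ^ 6 * pP (x ^ 12) = pQ x + (x ^ 13 - 1) * pH3 x := by
  have h := congrArg (aeval x) id3
  rw [map_mul, map_add, map_mul, map_sub, map_pow, map_pow, map_one, ev_pP, ev_pQ, ev_pH3,
    map_pow, aeval_X] at h
  exact h

theorem m_id4 (x : R) : (x - 1) * pPhi x = x ^ 13 - 1 := by
  have h := congrArg (aeval x) id4
  rw [map_mul, map_sub, map_sub, map_pow, map_one, ev_pPhi, aeval_X] at h
  exact h

theorem semi_pP (j x y : R) (h : j * x = y * j) : j * pP x = pP y * j := by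
  have hk : ∀ k : ℕ, j * x ^ k = y ^ k * j := fun k => (SemiconjBy.pow_right h k).eq
  simp only [pP, mul_add, mul_sub, add_mul, sub_mul, mul_one, one_mul, hk, h]

end polys

theorem three_zero : ∀ e : ZMod 3, e + e + e = 0 := by decide

theorem no_sqrt : ∀ e : ZMod 3, e * e ≠ -1 := by decide

theorem tri (A : Mat) : A + A + A = 0 := by
  ext i j
  simp only [Matrix.add_apply, Matrix.zero_apply]
  exact three_zero _

theorem tr_pP (A : Mat) : (pP A)ᵀ = pP Aᵀ := by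
  simp only [pP, Matrix.transpose_add, Matrix.transpose_sub, Matrix.transpose_pow,
    Matrix.transpose_one]

theorem card6 : Fintype.card (Fin 3 ⊕ Fin 3) = 6 := by decide

/-- PS-F3. -/
theorem f3 (h1 : StF1) : StF3 := by
  intro B T hB _ hB13 hB1 hTB hTT
  obtain ⟨M, hM⟩ : ∃ M : Mat, M = pP B := ⟨_, rfl⟩
  obtain ⟨N, hN⟩ : ∃ N : Mat, N = pQ B := ⟨_, rfl⟩
  -- (1) `Φ(B) = 0`
  have hPhi : pPhi B = 0 := by
    have h4 := m_id4 B
    rw [hB13, sub_self] at h4
    have hv : ∀ v : Fin 3 ⊕ Fin 3 → ZMod 3, (pPhi B) *ᵥ v = 0 := by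
      intro v
      apply h1 B hB hB13 hB1
      have h5 : (B - 1) *ᵥ (pPhi B *ᵥ v) = 0 := by
        rw [Matrix.mulVec_mulVec, h4, Matrix.zero_mulVec]
      rw [Matrix.sub_mulVec, Matrix.one_mulVec, sub_eq_zero] at h5
      exact h5
    ext i j
    have h6 := congrFun (hv (Pi.single j 1)) i
    rw [Matrix.mulVec_single_one] at h6
    exact h6
  -- (2) `M * N = 0` and the Bezout relation
  have hMN : M * N = 0 := by
    rw [hM, hN, m_id1 B, hPhi, tri, add_zero]
  have hab : pA B * M + pB B * N = 1 := by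
    rw [hM, hN, m_id2 B, tri, add_zero]
  -- (3) `rank M = rank N`
  have hJ : J (Fin 3) (ZMod 3) * Bᵀ = B ^ 12 * J (Fin 3) (ZMod 3) := by
    have h := SymplecticGroup.mem_iff.1 hB
    calc J (Fin 3) (ZMod 3) * Bᵀ = B ^ 13 * J (Fin 3) (ZMod 3) * Bᵀ := by rw [hB13, one_mul]
      _ = B ^ 12 * (B * J (Fin 3) (ZMod 3) * Bᵀ) := by
        rw [pow_succ]; simp only [mul_assoc]
      _ = B ^ 12 * J (Fin 3) (ZMod 3) := by rw [h]
  have hJunit : IsUnit (J (Fin 3) (ZMod 3)).det := by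
    apply Matrix.isUnit_det_of_right_inverse (B := -J (Fin 3) (ZMod 3))
    rw [mul_neg, J_squared, neg_neg]
  have hB6unit : IsUnit (B ^ 6).det := by
    apply Matrix.isUnit_det_of_right_inverse (B := B ^ 7)
    rw [← pow_add]
    exact hB13
  have hrank : M.rank = N.rank := by
    have e1 : J (Fin 3) (ZMod 3) * Mᵀ = pP (B ^ 12) * J (Fin 3) (ZMod 3) := by
      rw [hM, tr_pP]
      exact semi_pP _ _ _ hJ
    have e2 : B ^ 6 * pP (B ^ 12) = N := by
      rw [hN, m_id3 B, hB13, sub_self, zero_mul, add_zero]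
    calc M.rank = Mᵀ.rank := (Matrix.rank_transpose M).symm
      _ = (J (Fin 3) (ZMod 3) * Mᵀ).rank :=
        (Matrix.rank_mul_eq_right_of_isUnit_det _ _ hJunit).symm
      _ = (pP (B ^ 12) * J (Fin 3) (ZMod 3)).rank := by rw [e1]
      _ = (pP (B ^ 12)).rank := Matrix.rank_mul_eq_left_of_isUnit_det _ _ hJunit
      _ = (B ^ 6 * pP (B ^ 12)).rank :=
        (Matrix.rank_mul_eq_right_of_isUnit_det _ _ hB6unit).symm
      _ = N.rank := by rw [e2]
  -- (4) the kernels have dimension 3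
  obtain ⟨W, hW⟩ : ∃ W : Submodule (ZMod 3) (Fin 3 ⊕ Fin 3 → ZMod 3),
      W = LinearMap.ker M.mulVecLin := ⟨_, rfl⟩
  obtain ⟨W', hW'⟩ : ∃ W' : Submodule (ZMod 3) (Fin 3 ⊕ Fin 3 → ZMod 3),
      W' = LinearMap.ker N.mulVecLin := ⟨_, rfl⟩
  have hrnM : M.rank + finrank (ZMod 3) W = 6 := by
    have h := LinearMap.finrank_range_add_finrank_ker M.mulVecLin
    rw [Module.finrank_fintype_fun_eq_card, card6] at h
    rw [hW]
    exact h
  have hrnN : N.rank + finrank (ZMod 3) W' = 6 := by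
    have h := LinearMap.finrank_range_add_finrank_ker N.mulVecLin
    rw [Module.finrank_fintype_fun_eq_card, card6] at h
    rw [hW']
    exact h
  have hdisj : W ⊓ W' = ⊥ := by
    rw [eq_bot_iff]
    intro v hv
    obtain ⟨hv1, hv2⟩ := Submodule.mem_inf.1 hv
    rw [hW, LinearMap.mem_ker, Matrix.mulVecLin_apply] at hv1
    rw [hW', LinearMap.mem_ker, Matrix.mulVecLin_apply] at hv2
    rw [Submodule.mem_bot]
    have h7 : (pA B * M + pB B * N) *ᵥ v = v := by rw [hab, Matrix.one_mulVec]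
    rw [Matrix.add_mulVec, ← Matrix.mulVec_mulVec, ← Matrix.mulVec_mulVec, hv1, hv2,
      Matrix.mulVec_zero, Matrix.mulVec_zero, add_zero] at h7
    exact h7.symm
  have hle : N.rank ≤ finrank (ZMod 3) W := by
    have h8 : LinearMap.range N.mulVecLin ≤ W := by
      rintro _ ⟨v, rfl⟩
      rw [hW, LinearMap.mem_ker, Matrix.mulVecLin_apply, Matrix.mulVecLin_apply,
        Matrix.mulVec_mulVec, hMN, Matrix.zero_mulVec]
    exact Submodule.finrank_mono h8
  have hsum : finrank (ZMod 3) W + finrank (ZMod 3) W' ≤ 6 := by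
    have h := Submodule.finrank_sup_add_finrank_inf_eq W W'
    rw [hdisj, finrank_bot, add_zero] at h
    have h2 := Submodule.finrank_le (W ⊔ W')
    rw [Module.finrank_fintype_fun_eq_card, card6] at h2
    omega
  have hW3 : finrank (ZMod 3) W = 3 := by omega
  -- (5) `T` acts on `W` with square `-1`
  have hTM : T * M = M * T := by
    rw [hM]
    exact semi_pP T B B hTB
  have hinv : ∀ w ∈ W, T.mulVecLin w ∈ W := by
    intro w hw
    rw [hW, LinearMap.mem_ker, Matrix.mulVecLin_apply] at hw ⊢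
    rw [Matrix.mulVecLin_apply, Matrix.mulVec_mulVec, ← hTM, ← Matrix.mulVec_mulVec, hw,
      Matrix.mulVec_zero]
  obtain ⟨f, hf⟩ : ∃ f : W →ₗ[ZMod 3] W, f = T.mulVecLin.restrict hinv := ⟨_, rfl⟩
  have hff : f * f = (-1 : ZMod 3) • (1 : Module.End (ZMod 3) W) := by
    apply LinearMap.ext
    intro w
    apply Subtype.ext
    rw [hf]
    simp only [Module.End.mul_apply, LinearMap.coe_restrict_apply, LinearMap.smul_apply,
      Module.End.one_apply, Submodule.coe_smul, Matrix.mulVecLin_apply]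
    rw [Matrix.mulVec_mulVec, hTT, Matrix.neg_mulVec, Matrix.one_mulVec, neg_smul, one_smul]
  have hdet := congrArg LinearMap.det hff
  rw [map_mul, LinearMap.det_smul, hW3, map_one] at hdet
  have hfin : LinearMap.det f * LinearMap.det f = -1 := by
    rw [hdet]
    decide
  exact no_sqrt _ hfin

end Cfsg.Agent.H16.Ps
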