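import Mathlib
import Cfsg.Agent.H7.RUDefs

/-!
# S2358 (helper7 project), piece RU-ARC: arithmetic for the torus of order `q - r + 1` (helper16)

With `3^m = b + 1`: `q = 3 b² + 6 b + 3`, `r = 3 b + 3`, `k = q - r + 1 = 3 b² + 3 b + 1`,
`k' = q + r + 1 = 3 b² + 9 b + 7`, `q³ + 1 = (q + 1) k k'`; coprimality by explicit Bezout
identities.
-/

set_option autoImplicit false

namespace Cfsg.Agent.H16.RU

theorem coprime_of_lin {k n x y : ℕ} (h : k * x = n * y + 1) : Nat.Coprime k n := by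
  have hd : Nat.gcd k n ∣ 1 := by
    have h1 : Nat.gcd k n ∣ k * x := Dvd.dvd.mul_right (Nat.gcd_dvd_left k n) x
    have h2 : Nat.gcd k n ∣ n * y := Dvd.dvd.mul_right (Nat.gcd_dvd_right k n) y
    rw [h] at h1
    exact (Nat.dvd_add_right h2).mp h1
  exact Nat.dvd_one.mp hd

theorem coprime_of_lin2 {k n x y : ℕ} (hk : ¬ 2 ∣ k) (h : k * x = n * y + 2) :
    Nat.Coprime k n := by
  have hd : Nat.gcd k n ∣ 2 := by
    have h1 : Nat.gcd k n ∣ k * x := Dvd.dvd.mul_right (Nat.gcd_dvd_left k n) x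
    have h2 : Nat.gcd k n ∣ n * y := Dvd.dvd.mul_right (Nat.gcd_dvd_right k n) y
    rw [h] at h1
    exact (Nat.dvd_add_right h2).mp h1
  rcases (Nat.dvd_prime Nat.prime_two).mp hd with h1 | h2
  · exact h1
  · exfalso
    apply hk
    rw [← h2]
    exact Nat.gcd_dvd_left k n

/-- The common parametrisation: `3^m = b + 1`. -/
theorem param (m : ℕ) : ∃ b t : ℕ, 3 ^ (2 * m + 1) = 3 * b ^ 2 + 6 * b + 3 ∧
    3 ^ (m + 1) = 3 * b + 3 ∧ b ^ 2 + b = 2 * t := by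
  obtain ⟨b, hb⟩ : ∃ b, 3 ^ m = b + 1 :=
    ⟨3 ^ m - 1, by have := Nat.one_le_pow m 3 (by norm_num); omega⟩
  obtain ⟨t, ht⟩ := Nat.even_mul_succ_self b
  refine ⟨b, t, ?_, ?_, ?_⟩
  · rw [pow_succ, pow_mul', hb]; ring
  · rw [pow_succ, hb]; ring
  · rw [two_mul, ← ht]; ring

/-- RU-ARC. -/
theorem arC : Cfsg.Agent.H7.RU.StArC := by
  intro m _
  obtain ⟨b, t, hq, hr, ht⟩ := param m
  rw [hq, hr]
  have hk : 3 * b ^ 2 + 6 * b + 3 - (3 * b + 3) + 1 = 3 * b ^ 2 + 3 * b + 1 := by omega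
  have hq1 : 3 * b ^ 2 + 6 * b + 3 - 1 = 3 * b ^ 2 + 6 * b + 2 := by omega
  rw [hk, hq1]
  have hkpos : 0 < 3 * b ^ 2 + 3 * b + 1 := by omega
  have hodd : ¬ 2 ∣ 3 * b ^ 2 + 3 * b + 1 := by omega
  have c3 : Nat.Coprime (3 * b ^ 2 + 3 * b + 1) 3 :=
    coprime_of_lin (x := 1) (y := b ^ 2 + b) (by ring)
  have c2 : Nat.Coprime (3 * b ^ 2 + 3 * b + 1) 2 :=
    ((Nat.Prime.coprime_iff_not_dvd Nat.prime_two).mpr hodd).symm
  have cq : Nat.Coprime (3 * b ^ 2 + 3 * b + 1) (3 * b ^ 2 + 6 * b + 3) := by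
    have e : 3 * b ^ 2 + 6 * b + 3 = 3 * (b + 1) ^ 2 := by ring
    rw [e]
    have c9 : Nat.Coprime (3 * b ^ 2 + 3 * b + 1) (b + 1) :=
      coprime_of_lin (x := 1) (y := 3 * b) (by ring)
    exact Nat.Coprime.mul_right c3 (Nat.Coprime.pow_right 2 c9)
  have cqm : Nat.Coprime (3 * b ^ 2 + 3 * b + 1) (3 * b ^ 2 + 6 * b + 2) :=
    coprime_of_lin (x := 3 * b + 5) (y := 3 * b + 2) (by ring)
  have cqp : Nat.Coprime (3 * b ^ 2 + 3 * b + 1) (3 * b ^ 2 + 6 * b + 3 + 1) :=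
    coprime_of_lin (x := b + 1) (y := b) (by ring)
  have ck' : Nat.Coprime (3 * b ^ 2 + 3 * b + 1) (3 * b ^ 2 + 9 * b + 7) :=
    coprime_of_lin2 hodd (x := b + 2) (y := b) (by ring)
  constructor
  · have e : (3 * b ^ 2 + 6 * b + 3) ^ 3 * (3 * b ^ 2 + 6 * b + 2) *
        ((3 * b ^ 2 + 6 * b + 3) ^ 3 + 1) = (3 * b ^ 2 + 3 * b + 1) *
        ((3 * b ^ 2 + 6 * b + 3) ^ 3 * (3 * b ^ 2 + 6 * b + 2) *
          ((3 * b ^ 2 + 6 * b + 3 + 1) * (3 * b ^ 2 + 9 * b + 7))) := by ring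
    rw [e, Nat.mul_div_cancel_left _ hkpos]
    exact Nat.Coprime.mul_right (Nat.Coprime.mul_right (Nat.Coprime.pow_right 3 cq) cqm)
      (Nat.Coprime.mul_right cqp ck')
  · rw [Nat.mul_div_cancel _ hkpos]
    have e6 : (6 : ℕ) = 2 * 3 := by norm_num
    rw [e6]
    exact Nat.Coprime.mul_right c2 c3

end Cfsg.Agent.H16.RU
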