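import Mathlib
import Cfsg.Agent.H7.RUDefs
import Cfsg.Agent.H16.RUArC

/-!
# S2358 (helper7 project), piece RU-ARD: arithmetic for the torus of order `q + r + 1` (helper16)

Same parametrisation as in `RUArC`: `k = q + r + 1 = 3 b² + 9 b + 7`, `k' = 3 b² + 3 b + 1`.
-/

set_option autoImplicit false

namespace Cfsg.Agent.H16.RU

/-- RU-ARD. -/
theorem arD : Cfsg.Agent.H7.RU.StArD := by
  intro m _
  obtain ⟨b, t, hq, hr, ht⟩ := param m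
  rw [hq, hr]
  have hk : 3 * b ^ 2 + 6 * b + 3 + (3 * b + 3) + 1 = 3 * b ^ 2 + 9 * b + 7 := by omega
  have hq1 : 3 * b ^ 2 + 6 * b + 3 - 1 = 3 * b ^ 2 + 6 * b + 2 := by omega
  rw [hk, hq1]
  have hkpos : 0 < 3 * b ^ 2 + 9 * b + 7 := by omega
  have hodd : ¬ 2 ∣ 3 * b ^ 2 + 9 * b + 7 := by omega
  have hodd' : ¬ 2 ∣ 3 * b ^ 2 + 3 * b + 1 := by omega
  have c3 : Nat.Coprime (3 * b ^ 2 + 9 * b + 7) 3 :=
    coprime_of_lin (x := 1) (y := b ^ 2 + 3 * b + 2) (by ring)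
  have c2 : Nat.Coprime (3 * b ^ 2 + 9 * b + 7) 2 :=
    ((Nat.Prime.coprime_iff_not_dvd Nat.prime_two).mpr hodd).symm
  have cq : Nat.Coprime (3 * b ^ 2 + 9 * b + 7) (3 * b ^ 2 + 6 * b + 3) := by
    have e : 3 * b ^ 2 + 6 * b + 3 = 3 * (b + 1) ^ 2 := by ring
    rw [e]
    have c9 : Nat.Coprime (3 * b ^ 2 + 9 * b + 7) (b + 1) :=
      coprime_of_lin (x := 1) (y := 3 * b + 6) (by ring)
    exact Nat.Coprime.mul_right c3 (Nat.Coprime.pow_right 2 c9)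
  have cqm : Nat.Coprime (3 * b ^ 2 + 9 * b + 7) (3 * b ^ 2 + 6 * b + 2) :=
    (coprime_of_lin (k := 3 * b ^ 2 + 6 * b + 2) (n := 3 * b ^ 2 + 9 * b + 7)
      (x := 3 * b + 4) (y := 3 * b + 1) (by ring)).symm
  have cqp : Nat.Coprime (3 * b ^ 2 + 9 * b + 7) (3 * b ^ 2 + 6 * b + 3 + 1) :=
    (coprime_of_lin (k := 3 * b ^ 2 + 6 * b + 3 + 1) (n := 3 * b ^ 2 + 9 * b + 7)
      (x := b + 2) (y := b + 1) (by ring)).symm
  have ck' : Nat.Coprime (3 * b ^ 2 + 9 * b + 7) (3 * b ^ 2 + 3 * b + 1) :=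
    (coprime_of_lin2 hodd' (k := 3 * b ^ 2 + 3 * b + 1) (n := 3 * b ^ 2 + 9 * b + 7)
      (x := b + 2) (y := b) (by ring)).symm
  constructor
  · have e : (3 * b ^ 2 + 6 * b + 3) ^ 3 * (3 * b ^ 2 + 6 * b + 2) *
        ((3 * b ^ 2 + 6 * b + 3) ^ 3 + 1) = (3 * b ^ 2 + 9 * b + 7) *
        ((3 * b ^ 2 + 6 * b + 3) ^ 3 * (3 * b ^ 2 + 6 * b + 2) *
          ((3 * b ^ 2 + 6 * b + 3 + 1) * (3 * b ^ 2 + 3 * b + 1))) := by ring
    rw [e, Nat.mul_div_cancel_left _ hkpos]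
    exact Nat.Coprime.mul_right (Nat.Coprime.mul_right (Nat.Coprime.pow_right 3 cq) cqm)
      (Nat.Coprime.mul_right cqp ck')
  · rw [Nat.mul_div_cancel _ hkpos]
    have e6 : (6 : ℕ) = 2 * 3 := by norm_num
    rw [e6]
    exact Nat.Coprime.mul_right c2 c3

end Cfsg.Agent.H16.RU
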