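import Mathlib
import Cfsg.Agent.H91.SMDefs
import Cfsg.Agent.H85.StLin

/-!
# helper16: S2086 piece C3T -- lifts of commuting elementary matrices of `SL_3(K)` commute
when `K` has an element `r ≠ 0` with `r ^ 3 ≠ 1` (torus argument)
-/

set_option autoImplicit false

namespace Cfsg.Agent.H16.SM

open Matrix Subgroup Cfsg.Agent.H91.SM

variable {n : ℕ} {K : Type*} [Field K] {E : Type*} [Group E]

/-- Conjugating an elementary matrix by a diagonal matrix. -/
theorem diag_tv (D : SLn n K) (f : Fin n → K)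
    (hD : (D : Matrix (Fin n) (Fin n) K) = Matrix.diagonal f)
    {i j : Fin n} (hij : i ≠ j) (t t' : K) (h : t' * f j = f i * t) :
    D * tv hij t = tv hij t' * D := by
  apply Subtype.ext
  simp only [Matrix.SpecialLinearGroup.coe_mul, Matrix.SpecialLinearGroup.transvection_coe, hD]
  rw [mul_add, add_mul, mul_one, one_mul]
  congr 1
  ext p q
  rw [Matrix.diagonal_mul, Matrix.mul_diagonal]
  simp only [Matrix.single_apply]
  by_cases hp : i = p ∧ j = q
  · obtain ⟨rfl, rfl⟩ := hp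
    simp [h]
  · simp [hp]

/-- The torus argument: if a diagonal element scales `x_ij` by `s ≠ 1` and centralizes
`x_kl(b)`, then lifts of `x_ij(a)` and `x_kl(b)` commute. -/
theorem torus_comm (ρ : E →* SLn n K) (hsurj : Function.Surjective ρ) (hker : ρ.ker ≤ center E)
    {i j k l : Fin n} (hij : i ≠ j) (hkl : k ≠ l) (hil : i ≠ l) (hjk : j ≠ k)
    (D0 : SLn n K) (s : K) (hs : s ≠ 1) (b : K)
    (h1 : ∀ t, D0 * tv hij t = tv hij (s * t) * D0)
    (h2 : D0 * tv hkl b = tv hkl b * D0)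
    (a : K) (u w : E) (hu : ρ u = tv hij a) (hw : ρ w = tv hkl b) : u * w = w * u := by
  have hcen : ∀ z : E, ρ z = 1 → ∀ g : E, g * z = z * g := by
    intro z hz g
    exact (Subgroup.mem_center_iff.mp (hker (MonoidHom.mem_ker.mpr hz))) g
  have hA : ∀ (t : K) (x : E), ρ x = tv hij t → ρ (x * w * x⁻¹ * w⁻¹) = 1 := by
    intro t x hx
    rw [map_mul, map_mul, map_mul, map_inv, map_inv, hx, hw]
    rw [Cfsg.Agent.H85.StLin.tr_comm hij hkl hil hjk]
    group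
  have hB : ∀ x x' : E, ρ x = ρ x' → x * w * x⁻¹ * w⁻¹ = x' * w * x'⁻¹ * w⁻¹ := by
    intro x x' h
    have hz : ρ (x⁻¹ * x') = 1 := by rw [map_mul, map_inv, h]; group
    have e1 : w * (x⁻¹ * x') = (x⁻¹ * x') * w := hcen _ hz w
    have e2 : x' * w * x'⁻¹ * w⁻¹ = x * ((x⁻¹ * x') * w) * x'⁻¹ * w⁻¹ := by group
    rw [e2, ← e1]
    group
  have hD : ∀ x y : E, ρ (y * w * y⁻¹ * w⁻¹) = 1 →
      (x * y) * w * (x * y)⁻¹ * w⁻¹ = (x * w * x⁻¹ * w⁻¹) * (y * w * y⁻¹ * w⁻¹) := by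
    intro x y hy
    have e1 : x * (y * w * y⁻¹ * w⁻¹) = (y * w * y⁻¹ * w⁻¹) * x := hcen _ hy x
    have e3 : (x * w * x⁻¹ * w⁻¹) * (y * w * y⁻¹ * w⁻¹) =
        (y * w * y⁻¹ * w⁻¹) * (x * w * x⁻¹ * w⁻¹) := hcen _ hy _
    have e2 : (x * y) * w * (x * y)⁻¹ * w⁻¹ = (x * (y * w * y⁻¹ * w⁻¹)) * w * x⁻¹ * w⁻¹ := by
      group
    rw [e2, e1, e3]
    group
  obtain ⟨d, hd⟩ := hsurj D0
  have hC : ∀ (t : K) (x : E), ρ x = tv hij t →
      (d * x * d⁻¹) * w * (d * x * d⁻¹)⁻¹ * w⁻¹ = x * w * x⁻¹ * w⁻¹ := by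
    intro t x hx
    have hz : ρ (w⁻¹ * d⁻¹ * w * d) = 1 := by
      rw [map_mul, map_mul, map_mul, map_inv, map_inv, hw, hd]
      rw [mul_assoc _ (tv hkl b) D0, ← h2]
      group
    have hc := hcen _ hz
    have e0 := hcen _ (hA t x hx) d
    have e1 : (d * x * d⁻¹) * w * (d * x * d⁻¹)⁻¹ * w⁻¹ =
        d * (x * w * ((w⁻¹ * d⁻¹ * w * d) * x⁻¹) * (w⁻¹ * d⁻¹ * w * d)⁻¹ * w⁻¹) * d⁻¹ := by
      group
    rw [e1, ← hc x⁻¹]
    have e2 : d * (x * w * (x⁻¹ * (w⁻¹ * d⁻¹ * w * d)) * (w⁻¹ * d⁻¹ * w * d)⁻¹ * w⁻¹) * d⁻¹ =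
        d * (x * w * x⁻¹ * w⁻¹) * d⁻¹ := by group
    rw [e2, e0]
    group
  have hs' : s - 1 ≠ 0 := sub_ne_zero.mpr hs
  obtain ⟨x0, hx0⟩ := hsurj (tv hij ((s - 1)⁻¹ * a))
  have hx0i : ρ x0⁻¹ = tv hij (-((s - 1)⁻¹ * a)) := by
    rw [map_inv, hx0, Cfsg.Agent.H85.StLin.tr_inv]
  have hy : ρ ((d * x0 * d⁻¹) * x0⁻¹) = tv hij a := by
    rw [map_mul, map_mul, map_mul, map_inv ρ d, hd, hx0, hx0i, h1, mul_assoc (tv hij _), mul_inv_cancel,
      mul_one, Cfsg.Agent.H85.StLin.tr_mul]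
    congr 1
    field_simp
    ring
  have key : u * w * u⁻¹ * w⁻¹ = 1 := by
    rw [hB u _ (hu.trans hy.symm), hD _ _ (hA _ _ hx0i), hC _ _ hx0, ← hD _ _ (hA _ _ hx0i),
      mul_inv_cancel]
    group
  calc u * w = (u * w * u⁻¹ * w⁻¹) * (w * u) := by group
    _ = w * u := by rw [key, one_mul]

theorem third3 : ∀ k l : Fin 3, ∃ h : Fin 3, h ≠ k ∧ h ≠ l := by decide

theorem col3 : ∀ i j k l : Fin 3, i ≠ j → k ≠ l → i ≠ l → j ≠ k → k ≠ i → l = j := by decide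

/-- **S2086, piece C3T.** -/
theorem c3t.{u, v} (hF : FreeStmt.{u, v}) : C3TStmt.{u, v} := by
  intro K _ E _ ρ hsurj hker r hr0 hr3 i j k l hij hkl hil hjk a b u w hu hw
  by_cases hki : k = i
  · subst hki
    by_cases hlj : l = j
    · subst hlj
      obtain ⟨h, h1, h2⟩ := third3 k l
      exact hF ρ hsurj hker k l k l h hij hkl hil hjk h1 h2 h1 h2 a b u w hu hw
    · -- same row
      have hdet : (Matrix.diagonal (fun p : Fin 3 => if p = j then (r⁻¹) ^ 2 else r)).det = 1 := by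
        rw [Matrix.det_diagonal, Fin.prod_univ_three]
        have : ∀ j : Fin 3, ((if (0 : Fin 3) = j then (r⁻¹) ^ 2 else r) *
            (if (1 : Fin 3) = j then (r⁻¹) ^ 2 else r) *
            (if (2 : Fin 3) = j then (r⁻¹) ^ 2 else r) : K) = 1 := by
          intro j
          fin_cases j <;> simp <;> field_simp
        exact this j
      refine torus_comm ρ hsurj hker hij hkl hil hjk
        ⟨Matrix.diagonal (fun p : Fin 3 => if p = j then (r⁻¹) ^ 2 else r), hdet⟩ (r ^ 3) hr3 b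
        (fun t => diag_tv _ _ rfl hij _ _ ?_) (diag_tv _ _ rfl hkl _ _ ?_) a u w hu hw
      · simp only [if_true, if_neg hij]
        field_simp
      · simp only [if_neg hlj, if_neg hij]
        ring
  · have hlj : l = j := col3 i j k l hij hkl hil hjk hki
    subst hlj
    have hdet : (Matrix.diagonal (fun p : Fin 3 => if p = i then r ^ 2 else r⁻¹)).det = 1 := by
      rw [Matrix.det_diagonal, Fin.prod_univ_three]
      have : ∀ i : Fin 3, ((if (0 : Fin 3) = i then r ^ 2 else r⁻¹) *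
          (if (1 : Fin 3) = i then r ^ 2 else r⁻¹) *
          (if (2 : Fin 3) = i then r ^ 2 else r⁻¹) : K) = 1 := by
        intro i
        fin_cases i <;> simp <;> field_simp
      exact this i
    refine torus_comm ρ hsurj hker hij hkl hil hjk
      ⟨Matrix.diagonal (fun p : Fin 3 => if p = i then r ^ 2 else r⁻¹), hdet⟩ (r ^ 3) hr3 b
      (fun t => diag_tv _ _ rfl hij _ _ ?_) (diag_tv _ _ rfl hkl _ _ ?_) a u w hu hw
    · simp only [if_true, if_neg (Ne.symm hij)]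
      field_simp
    · simp only [if_neg hki, if_neg (Ne.symm hij)]
      ring

end Cfsg.Agent.H16.SM
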