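import Cfsg.Agent.H34.ThDefs

/-!
# S1632 TH-FIN (helper16, for helper34): summability and the inversion formula of weight 12 on the
imaginary axis for a unimodular positive definite integral matrix of rank 24.
-/

set_option autoImplicit false

namespace Cfsg.Agent.H16.Th

open Real Matrix Cfsg.Agent.H34.Th

/-- **TH-FIN**. -/
theorem fin (hD : Cfsg.Agent.H34.Th.StDecomp) (hG : Cfsg.Agent.H34.Th.StGoodAll)
    (hR : Cfsg.Agent.H34.Th.StRealPD) : Cfsg.Agent.H34.Th.StFin := by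
  intro B hsym hpos hdet
  have hsymR : (B.map (Int.cast : ℤ → ℝ)).IsSymm := hsym.map _
  have hposR := hR 24 B hsym hpos hdet
  obtain ⟨q, q', c, ⟨hSP, hSD, hPF⟩, hq, hq'⟩ :=
    hD Good hG.1 hG.2 24 (B.map (Int.cast : ℤ → ℝ)) hsymR hposR
  have hqZ : ∀ x : Fin 24 → ℤ, q (cst x) = ((Qf B x : ℤ) : ℝ) := by
    intro x
    rw [hq]
    simp only [Qf, dotProduct, mulVec, cst, Matrix.map_apply, Int.cast_sum, Int.cast_mul]
  have hcst : ∀ x : Fin 24 → ℤ, cst (B *ᵥ x) = (B.map (Int.cast : ℤ → ℝ)) *ᵥ cst x := by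
    intro x
    funext i
    simp only [dotProduct, mulVec, cst, Matrix.map_apply, Int.cast_sum, Int.cast_mul]
  have hq'Z : ∀ x : Fin 24 → ℤ, q' (cst (B *ᵥ x)) = ((Qf B x : ℤ) : ℝ) := by
    intro x
    rw [hcst, hq', hqZ]
  have hunit : IsUnit B.det := by rw [hdet]; exact isUnit_one
  let e : (Fin 24 → ℤ) ≃ (Fin 24 → ℤ) :=
    { toFun := fun x => B *ᵥ x
      invFun := fun y => B⁻¹ *ᵥ y
      left_inv := fun x => by
        show B⁻¹ *ᵥ (B *ᵥ x) = x
        rw [Matrix.mulVec_mulVec, Matrix.nonsing_inv_mul _ hunit, Matrix.one_mulVec]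
      right_inv := fun y => by
        show B *ᵥ (B⁻¹ *ᵥ y) = y
        rw [Matrix.mulVec_mulVec, Matrix.mul_nonsing_inv _ hunit, Matrix.one_mulVec] }
  have hsumS : StSum (Qf B) := by
    intro t ht
    have h1 := hSP t ht
    simp_rw [hqZ] at h1
    exact h1
  refine ⟨hsumS, ?_⟩
  -- the real identity from `PF` at `p = 0`
  have key : ∀ t : ℝ, 0 < t →
      ∑' x : Fin 24 → ℤ, Real.exp (-π * t * ((Qf B x : ℤ) : ℝ)) =
        c * (1 / Real.sqrt t) ^ 24 * ∑' x : Fin 24 → ℤ, Real.exp (-π * ((Qf B x : ℤ) : ℝ) / t) := by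
    intro t ht
    have h1 := hPF t ht 0
    have h2 : ∀ x : Fin 24 → ℤ, Complex.exp (((-π * t * q (cst x) : ℝ) : ℂ) +
        2 * π * Complex.I * ((∑ j : Fin 24, (x j : ℝ) * (0 : Fin 24 → ℝ) j : ℝ) : ℂ)) =
        ((Real.exp (-π * t * ((Qf B x : ℤ) : ℝ)) : ℝ) : ℂ) := by
      intro x
      rw [hqZ]
      simp
    simp_rw [h2] at h1
    rw [← Complex.ofReal_tsum] at h1
    have h3 := Complex.ofReal_injective h1
    rw [h3]
    congr 1
    rw [← e.tsum_eq]
    apply tsum_congr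
    intro x
    show Real.exp (-π * q' (cst (B *ᵥ x) - 0) / t) = _
    rw [sub_zero, hq'Z]
  intro t ht
  have hS1pos : 0 < ∑' x : Fin 24 → ℤ, Real.exp (-π * 1 * ((Qf B x : ℤ) : ℝ)) := by
    have h4 := (hsumS 1 one_pos).le_tsum 0 (fun j _ => (Real.exp_pos _).le)
    exact lt_of_lt_of_le (Real.exp_pos _) h4
  have hc : c = 1 := by
    have h5 := key 1 one_pos
    have h6 : ∀ x : Fin 24 → ℤ, Real.exp (-π * ((Qf B x : ℤ) : ℝ) / 1) =
        Real.exp (-π * 1 * ((Qf B x : ℤ) : ℝ)) := by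
      intro x; congr 1; ring
    simp_rw [h6] at h5
    rw [Real.sqrt_one] at h5
    have h7 : (c - 1) * ∑' x : Fin 24 → ℤ, Real.exp (-π * 1 * ((Qf B x : ℤ) : ℝ)) = 0 := by
      linear_combination -h5
    rcases mul_eq_zero.mp h7 with h8 | h8
    · linarith
    · exact absurd h8 hS1pos.ne'
  have h9 := key t ht
  rw [hc, one_mul] at h9
  have h10 : (1 / Real.sqrt t) ^ 24 = 1 / t ^ 12 := by
    have h11 : (1 / Real.sqrt t) ^ 24 = ((1 / Real.sqrt t) ^ 2) ^ 12 := by ring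
    rw [h11, div_pow, Real.sq_sqrt ht.le, one_pow, div_pow, one_pow]
  rw [h10] at h9
  rw [h9]
  have ht12 : t ^ 12 ≠ 0 := (pow_pos ht 12).ne'
  field_simp

end Cfsg.Agent.H16.Th
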