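import Cfsg.Agent.H34.ThDefs

/-!
# S1632 TH-STEPPF (helper16, for helper34): the induction step of the Poisson formula with real phases
(one more variable), by Fubini and the one-dimensional formula.
-/

set_option autoImplicit false

namespace Cfsg.Agent.H16.Th

open Real Matrix Cfsg.Agent.H34.Th

/-- the norm of `exp (↑r + 2 π i ↑s)` for real `r`, `s`. -/
theorem norm_cexp_phase (r s : ℝ) :
    ‖Complex.exp ((r : ℂ) + 2 * π * Complex.I * (s : ℂ))‖ = Real.exp r := by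
  rw [Complex.norm_exp]
  congr 1
  have e : (2 * π * Complex.I * (s : ℂ)) = ((2 * π * s : ℝ) : ℂ) * Complex.I := by push_cast; ring
  rw [Complex.add_re, e, Complex.re_ofReal_mul, Complex.I_re, mul_zero, add_zero, Complex.ofReal_re]

/-- **TH-STEPPF**. -/
theorem stepPF (h : Cfsg.Agent.H34.Th.St1F) : Cfsg.Agent.H34.Th.StStepPF := by
  intro n q q' c hSP hSD hPF a ha l hSP1 hSD1 t ht p
  have hta : 0 < t * a := mul_pos ht ha
  let e : (Fin (n + 1) → ℤ) ≃ (Fin n → ℤ) × ℤ :=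
    { toFun := fun x => (fun j => x j.succ, x 0)
      invFun := fun w => Fin.cons w.2 w.1
      left_inv := fun x => by
        funext j
        refine Fin.cases ?_ (fun i => ?_) j
        · simp
        · simp
      right_inv := fun w => by simp }
  obtain ⟨L, hL⟩ : ∃ L : (Fin n → ℤ) → ℝ, ∀ x', L x' = ∑ j, l j * (x' j : ℝ) := ⟨_, fun _ => rfl⟩
  obtain ⟨p0, hp0⟩ : ∃ p0 : ℝ, p0 = p 0 := ⟨_, rfl⟩
  obtain ⟨p', hp'⟩ : ∃ p' : Fin n → ℝ, ∀ j, p' j = p j.succ := ⟨_, fun _ => rfl⟩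
  obtain ⟨F, hF⟩ : ∃ F : (Fin n → ℤ) × ℤ → ℂ, ∀ w, F w =
      Complex.exp (((-π * t * (a * ((w.2 : ℝ) + L w.1) ^ 2 + q (cst w.1)) : ℝ) : ℂ) +
        2 * π * Complex.I * (((w.2 : ℝ) * p0 + ∑ j, (w.1 j : ℝ) * p' j : ℝ) : ℂ)) :=
    ⟨_, fun _ => rfl⟩
  have hLF : ∀ x : Fin (n + 1) → ℤ,
      Complex.exp (((-π * t * qS a l q (cst x) : ℝ) : ℂ) +
        2 * π * Complex.I * ((∑ j : Fin (n + 1), (x j : ℝ) * p j : ℝ) : ℂ)) = F (e x) := by
    intro x
    rw [hF, hL, hp0, Fin.sum_univ_succ]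
    simp only [hp']
    rfl
  have hFnorm : ∀ w, ‖F w‖ =
      Real.exp (-π * t * (a * ((w.2 : ℝ) + L w.1) ^ 2 + q (cst w.1))) := by
    intro w
    rw [hF]
    exact norm_cexp_phase _ _
  have hFsum : Summable F := by
    apply Summable.of_norm
    refine (summable_congr hFnorm).mpr ?_
    have h1 : ∀ x : Fin (n + 1) → ℤ,
        Real.exp (-π * t * (a * (((e x).2 : ℝ) + L (e x).1) ^ 2 + q (cst (e x).1))) =
          Real.exp (-π * t * qS a l q (cst x)) := by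
      intro x
      rw [hL]
      rfl
    exact (e.summable_iff (f := fun w : (Fin n → ℤ) × ℤ =>
      Real.exp (-π * t * (a * ((w.2 : ℝ) + L w.1) ^ 2 + q (cst w.1))))).mp
        ((summable_congr h1).mpr (hSP1 t ht))
  have s1 : ∑' x : Fin (n + 1) → ℤ, Complex.exp (((-π * t * qS a l q (cst x) : ℝ) : ℂ) +
        2 * π * Complex.I * ((∑ j : Fin (n + 1), (x j : ℝ) * p j : ℝ) : ℂ)) =
      ∑' x' : Fin n → ℤ, ∑' k : ℤ, F (x', k) := by
    rw [← hFsum.tsum_prod, ← e.tsum_eq F]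
    exact tsum_congr hLF
  -- the inner sum, by the one-dimensional formula
  obtain ⟨G, hG⟩ : ∃ G : (Fin n → ℤ) → ℂ, ∀ x', G x' =
      Complex.exp (((-π * t * q (cst x') : ℝ) : ℂ) +
        2 * π * Complex.I * ((∑ j, (x' j : ℝ) * p' j : ℝ) : ℂ)) := ⟨_, fun _ => rfl⟩
  obtain ⟨E, hE⟩ : ∃ E : (Fin n → ℤ) → ℤ → ℂ, ∀ x' m, E x' m =
      Complex.exp (((-π * ((m : ℝ) - p0) ^ 2 / (t * a) : ℝ) : ℂ) +
        2 * π * Complex.I * ((((m : ℝ) - p0) * L x' : ℝ) : ℂ)) := ⟨_, fun _ _ => rfl⟩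
  have hFk : ∀ (x' : Fin n → ℤ) (k : ℤ), F (x', k) =
      G x' * Complex.exp (((-π * (t * a) * ((k : ℝ) + L x') ^ 2 : ℝ) : ℂ) +
        2 * π * Complex.I * (((k : ℝ) * p0 : ℝ) : ℂ)) := by
    intro x' k
    rw [hF, hG, ← Complex.exp_add]
    congr 1
    push_cast
    ring
  have s2 : ∀ x' : Fin n → ℤ, ∑' k : ℤ, F (x', k) =
      ((1 / Real.sqrt (t * a) : ℝ) : ℂ) * ∑' m : ℤ, G x' * E x' m := by
    intro x'
    rw [tsum_congr (hFk x'), tsum_mul_left, (h (t * a) hta (L x') p0).2, tsum_mul_left]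
    simp_rw [hE]
    ring
  -- exchange of the two sums
  obtain ⟨H, hH⟩ : ∃ H : (Fin n → ℤ) → ℤ → ℂ, ∀ x' m, H x' m = G x' * E x' m :=
    ⟨_, fun _ _ => rfl⟩
  have hHnorm : ∀ w : (Fin n → ℤ) × ℤ, ‖Function.uncurry H w‖ =
      Real.exp (-π * t * q (cst w.1)) *
        Real.exp (-π * (1 / (t * a)) * ((w.2 : ℝ) + -p0) ^ 2) := by
    rintro ⟨x', m⟩
    show ‖H x' m‖ = Real.exp (-π * t * q (cst x')) *
        Real.exp (-π * (1 / (t * a)) * ((m : ℝ) + -p0) ^ 2)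
    have e1 : -π * ((m : ℝ) - p0) ^ 2 / (t * a) = -π * (1 / (t * a)) * ((m : ℝ) + -p0) ^ 2 := by
      ring
    rw [hH, hG, hE, norm_mul, norm_cexp_phase, norm_cexp_phase, e1]
  have hHsum : Summable (Function.uncurry H) := by
    apply Summable.of_norm
    refine (summable_congr hHnorm).mpr ?_
    exact Summable.mul_of_nonneg (hSP t ht) (h (1 / (t * a)) (by positivity) (-p0) 0).1
      (fun _ => (Real.exp_pos _).le) (fun _ => (Real.exp_pos _).le)
  have s3 : ∑' x' : Fin n → ℤ, ∑' m : ℤ, H x' m = ∑' m : ℤ, ∑' x' : Fin n → ℤ, H x' m :=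
    (hHsum.tsum_comm).symm
  -- the sum over `x'`, by the induction hypothesis
  obtain ⟨p'', hp''⟩ : ∃ p'' : ℤ → Fin n → ℝ, ∀ m j, p'' m j = p' j + ((m : ℝ) - p0) * l j :=
    ⟨_, fun _ _ => rfl⟩
  obtain ⟨T, hT⟩ : ∃ T : ℤ → ℝ, ∀ m, T m =
      ∑' y' : Fin n → ℤ, Real.exp (-π * q' (cst y' - p'' m) / t) := ⟨_, fun _ => rfl⟩
  have hHx : ∀ (m : ℤ) (x' : Fin n → ℤ), H x' m =
      ((Real.exp (-π * ((m : ℝ) - p0) ^ 2 / (t * a)) : ℝ) : ℂ) *
        Complex.exp (((-π * t * q (cst x') : ℝ) : ℂ) +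
          2 * π * Complex.I * ((∑ j, (x' j : ℝ) * p'' m j : ℝ) : ℂ)) := by
    intro m x'
    have e2 : ∑ j, (x' j : ℝ) * p'' m j = ∑ j, (x' j : ℝ) * p' j + ((m : ℝ) - p0) * L x' := by
      rw [hL, Finset.mul_sum, ← Finset.sum_add_distrib]
      apply Finset.sum_congr rfl
      intro j _
      rw [hp'']
      ring
    rw [hH, hG, hE, Complex.ofReal_exp, ← Complex.exp_add, ← Complex.exp_add, e2]
    congr 1
    push_cast
    ring
  have s4 : ∀ m : ℤ, ∑' x' : Fin n → ℤ, H x' m =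
      ((Real.exp (-π * ((m : ℝ) - p0) ^ 2 / (t * a)) * (c * (1 / Real.sqrt t) ^ n * T m) : ℝ) : ℂ) := by
    intro m
    rw [tsum_congr (hHx m), tsum_mul_left, hPF t ht (p'' m), hT, ← Complex.ofReal_mul]
  -- the right-hand side
  obtain ⟨R, hR⟩ : ∃ R : ℤ → (Fin n → ℤ) → ℝ, ∀ m y', R m y' =
      Real.exp (-π * ((m : ℝ) - p0) ^ 2 / (t * a)) * Real.exp (-π * q' (cst y' - p'' m) / t) :=
    ⟨_, fun _ _ => rfl⟩
  have hRy : ∀ y : Fin (n + 1) → ℤ,
      Real.exp (-π * qD a l q' (cst y - p) / t) = R (y 0) (fun j => y j.succ) := by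
    intro y
    rw [hR, ← Real.exp_add]
    congr 1
    have e3 : (fun j : Fin n => (cst y - p) j.succ - (cst y - p) 0 * l j) =
        cst (fun j => y j.succ) - p'' (y 0) := by
      funext j
      simp only [Pi.sub_apply, cst, hp'', hp', hp0]
      ring
    show -π * (((cst y - p) 0) ^ 2 / a +
      q' (fun j : Fin n => (cst y - p) j.succ - (cst y - p) 0 * l j)) / t = _
    rw [e3]
    simp only [Pi.sub_apply, cst, hp0]
    have ha' := ha.ne'
    have ht' := ht.ne'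
    field_simp
    ring
  obtain ⟨M, hM⟩ := hSD1 t ht
  have hRsum : Summable (Function.uncurry (fun (y' : Fin n → ℤ) (m : ℤ) => R m y')) := by
    refine (e.summable_iff).mp ?_
    refine (summable_congr ?_).mpr (hM p).1
    intro y
    exact (hRy y).symm
  have s5 : ∑' y : Fin (n + 1) → ℤ, Real.exp (-π * qD a l q' (cst y - p) / t) =
      ∑' m : ℤ, ∑' y' : Fin n → ℤ, R m y' := by
    rw [tsum_congr hRy]
    have h1 := e.tsum_eq (Function.uncurry (fun (y' : Fin n → ℤ) (m : ℤ) => R m y'))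
    have h2 := hRsum.tsum_prod
    have h3 := hRsum.tsum_comm
    exact h1.trans (h2.trans h3.symm)
  have hfinal : (1 / Real.sqrt (t * a)) * ∑' m : ℤ,
        Real.exp (-π * ((m : ℝ) - p0) ^ 2 / (t * a)) * (c * (1 / Real.sqrt t) ^ n * T m) =
      c / Real.sqrt a * (1 / Real.sqrt t) ^ (n + 1) *
        ∑' y : Fin (n + 1) → ℤ, Real.exp (-π * qD a l q' (cst y - p) / t) := by
    rw [s5]
    have h4 : ∀ m : ℤ, ∑' y' : Fin n → ℤ, R m y' =
        Real.exp (-π * ((m : ℝ) - p0) ^ 2 / (t * a)) * T m := by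
      intro m
      rw [hT, ← tsum_mul_left]
      exact tsum_congr (fun y' => hR m y')
    rw [tsum_congr h4]
    have h5 : ∀ m : ℤ,
        Real.exp (-π * ((m : ℝ) - p0) ^ 2 / (t * a)) * (c * (1 / Real.sqrt t) ^ n * T m) =
          (c * (1 / Real.sqrt t) ^ n) * (Real.exp (-π * ((m : ℝ) - p0) ^ 2 / (t * a)) * T m) :=
      fun m => by ring
    rw [tsum_congr h5, tsum_mul_left, Real.sqrt_mul ht.le a]
    generalize (∑' m : ℤ, Real.exp (-π * ((m : ℝ) - p0) ^ 2 / (t * a)) * T m) = S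
    have hst : Real.sqrt t ≠ 0 := (Real.sqrt_pos.mpr ht).ne'
    have hsa : Real.sqrt a ≠ 0 := (Real.sqrt_pos.mpr ha).ne'
    rw [pow_succ, div_pow, one_pow]
    field_simp
  have h6 : ∀ x' : Fin n → ℤ, ∑' m : ℤ, G x' * E x' m = ∑' m : ℤ, H x' m :=
    fun x' => tsum_congr (fun m => (hH x' m).symm)
  rw [s1, tsum_congr s2, tsum_mul_left, tsum_congr h6, s3, tsum_congr s4, ← Complex.ofReal_tsum,
    ← Complex.ofReal_mul, hfinal]

end Cfsg.Agent.H16.Th
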