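import Mathlib
import Cfsg.Agent.H36.TihDefs
import Cfsg.Agent.H72.Fg7Defs

/-!
# S4151-R1B: coprime action with common fixed points gives a fixed-point-free action on a finite
abelian group (via `StQ6` applied to `R ⊔ A`)
-/

set_option autoImplicit false

namespace Cfsg.Agent.H16.Tih

universe u

/-- If `A` normalizes `R`, every element of `R ⊔ A` is a product `r * a`. -/
theorem mem_sup_of_normalizes {G : Type*} [Group G] (R A : Subgroup G)
    (hnorm : ∀ a ∈ A, ∀ x ∈ R, a * x * a⁻¹ ∈ R) {g : G} (hg : g ∈ R ⊔ A) :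
    ∃ r ∈ R, ∃ a ∈ A, g = r * a := by
  let D : Subgroup G :=
    { carrier := {g | ∃ r ∈ R, ∃ a ∈ A, g = r * a}
      mul_mem' := by
        rintro _ _ ⟨r1, hr1, a1, ha1, rfl⟩ ⟨r2, hr2, a2, ha2, rfl⟩
        refine ⟨r1 * (a1 * r2 * a1⁻¹), R.mul_mem hr1 (hnorm a1 ha1 r2 hr2), a1 * a2,
          A.mul_mem ha1 ha2, ?_⟩
        group
      one_mem' := ⟨1, R.one_mem, 1, A.one_mem, by simp⟩
      inv_mem' := by
        rintro _ ⟨r, hr, a, ha, rfl⟩
        refine ⟨a⁻¹ * r⁻¹ * (a⁻¹)⁻¹, hnorm a⁻¹ (A.inv_mem ha) r⁻¹ (R.inv_mem hr), a⁻¹,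
          A.inv_mem ha, ?_⟩
        group }
  have hle : R ⊔ A ≤ D :=
    sup_le (fun r hr => ⟨r, hr, 1, A.one_mem, by simp⟩) (fun a ha => ⟨1, R.one_mem, a, ha, by simp⟩)
  exact hle hg

theorem r1b (h6 : Cfsg.Agent.H72.Zas.StQ6.{u}) : Cfsg.Agent.H36.Tih.StR1b.{u} := by
  intro G _ _ R A hnorm hcop hsolv hnc hfix
  have hRA : R ⊓ A = ⊥ := (Subgroup.disjoint_of_coprime_natCard hcop).eq_bot
  -- the key commutation fact
  have hkey : ∀ r ∈ R, ∀ y ∈ A, y ≠ 1 → r * y * r⁻¹ ∈ A → ∀ b ∈ A, r * b = b * r := by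
    intro r hr y hy hy1 hry
    have h1 : r * y * r⁻¹ * y⁻¹ ∈ R ⊓ A := by
      refine ⟨?_, A.mul_mem hry (A.inv_mem hy)⟩
      have h2 : r * y * r⁻¹ * y⁻¹ = r * (y * r⁻¹ * y⁻¹) := by group
      rw [h2]
      exact R.mul_mem hr (hnorm y hy r⁻¹ (R.inv_mem hr))
    rw [hRA, Subgroup.mem_bot] at h1
    have h3 : r * y = y * r := by
      have h4 : r * y = (r * y * r⁻¹ * y⁻¹) * (y * r) := by group
      rw [h4, h1, one_mul]
    exact hfix y hy hy1 r hr h3
  -- the subgroups of `R ⊔ A`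
  have hTI : Cfsg.IsTISubset ((A.subgroupOf (R ⊔ A) : Subgroup ↥(R ⊔ A)) : Set ↥(R ⊔ A)) := by
    intro g hg x hx hgx
    by_contra hx1
    apply hg
    obtain ⟨r, hr, a', ha', hgra⟩ := mem_sup_of_normalizes R A hnorm g.2
    have hxA : (x : G) ∈ A := hx
    have hx1' : (x : G) ≠ 1 := fun h => hx1 (Subtype.ext h)
    have hy : a' * (x : G) * a'⁻¹ ∈ A := A.mul_mem (A.mul_mem ha' hxA) (A.inv_mem ha')
    have hy1 : a' * (x : G) * a'⁻¹ ≠ 1 := by
      intro h
      apply hx1'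
      have h2 : (x : G) = a'⁻¹ * (a' * (x : G) * a'⁻¹) * a' := by group
      rw [h2, h]
      group
    have hgxA : (g : G) * (x : G) * (g : G)⁻¹ ∈ A := hgx
    have hry : r * (a' * (x : G) * a'⁻¹) * r⁻¹ ∈ A := by
      have h2 : r * (a' * (x : G) * a'⁻¹) * r⁻¹ = (g : G) * (x : G) * (g : G)⁻¹ := by
        rw [hgra]
        group
      rw [h2]
      exact hgxA
    have hcomm := hkey r hr _ hy hy1 hry
    -- `g` normalizes `A`
    have hfwd : ∀ b ∈ A, (g : G) * b * (g : G)⁻¹ ∈ A := by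
      intro b hb
      have hb' : a' * b * a'⁻¹ ∈ A := A.mul_mem (A.mul_mem ha' hb) (A.inv_mem ha')
      have h2 : (g : G) * b * (g : G)⁻¹ = r * (a' * b * a'⁻¹) * r⁻¹ := by
        rw [hgra]
        group
      rw [h2, hcomm _ hb', mul_assoc, mul_inv_cancel, mul_one]
      exact hb'
    have hbwd : ∀ b ∈ A, (g : G)⁻¹ * b * (g : G) ∈ A := by
      intro b hb
      have h2 : (g : G)⁻¹ * b * (g : G) = a'⁻¹ * (r⁻¹ * b * r) * a' := by
        rw [hgra]
        group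
      have h3 : r⁻¹ * b * r = b := by
        rw [mul_assoc, ← hcomm b hb]
        group
      rw [h2, h3]
      exact A.mul_mem (A.mul_mem (A.inv_mem ha') hb) ha'
    rw [Subgroup.mem_normalizer_iff]
    intro h
    constructor
    · intro hh
      exact hfwd _ hh
    · intro hh
      have hh' : (g : G) * (h : G) * (g : G)⁻¹ ∈ A := hh
      have h2 := hbwd _ hh'
      have h3 : (g : G)⁻¹ * ((g : G) * (h : G) * (g : G)⁻¹) * (g : G) = (h : G) := by
        group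
      rw [h3] at h2
      exact h2
  have hnormal : (R.subgroupOf (R ⊔ A)).Normal := by
    constructor
    intro n hn g
    obtain ⟨r, hr, a', ha', hgra⟩ := mem_sup_of_normalizes R A hnorm g.2
    have hnR : (n : G) ∈ R := hn
    show (g : G) * (n : G) * (g : G)⁻¹ ∈ R
    have h2 : (g : G) * (n : G) * (g : G)⁻¹ = r * (a' * (n : G) * a'⁻¹) * r⁻¹ := by
      rw [hgra]
      group
    rw [h2]
    exact R.mul_mem (R.mul_mem hr (hnorm a' ha' _ hnR)) (R.inv_mem hr)
  have hcardR : Nat.card (R.subgroupOf (R ⊔ A)) = Nat.card R :=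
    Nat.card_congr (Subgroup.subgroupOfEquivOfLe le_sup_left).toEquiv
  have hcardA : Nat.card (A.subgroupOf (R ⊔ A)) = Nat.card A :=
    Nat.card_congr (Subgroup.subgroupOfEquivOfLe le_sup_right).toEquiv
  have hsolv' : Group.IsSolvable (R.subgroupOf (R ⊔ A)) :=
    Group.isSolvable_of_isSolvable_injective
      (f := (Subgroup.subgroupOfEquivOfLe (le_sup_left : R ≤ R ⊔ A)).toMonoidHom)
      (Subgroup.subgroupOfEquivOfLe le_sup_left).injective
  have hnc' : ¬ ∀ x ∈ R.subgroupOf (R ⊔ A), ∀ h ∈ A.subgroupOf (R ⊔ A), x * h = h * x := by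
    intro hall
    apply hnc
    intro x hx a ha
    have := hall ⟨x, le_sup_left (b := A) hx⟩ hx ⟨a, le_sup_right (a := R) ha⟩ ha
    exact congrArg Subtype.val this
  obtain ⟨U, hU1, hU2, φ, hφinj, hφfpf⟩ := h6 ↥(R ⊔ A) (A.subgroupOf (R ⊔ A))
    (R.subgroupOf (R ⊔ A)) hTI hnormal (by rw [hcardR, hcardA]; exact hcop) hsolv' hnc'
  refine ⟨U, hU1, hU2,
    φ.comp (Subgroup.subgroupOfEquivOfLe (le_sup_right : A ≤ R ⊔ A)).symm.toMonoidHom, ?_, ?_⟩
  · exact hφinj.comp (Subgroup.subgroupOfEquivOfLe le_sup_right).symm.injective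
  · intro a ha u hu
    apply hφfpf ((Subgroup.subgroupOfEquivOfLe (le_sup_right : A ≤ R ⊔ A)).symm a) _ u hu
    intro h
    apply ha
    have := (Subgroup.subgroupOfEquivOfLe (le_sup_right : A ≤ R ⊔ A)).symm.injective
      (h.trans (map_one _).symm)
    exact this

end Cfsg.Agent.H16.Tih
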