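import Mathlib
import Cfsg.Agent.H36.TihDefs
import Cfsg.Agent.H36.Fg7Q2
import Cfsg.Agent.H1.CoprimeSylow

/-!
# S4151-R6: under coprime action on a Z-group the fixed points have a normal invariant complement
-/

set_option autoImplicit false
set_option linter.style.haveILetI false

namespace Cfsg.Agent.H16.Tih

open Cfsg.Agent.H36.Tih

universe u

/-- The order of a finite join of normal subgroups divides the product of the orders. -/
theorem card_biSup_dvd_prod {G : Type u} [Group G] [Finite G] (s : Finset ℕ)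
    (Y : ℕ → Subgroup G) (hY : ∀ p ∈ s, (Y p).Normal) :
    Nat.card (⨆ p ∈ s, Y p : Subgroup G) ∣ ∏ p ∈ s, Nat.card (Y p) := by
  classical
  induction s using Finset.induction_on with
  | empty => simp
  | insert a s ha ih =>
    rw [Finset.iSup_insert, Finset.prod_insert ha, sup_comm, mul_comm]
    haveI : (Y a).Normal := hY a (Finset.mem_insert_self a s)
    exact (Cfsg.Agent.H36.Zas.card_sup_dvd_mul (⨆ p ∈ s, Y p) (Y a)).trans
      (Nat.mul_dvd_mul_right (ih (fun p hp => hY p (Finset.mem_insert_of_mem hp))) _)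

/-- A join of subgroups each mapped into itself by conjugation by `g` is mapped into itself. -/
theorem conj_mem_biSup {G : Type*} [Group G] (s : Finset ℕ) (X : ℕ → Subgroup G) (g : G)
    (h : ∀ p ∈ s, ∀ x ∈ X p, g * x * g⁻¹ ∈ X p) :
    ∀ x ∈ (⨆ p ∈ s, X p : Subgroup G), g * x * g⁻¹ ∈ (⨆ p ∈ s, X p : Subgroup G) := by
  have hle : (⨆ p ∈ s, X p : Subgroup G) ≤
      (⨆ p ∈ s, X p : Subgroup G).comap (MulAut.conj g).toMonoidHom := by
    apply iSup₂_le
    intro p hp x hx
    rw [Subgroup.mem_comap]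
    exact (le_biSup X hp : X p ≤ ⨆ p ∈ s, X p) (h p hp x hx)
  intro x hx
  exact hle hx

theorem r6 (h3 : StR3.{u}) (h4 : StR4.{u}) (h5 : StR5.{u}) : StR6.{u} := by
  intro G _ _ H Q hZ hQH hcop
  classical
  haveI : IsZGroup H := hZ
  have hCH : H ⊓ Subgroup.centralizer (Q : Set G) ≤ H := inf_le_left
  have h4' := h4 G H Q hZ hQH hcop
  obtain ⟨m, hm⟩ : ∃ m, m = (H ⊓ Subgroup.centralizer (Q : Set G)).relIndex H := ⟨_, rfl⟩
  rw [← hm] at h4'
  have hHcard : Nat.card ↥(H ⊓ Subgroup.centralizer (Q : Set G)) * m = Nat.card H := by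
    have h := Subgroup.card_mul_index ((H ⊓ Subgroup.centralizer (Q : Set G)).subgroupOf H)
    rw [Nat.card_congr (Subgroup.subgroupOfEquivOfLe hCH).toEquiv] at h
    rw [hm]
    exact h
  have hm0 : m ≠ 0 := by
    rintro rfl
    rw [mul_zero] at hHcard
    exact Nat.card_pos.ne' hHcard.symm
  have hmH : m ∣ Nat.card H := Dvd.intro_left _ hHcard
  have hQnorm : Q ≤ Subgroup.normalizer (H : Set G) := by
    intro q hq
    rw [Subgroup.mem_normalizer_iff]
    intro x
    constructor
    · exact fun hx => hQH q hq x hx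
    · intro hx
      have h1 := hQH q⁻¹ (Q.inv_mem hq) _ hx
      have h2 : q⁻¹ * (q * x * q⁻¹) * q⁻¹⁻¹ = x := by group
      rwa [h2] at h1
  have hsolv : Group.IsSolvable H := inferInstance
  -- the invariant Sylow subgroups
  have key : ∀ p : ℕ, p.Prime → p ∣ m → ∃ X : Subgroup G, X ≤ H ∧
      Nat.card X = p ^ (Nat.card H).factorization p ∧
      (∀ h ∈ H, ∀ x ∈ X, h * x * h⁻¹ ∈ X) ∧ (∀ q ∈ Q, ∀ x ∈ X, q * x * q⁻¹ ∈ X) := by
    intro p hp hpm
    haveI : Fact p.Prime := ⟨hp⟩
    obtain ⟨X, hXH, hXc, hXQ⟩ :=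
      Cfsg.Agent.H1.coprime_exists_invariant_sylow_aux Q H hQnorm hcop (Or.inr hsolv) p
    have hXQ' : ∀ q ∈ Q, ∀ x ∈ X, q * x * q⁻¹ ∈ X := fun q hq x hx =>
      (Subgroup.mem_normalizer_iff.mp (hXQ hq) x).mp hx
    have hXp : IsPGroup p X := IsPGroup.of_card hXc
    have hpH : p ∣ Nat.card H := hpm.trans hmH
    have hfpos : 0 < (Nat.card H).factorization p :=
      hp.factorization_pos_of_dvd Nat.card_pos.ne' hpH
    have hpX : p ∣ Nat.card X := by
      rw [hXc]
      exact dvd_pow_self p hfpos.ne'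
    -- `X.subgroupOf H` is a Sylow subgroup of `H`
    have hsubc : Nat.card (X.subgroupOf H) = p ^ (Nat.card H).factorization p := by
      rw [Nat.card_congr (Subgroup.subgroupOfEquivOfLe hXH).toEquiv, hXc]
    let P : Sylow p H := Sylow.ofCard (X.subgroupOf H) hsubc
    have hPcoe : (P : Subgroup H) = X.subgroupOf H := rfl
    have hcyc : IsCyclic X := by
      have h1 : IsCyclic (P : Subgroup H) := inferInstance
      rw [hPcoe] at h1
      exact isCyclic_of_surjective (Subgroup.subgroupOfEquivOfLe hXH)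
        (Subgroup.subgroupOfEquivOfLe hXH).surjective
    have hnd : ¬ p ∣ X.relIndex H := by
      have h1 := P.not_dvd_index
      rw [hPcoe] at h1
      exact h1
    have hcopX : (Nat.card Q).Coprime (Nat.card X) :=
      Nat.Coprime.coprime_dvd_right (Subgroup.card_dvd_of_le hXH) hcop
    rcases h3 G X Q p hp hXp hcyc hXQ' hcopX with hcent | ⟨-, hcl⟩
    · exfalso
      have hXC : X ≤ H ⊓ Subgroup.centralizer (Q : Set G) := by
        intro x hx
        refine ⟨hXH hx, ?_⟩
        show x ∈ Subgroup.centralizer (Q : Set G)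
        rw [Subgroup.mem_centralizer_iff]
        intro q hq
        exact hcent x hx q hq
      have hpC : p ∣ Nat.card ↥(H ⊓ Subgroup.centralizer (Q : Set G)) :=
        hpX.trans (Subgroup.card_dvd_of_le hXC)
      have := Nat.eq_one_of_dvd_coprimes h4' hpC hpm
      exact hp.one_lt.ne' this
    · exact ⟨X, hXH, hXc, h5 G H Q X p hp hZ hQH hXH hXp hnd hXQ' hcl, hXQ'⟩
  choose! Xf hXf using key
  have hs : ∀ p ∈ m.primeFactors, p.Prime ∧ p ∣ m := fun p hp =>
    ⟨Nat.prime_of_mem_primeFactors hp, Nat.dvd_of_mem_primeFactors hp⟩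
  obtain ⟨K, hK⟩ : ∃ K : Subgroup G, K = ⨆ p ∈ m.primeFactors, Xf p := ⟨_, rfl⟩
  have hKH : K ≤ H := by
    rw [hK]
    exact iSup₂_le (fun p hp => (hXf p (hs p hp).1 (hs p hp).2).1)
  -- the order of `K`
  have hKdvd : Nat.card K ∣ ∏ p ∈ m.primeFactors, p ^ (Nat.card H).factorization p := by
    have h1 := card_biSup_dvd_prod m.primeFactors (fun p => (Xf p).subgroupOf H) (by
      intro p hp
      obtain ⟨hXH, -, hXn, -⟩ := hXf p (hs p hp).1 (hs p hp).2
      constructor
      intro n hn g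
      exact hXn g g.2 n hn)
    have h2 : (⨆ p ∈ m.primeFactors, (Xf p).subgroupOf H : Subgroup H).map H.subtype = K := by
      rw [hK, Subgroup.map_iSup]
      apply iSup_congr
      intro p
      rw [Subgroup.map_iSup]
      apply iSup_congr
      intro hp
      exact Subgroup.map_subgroupOf_eq_of_le (hXf p (hs p hp).1 (hs p hp).2).1
    have h3' : Nat.card K =
        Nat.card (⨆ p ∈ m.primeFactors, (Xf p).subgroupOf H : Subgroup H) := by
      rw [← h2, Subgroup.card_map_of_injective H.subtype_injective]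
    rw [h3']
    refine h1.trans (dvd_of_eq (Finset.prod_congr rfl ?_))
    intro p hp
    obtain ⟨hXH, hXc, -, -⟩ := hXf p (hs p hp).1 (hs p hp).2
    rw [Nat.card_congr (Subgroup.subgroupOfEquivOfLe hXH).toEquiv, hXc]
  have hKC : (Nat.card K).Coprime (Nat.card ↥(H ⊓ Subgroup.centralizer (Q : Set G))) := by
    apply Nat.Coprime.coprime_dvd_left hKdvd
    apply Nat.Coprime.prod_left
    intro p hp
    apply Nat.Coprime.pow_left
    rw [(hs p hp).1.coprime_iff_not_dvd]
    intro hpC
    have := Nat.eq_one_of_dvd_coprimes h4' hpC (hs p hp).2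
    exact (hs p hp).1.one_lt.ne' this
  have hmK : m ∣ Nat.card K := by
    rw [← Nat.factorization_prime_le_iff_dvd hm0 Nat.card_pos.ne']
    intro p hp
    by_cases hpm : p ∣ m
    · have hpmem : p ∈ m.primeFactors := Nat.mem_primeFactors.mpr ⟨hp, hpm, hm0⟩
      obtain ⟨-, hXc, -, -⟩ := hXf p hp hpm
      have hle : Xf p ≤ K := by
        rw [hK]
        exact le_biSup Xf hpmem
      have h1 : p ^ (Nat.card H).factorization p ∣ Nat.card K := by
        rw [← hXc]
        exact Subgroup.card_dvd_of_le hle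
      have h2 := (hp.pow_dvd_iff_le_factorization Nat.card_pos.ne').mp h1
      have h3' : m.factorization p ≤ (Nat.card H).factorization p :=
        (Nat.factorization_le_iff_dvd hm0 Nat.card_pos.ne').mpr hmH p
      exact h3'.trans h2
    · rw [Nat.factorization_eq_zero_of_not_dvd hpm]
      exact Nat.zero_le _
  have hKm : Nat.card K = m := by
    apply Nat.dvd_antisymm _ hmK
    have h1 : Nat.card K ∣ Nat.card ↥(H ⊓ Subgroup.centralizer (Q : Set G)) * m := by
      rw [hHcard]
      exact Subgroup.card_dvd_of_le hKH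
    exact hKC.dvd_of_dvd_mul_left h1
  refine ⟨K, hKH, ?_, ?_, hKC, ?_⟩
  · intro h hh
    rw [hK]
    exact conj_mem_biSup _ Xf h (fun p hp => (hXf p (hs p hp).1 (hs p hp).2).2.2.1 h hh)
  · intro q hq
    rw [hK]
    exact conj_mem_biSup _ Xf q (fun p hp => (hXf p (hs p hp).1 (hs p hp).2).2.2.2 q hq)
  · rw [hKm, mul_comm]
    exact hHcard

end Cfsg.Agent.H16.Tih
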