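import Mathlib
import Cfsg.Agent.H67.UmDefs

/-!
# UM-AR2B (piece of helper67's project for S2263)

Two primary parts `(a, k)`, `(b, m)` with largest multiplicity two: `t = 1` and
`L = Qn a * Qn b / (q + 1)`.
-/

set_option autoImplicit false

namespace Cfsg.Agent.H16.Um

open Cfsg.Agent.H67.Um

/-- `q + 1` divides `q ^ a - (-1) ^ a`. -/
theorem qn_dvd (q a : ℕ) : (q + 1) ∣ Qn q a := by
  unfold Qn
  split_ifs with h
  · obtain ⟨c, rfl⟩ := h
    have h1 : q ^ 2 - 1 ∣ (q ^ 2) ^ c - 1 ^ c := Nat.sub_dvd_pow_sub_pow (q ^ 2) 1 c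
    have h2 : q + 1 ∣ q ^ 2 - 1 := by
      have := Nat.sq_sub_sq q 1
      rw [one_pow] at this
      rw [this]
      exact Dvd.intro _ rfl
    have h3 : (q ^ 2) ^ c - 1 ^ c = q ^ (c + c) - 1 := by
      rw [one_pow, ← pow_mul, two_mul]
    rw [← h3]
    exact h2.trans h1
  · have h1 := Odd.nat_add_dvd_pow_add_pow q 1 (Nat.not_even_iff_odd.mp h)
    rwa [one_pow] at h1

theorem qn_le (q a : ℕ) : Qn q a ≤ q ^ a + 1 := by
  unfold Qn
  split_ifs <;> omega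

theorem qn_le_of_even (q a : ℕ) (h : Even a) : Qn q a ≤ q ^ a := by
  unfold Qn
  rw [if_pos h]
  omega

theorem qn_pos (q a : ℕ) (hq : 2 ≤ q) (ha : 1 ≤ a) : 1 ≤ Qn q a := by
  unfold Qn
  have h1 : q ^ 1 ≤ q ^ a := Nat.pow_le_pow_right (by omega) ha
  rw [pow_one] at h1
  split_ifs <;> omega

/-- `(q^a + 1)(q^b + 1) ≤ (q + 1)(q^(a+b-1) + 1)`. -/
theorem key1 (q a' b' : ℕ) (hq : 1 ≤ q) :
    (q ^ (a' + 1) + 1) * (q ^ (b' + 1) + 1) ≤ (q + 1) * (q ^ (a' + b' + 1) + 1) := by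
  have hA : 1 ≤ q ^ a' := Nat.one_le_pow _ _ hq
  have hB : 1 ≤ q ^ b' := Nat.one_le_pow _ _ hq
  obtain ⟨A, hA'⟩ : ∃ A, q ^ a' = A + 1 := ⟨q ^ a' - 1, by omega⟩
  obtain ⟨B, hB'⟩ : ∃ B, q ^ b' = B + 1 := ⟨q ^ b' - 1, by omega⟩
  have e1 : q ^ (a' + 1) = q * (A + 1) := by rw [pow_succ, hA', mul_comm]
  have e2 : q ^ (b' + 1) = q * (B + 1) := by rw [pow_succ, hB', mul_comm]
  have e3 : q ^ (a' + b' + 1) = q * (A + 1) * (B + 1) := by
    rw [pow_succ, pow_add, hA', hB']; ring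
  rw [e1, e2, e3]
  have : (q + 1) * (q * (A + 1) * (B + 1) + 1)
      = (q * (A + 1) + 1) * (q * (B + 1) + 1) + q * A * B := by ring
  rw [this]
  exact Nat.le_add_right _ _

/-- `q^a (q^b + 1) ≤ (q + 1) q^(a+b-1)`. -/
theorem key2 (q a' b' : ℕ) (hq : 1 ≤ q) :
    q ^ (a' + 1) * (q ^ (b' + 1) + 1) ≤ (q + 1) * q ^ (a' + b' + 1) := by
  have h1 : q ^ (a' + 1) ≤ q ^ (a' + b' + 1) := Nat.pow_le_pow_right hq (by omega)
  have e : q ^ (a' + 1) * q ^ (b' + 1) = q * q ^ (a' + b' + 1) := by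
    rw [← pow_add, ← pow_succ']
    congr 1
    omega
  calc q ^ (a' + 1) * (q ^ (b' + 1) + 1)
      = q ^ (a' + 1) * q ^ (b' + 1) + q ^ (a' + 1) := by ring
    _ = q * q ^ (a' + b' + 1) + q ^ (a' + 1) := by rw [e]
    _ ≤ q * q ^ (a' + b' + 1) + q ^ (a' + b' + 1) := Nat.add_le_add_left h1 _
    _ = (q + 1) * q ^ (a' + b' + 1) := by ring

theorem ar2b : StAr2b := by
  intro p f d a k b m hp hf hd _hex ha hk hb hm hsum hmax
  obtain ⟨q, hq⟩ : ∃ q, q = p ^ f := ⟨_, rfl⟩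
  have hp2 : 2 ≤ p := hp.two_le
  have hpq : p ≤ q := by
    rw [hq]; exact Nat.le_self_pow (by omega) p
  have hq2 : 2 ≤ q := le_trans hp2 hpq
  obtain ⟨ca, hca⟩ := qn_dvd q a
  obtain ⟨cb, hcb⟩ := qn_dvd q b
  obtain ⟨a', rfl⟩ : ∃ a', a = a' + 1 := ⟨a - 1, by omega⟩
  obtain ⟨b', rfl⟩ : ∃ b', b = b' + 1 := ⟨b - 1, by omega⟩
  obtain ⟨e, rfl⟩ : ∃ e, d = e + 3 := ⟨d - 3, by omega⟩
  obtain ⟨L, hL⟩ : ∃ L, L = (q + 1) * ca * cb := ⟨_, rfl⟩
  have hLmul : (q + 1) * L = Qn q (a' + 1) * Qn q (b' + 1) := by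
    rw [hL, hca, hcb]; ring
  have hLpos : 1 ≤ L := by
    have h1 := qn_pos q (a' + 1) hq2 (by omega)
    have h2 := qn_pos q (b' + 1) hq2 (by omega)
    rcases Nat.eq_zero_or_pos L with h0 | h0
    · rw [h0, mul_zero] at hLmul
      have : 1 ≤ Qn q (a' + 1) * Qn q (b' + 1) := Nat.mul_le_mul h1 h2
      omega
    · exact h0
  -- bounds on `L`
  have hL1 : L ≤ q ^ (a' + b' + 1) + 1 := by
    have h1 : (q + 1) * L ≤ (q + 1) * (q ^ (a' + b' + 1) + 1) := by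
      rw [hLmul]
      exact (Nat.mul_le_mul (qn_le q (a' + 1)) (qn_le q (b' + 1))).trans (key1 q a' b' (by omega))
    exact Nat.le_of_mul_le_mul_left h1 (by omega)
  have hLa : Even (a' + 1) → L ≤ q ^ (a' + b' + 1) := by
    intro hev
    have h1 : (q + 1) * L ≤ (q + 1) * q ^ (a' + b' + 1) := by
      rw [hLmul]
      exact (Nat.mul_le_mul (qn_le_of_even q (a' + 1) hev) (qn_le q (b' + 1))).trans
        (key2 q a' b' (by omega))
    exact Nat.le_of_mul_le_mul_left h1 (by omega)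
  have hLb : Even (b' + 1) → L ≤ q ^ (a' + b' + 1) := by
    intro hev
    have h1 : (q + 1) * L ≤ (q + 1) * q ^ (b' + a' + 1) := by
      rw [hLmul, mul_comm (Qn q (a' + 1))]
      exact (Nat.mul_le_mul (qn_le_of_even q (b' + 1) hev) (qn_le q (a' + 1))).trans
        (key2 q b' a' (by omega))
    have h2 : b' + a' + 1 = a' + b' + 1 := by omega
    rw [h2] at h1
    exact Nat.le_of_mul_le_mul_left h1 (by omega)
  obtain ⟨Y, hY⟩ : ∃ Y, Y = q ^ (e + 1) := ⟨_, rfl⟩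
  have hYq : q ≤ Y := by
    rw [hY]
    calc q = q ^ 1 := (pow_one q).symm
      _ ≤ q ^ (e + 1) := Nat.pow_le_pow_right (by omega) (by omega)
  have hkm : (k = 2 ∧ m = 1) ∨ (k = 1 ∧ m = 2) ∨ (k = 2 ∧ m = 2) := by omega
  -- exponent bounds
  have hn : a' + b' + 1 ≤ e + 1 := by
    rcases hkm with ⟨rfl, rfl⟩ | ⟨rfl, rfl⟩ | ⟨rfl, rfl⟩ <;> omega
  have hnY : q ^ (a' + b' + 1) ≤ Y := by
    rw [hY]; exact Nat.pow_le_pow_right (by omega) hn
  have hLY : L ≤ Y + 1 := hL1.trans (by omega)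
  -- the special bound for `d` even, `f = 1`
  have hspec : Even (e + 3) → L * q ≤ q * Y + 1 := by
    intro hev
    have hev' : (e + 3) % 2 = 0 := Nat.even_iff.mp hev
    rcases hkm with ⟨rfl, rfl⟩ | ⟨rfl, rfl⟩ | ⟨rfl, rfl⟩
    · have hb' : Even (b' + 1) := Nat.even_iff.mpr (by omega)
      have h1 : L ≤ Y := (hLb hb').trans hnY
      calc L * q ≤ Y * q := Nat.mul_le_mul_right q h1
        _ = q * Y := mul_comm _ _
        _ ≤ q * Y + 1 := Nat.le_succ _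
    · have ha' : Even (a' + 1) := Nat.even_iff.mpr (by omega)
      have h1 : L ≤ Y := (hLa ha').trans hnY
      calc L * q ≤ Y * q := Nat.mul_le_mul_right q h1
        _ = q * Y := mul_comm _ _
        _ ≤ q * Y + 1 := Nat.le_succ _
    · have h1 : q ^ (a' + b' + 2) ≤ Y := by
        rw [hY]; exact Nat.pow_le_pow_right (by omega) (by omega)
      have h2 : L * q ≤ (q ^ (a' + b' + 1) + 1) * q := Nat.mul_le_mul_right q hL1
      have h3 : (q ^ (a' + b' + 1) + 1) * q = q ^ (a' + b' + 2) + q := by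
        rw [pow_succ q (a' + b' + 1)]; ring
      have h4 : Y + q ≤ q * Y + 1 := by nlinarith
      omega
  refine ⟨L, 1, hLpos, ?_, ?_, ?_, ?_, ?_⟩
  · rw [← hq, hca, hL]
    exact Dvd.intro cb (by ring)
  · rw [← hq, hcb, hL]
    exact Dvd.intro ca (by ring)
  · rw [pow_one]; omega
  · rw [pow_one]; omega
  · rw [pow_one]
    unfold tgt
    rw [← hq]
    have hd1 : e + 3 - 1 = e + 2 := by omega
    have hd2 : e + 3 - 2 = e + 1 := by omega
    have hd3 : e + 3 - 3 = e := by omega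
    rw [hd1, hd2, hd3]
    have hqY : q ^ (e + 2) = q * Y := by rw [hY, pow_succ q (e + 1)]; ring
    rw [hqY]
    have hLp : L * p ≤ (Y + 1) * p := Nat.mul_le_mul_right p hLY
    -- the bound for `f ≥ 2`
    have hf2 : 2 ≤ f → L * p + 1 ≤ q * Y := by
      intro h2f
      have h2pq : 2 * p ≤ q := by
        rw [hq]
        calc 2 * p ≤ p * p := Nat.mul_le_mul_right p hp2
          _ = p ^ 2 := (sq p).symm
          _ ≤ p ^ f := Nat.pow_le_pow_right (by omega) h2f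
      have h2 : (Y + 1) * (2 * p) ≤ (Y + 1) * q := Nat.mul_le_mul_left _ h2pq
      have h3 : q + 2 ≤ q * Y := by nlinarith
      nlinarith
    have hf1 : ¬ 2 ≤ f → q = p := by
      intro h
      have : f = 1 := by omega
      rw [hq, this, pow_one]
    split_ifs with ho h2f h2q
    · have := hf2 h2f
      omega
    · have hqp := hf1 h2f
      rw [← hqp, ← hY]
      exact Nat.mul_le_mul_right q hLY
    · by_cases h2f : 2 ≤ f
      · have := hf2 h2f
        omega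
      · have hqp := hf1 h2f
        rw [← hqp]
        exact hspec (Nat.not_odd_iff_even.mp ho)
    · have hq2' : q = 2 := by omega
      have hp2' : p = 2 := by omega
      have hY2 : Y = 2 * 2 ^ e := by rw [hY, hq2', pow_succ]; ring
      rw [hp2'] at hLp ⊢
      omega

example : StAr2b := ar2b

end Cfsg.Agent.H16.Um
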