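import Mathlib
import Cfsg.Agent.H57.W4Defs
import Cfsg.Agent.H51.JcNORM

/-!
# W4-ACT (piece of helper57's W4 project for S2948 / S2949)

If `K = [K, J(T)]` and `|K : O₂(K)| = 3`, some elementary abelian subgroup `A` of largest order
of `T` normalizes `K` and does not centralize `K / O₂(K)`.

`J(T)` normalizes `K`; the elements `g ∈ N(K)` with `[g, K] ⊆ O₂(K)` form a subgroup `S`; if
`S` contained every `A` it would contain `J(T)`, and then `K = [K, J(T)] ≤ O₂(K)`.
-/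

set_option autoImplicit false

namespace Cfsg.Agent.H16.W4

open Cfsg Cfsg.Agent.H57.W4
open scoped commutatorElement

universe u

theorem act : StAct.{u} := by
  intro G _ _ T K hKJ hidx
  classical
  obtain ⟨O, hO⟩ : ∃ O, O = pCoreOf 2 K := ⟨_, rfl⟩
  have hOK : O ≤ K := hO ▸ (Cfsg.Agent.H51.Jc.pCoreOf_facts K).1
  have hNO : Subgroup.normalizer (K : Set G) ≤ Subgroup.normalizer (O : Set G) :=
    hO ▸ Cfsg.Agent.H31.X.H54.normalizer_le_normalizer_pCoreOf (p := 2) K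
  have hJN : thompsonSubgroupOf 2 T ≤ Subgroup.normalizer (K : Set G) :=
    Cfsg.Agent.H51.Jc.le_normalizer_of_comm hKJ
  have hconjO : ∀ g ∈ Subgroup.normalizer (K : Set G), ∀ o ∈ O, g * o * g⁻¹ ∈ O :=
    fun g hg o ho => (Subgroup.mem_normalizer_iff.mp (hNO hg) o).mp ho
  -- the subgroup of elements of `N(K)` centralizing `K / O`
  let S : Subgroup G :=
    { carrier := {g | g ∈ Subgroup.normalizer (K : Set G) ∧ ∀ k ∈ K, g * k * g⁻¹ * k⁻¹ ∈ O}
      one_mem' := ⟨Subgroup.one_mem _, fun k _ => by simp⟩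
      mul_mem' := by
        rintro g h ⟨hg, hgk⟩ ⟨hh, hhk⟩
        refine ⟨Subgroup.mul_mem _ hg hh, fun k hk => ?_⟩
        have e : g * h * k * (g * h)⁻¹ * k⁻¹
            = (g * (h * k * h⁻¹ * k⁻¹) * g⁻¹) * (g * k * g⁻¹ * k⁻¹) := by group
        rw [e]
        exact Subgroup.mul_mem _ (hconjO g hg _ (hhk k hk)) (hgk k hk)
      inv_mem' := by
        rintro g ⟨hg, hgk⟩
        refine ⟨Subgroup.inv_mem _ hg, fun k hk => ?_⟩
        have e : g⁻¹ * k * g⁻¹⁻¹ * k⁻¹ = g⁻¹ * (g * k * g⁻¹ * k⁻¹)⁻¹ * g⁻¹⁻¹ := by group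
        rw [e]
        exact hconjO g⁻¹ (Subgroup.inv_mem _ hg) _ (Subgroup.inv_mem _ (hgk k hk)) }
  have hmemS : ∀ g, g ∈ S ↔
      (g ∈ Subgroup.normalizer (K : Set G) ∧ ∀ k ∈ K, g * k * g⁻¹ * k⁻¹ ∈ O) :=
    fun g => Iff.rfl
  -- `J(T)` is not inside `S`
  have hJS : ¬ thompsonSubgroupOf 2 T ≤ S := by
    intro hle
    have hKO : ⁅K, thompsonSubgroupOf 2 T⁆ ≤ O := by
      rw [Subgroup.commutator_le]
      intro k hk j hj
      have h1 := ((hmemS j).1 (hle hj)).2 k hk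
      have e : ⁅k, j⁆ = (j * k * j⁻¹ * k⁻¹)⁻¹ := by
        simp only [commutatorElement_def]; group
      rw [e]; exact Subgroup.inv_mem _ h1
    rw [hKJ] at hKO
    have hEq : O = K := le_antisymm hOK hKO
    rw [← hO, hEq, Subgroup.relIndex_self] at hidx
    exact absurd hidx (by norm_num)
  have hex : ∃ A' ∈ maxElementaryAbelianSubgroups 2 ↥T, ¬ A'.map T.subtype ≤ S := by
    by_contra hno
    apply hJS
    unfold thompsonSubgroupOf thompsonSubgroup
    rw [Subgroup.map_le_iff_le_comap]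
    apply sSup_le
    intro A' hA'
    rw [← Subgroup.map_le_iff_le_comap]
    by_contra hA
    exact hno ⟨A', hA', hA⟩
  obtain ⟨A', hA', hAS⟩ := hex
  have hAJ : A'.map T.subtype ≤ thompsonSubgroupOf 2 T := by
    unfold thompsonSubgroupOf thompsonSubgroup
    exact Subgroup.map_mono (le_sSup hA')
  obtain ⟨a, haA, haS⟩ := SetLike.not_le_iff_exists.mp hAS
  have haN : a ∈ Subgroup.normalizer (K : Set G) := hJN (hAJ haA)
  have hak : ∃ k ∈ K, a * k * a⁻¹ * k⁻¹ ∉ O := by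
    by_contra hno
    apply haS
    refine (hmemS a).2 ⟨haN, fun k hk => ?_⟩
    by_contra hk'
    exact hno ⟨k, hk, hk'⟩
  obtain ⟨k, hk, hko⟩ := hak
  refine ⟨A'.map T.subtype, Subgroup.map_subtype_le _, hAJ.trans hJN, ?_, ?_, ?_,
    a, haA, k, hk, hO ▸ hko⟩
  · rintro _ ⟨b, hb, rfl⟩ _ ⟨c, hc, rfl⟩
    have hcomm : (⟨b, hb⟩ : ↥A') * ⟨c, hc⟩ = ⟨c, hc⟩ * ⟨b, hb⟩ := hA'.1.1.is_comm.comm _ _
    have h1 : b * c = c * b := congrArg Subtype.val hcomm
    have h2 := congrArg Subtype.val h1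
    simpa using h2
  · rintro _ ⟨b, hb, rfl⟩
    have h1 : b ^ 2 = 1 := hA'.1.2 b hb
    have h2 := congrArg Subtype.val h1
    simpa [pow_two] using h2
  · intro B hBT hBc hB2
    have hB' : IsElementaryAbelian 2 (B.subgroupOf T) := by
      refine ⟨⟨⟨fun x y => ?_⟩⟩, ?_⟩
      · apply Subtype.ext
        apply Subtype.ext
        exact hBc _ (Subgroup.mem_subgroupOf.mp x.2) _ (Subgroup.mem_subgroupOf.mp y.2)
      · intro x hx
        apply Subtype.ext
        have := hB2 _ (Subgroup.mem_subgroupOf.mp hx)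
        simpa [pow_two] using this
    have h1 := hA'.2 _ hB'
    have h2 : Nat.card ↥(B.subgroupOf T) = Nat.card ↥B :=
      Nat.card_congr (Subgroup.subgroupOfEquivOfLe hBT).toEquiv
    have h3 : Nat.card ↥(A'.map T.subtype) = Nat.card ↥A' :=
      Subgroup.card_map_of_injective (Subgroup.subtype_injective T)
    rw [h2] at h1
    rw [h3]
    exact h1

example : StAct.{u} := act

end Cfsg.Agent.H16.W4
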