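import Mathlib
import Cfsg.Agent.H57.W4Defs
import Cfsg.Agent.H51.JcNORM

/-!
# W4-BASIC (piece of helper57's W4 project for S2948 / S2949)

Canonical facts about `O₂(K)` and `W_K = [Ω₁(Z(O₂(K))), K]`, collected from `H51/JcNORM.lean`.
-/

set_option autoImplicit false

namespace Cfsg.Agent.H16.W4

open Cfsg Cfsg.Agent.H57.W4

universe u

/-- Every element of `Ω₁(Z(Q))` squares to `1`. -/
theorem omegaCenterOf_sq {G : Type u} [Group G] (Q : Subgroup G) :
    ∀ u ∈ omegaCenterOf Q, u * u = 1 := by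
  have hle : omegaCenterOf Q ≤ Q ⊓ Subgroup.centralizer (Q : Set G) := by
    unfold omegaCenterOf omegaOne
    rw [Subgroup.closure_le]
    rintro z ⟨hz, -⟩
    exact hz
  have key : ∀ u ∈ Subgroup.closure
      {x : G | x ∈ Q ⊓ Subgroup.centralizer (Q : Set G) ∧ x ^ 2 = 1},
      u ∈ Q ⊓ Subgroup.centralizer (Q : Set G) ∧ u * u = 1 := by
    intro u hu
    induction hu using Subgroup.closure_induction with
    | mem x hx => exact ⟨hx.1, by rw [← pow_two]; exact hx.2⟩
    | one => exact ⟨Subgroup.one_mem _, by simp⟩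
    | mul x y _ _ hx hy =>
      refine ⟨Subgroup.mul_mem _ hx.1 hy.1, ?_⟩
      have hc : y * x = x * y :=
        Subgroup.mem_centralizer_iff.mp (Subgroup.mem_inf.mp hx.1).2 y (Subgroup.mem_inf.mp hy.1).1
      calc x * y * (x * y) = x * (y * x) * y := by group
        _ = x * (x * y) * y := by rw [hc]
        _ = (x * x) * (y * y) := by group
        _ = 1 := by rw [hx.2, hy.2, mul_one]
    | inv x _ hx =>
      refine ⟨Subgroup.inv_mem _ hx.1, ?_⟩
      calc x⁻¹ * x⁻¹ = (x * x)⁻¹ := by group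
        _ = 1 := by rw [hx.2, inv_one]
  intro u hu
  exact (key u hu).2

theorem basic : StBasic.{u} := by
  intro G _ _ K
  have hN := Cfsg.Agent.H31.X.H54.normalizer_le_normalizer_pCoreOf (p := 2) K
  refine ⟨(Cfsg.Agent.H51.Jc.pCoreOf_facts K).1, (Cfsg.Agent.H51.Jc.pCoreOf_facts K).2.2,
    ?_, ?_, ?_, ?_, ?_, Cfsg.Agent.H51.Jc.wOf_le K⟩
  · intro g hg o ho
    exact (Subgroup.mem_normalizer_iff.mp (hN hg) o).mp ho
  · intro g hg u hu
    exact Cfsg.Agent.H51.Jc.wOf_norm (K := K) (J := Subgroup.normalizer (K : Set G)) le_rfl g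
      (Subgroup.mem_sup_right hg) u hu
  · intro u hu v hv
    exact Cfsg.Agent.H51.Jc.pCoreOf_comm_wOf K u (Cfsg.Agent.H51.Jc.wOf_le K hu) v hv
  · intro u hu
    exact omegaCenterOf_sq _ u (Cfsg.Agent.H51.Jc.wOf_le_omegaCenterOf K hu)
  · intro o ho u hu
    have h := Cfsg.Agent.H51.Jc.pCoreOf_comm_wOf K o ho u hu
    rw [h]; group

example : StBasic.{u} := basic

end Cfsg.Agent.H16.W4
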