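import Mathlib
import Cfsg.Agent.H57.W4Defs
import Cfsg.Agent.H16.JxFun

/-!
# W4-CNT (piece of helper57's W4 project for S2948 / S2949)

An abelian 2-group `E` acting by conjugation on an elementary abelian 2-group `U` whose only
possible nontrivial fixed point is `s` satisfies `2 |E| ≤ |U| · |C_E(U)|`.
Immediate from `Cfsg.Agent.H16.Jx.fn` (the same statement with `|E : C_E(U)|`).
-/

set_option autoImplicit false

namespace Cfsg.Agent.H16.W4

open Cfsg Cfsg.Agent.H57.W4

universe u

theorem cnt : StCnt.{u} := by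
  intro G _ _ E U s hEc hE2 hUc hU2 hEU hsU hs1 hfix
  classical
  have hUne : U ≠ ⊥ := by
    intro h
    rw [h, Subgroup.mem_bot] at hsU
    exact hs1 hsU
  have hsub : ((U ⊓ Subgroup.centralizer (E : Set G) : Subgroup G) : Set G) ⊆ ({1, s} : Set G) := by
    intro v hv
    have hv' : v ∈ U ⊓ Subgroup.centralizer (E : Set G) := hv
    obtain ⟨hvU, hvC⟩ := Subgroup.mem_inf.mp hv'
    rw [Subgroup.mem_centralizer_iff] at hvC
    have h := hfix v hvU (fun e he => by
      have h1 := hvC e he
      calc e * v * e⁻¹ = v * e * e⁻¹ := by rw [h1]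
        _ = v := by group)
    simpa using h
  have hF : Nat.card ↥(U ⊓ Subgroup.centralizer (E : Set G)) ≤ 2 := by
    have h1 : Nat.card ↥(U ⊓ Subgroup.centralizer (E : Set G))
        = ((U ⊓ Subgroup.centralizer (E : Set G) : Subgroup G) : Set G).ncard := rfl
    have h2 := Set.ncard_le_ncard hsub (Set.toFinite _)
    have h3 : ({1, s} : Set G).ncard ≤ 2 := Set.ncard_insert_le 1 {s} |>.trans (by simp)
    omega
  have hfn := Cfsg.Agent.H16.Jx.fn E U hEc hE2 hUc hU2 hEU hF hUne
  have hidx : Nat.card ↥((E ⊓ Subgroup.centralizer (U : Set G)).subgroupOf E)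
      * ((E ⊓ Subgroup.centralizer (U : Set G)).subgroupOf E).index = Nat.card ↥E :=
    Subgroup.card_mul_index _
  have hcard : Nat.card ↥((E ⊓ Subgroup.centralizer (U : Set G)).subgroupOf E)
      = Nat.card ↥(E ⊓ Subgroup.centralizer (U : Set G)) :=
    Nat.card_congr (Subgroup.subgroupOfEquivOfLe inf_le_left).toEquiv
  have hrel : (E ⊓ Subgroup.centralizer (U : Set G)).relIndex E
      = ((E ⊓ Subgroup.centralizer (U : Set G)).subgroupOf E).index := rfl
  rw [hrel] at hfn
  rw [hcard] at hidx
  calc 2 * Nat.card ↥E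
      = (2 * ((E ⊓ Subgroup.centralizer (U : Set G)).subgroupOf E).index)
          * Nat.card ↥(E ⊓ Subgroup.centralizer (U : Set G)) := by rw [← hidx]; ring
    _ ≤ Nat.card ↥U * Nat.card ↥(E ⊓ Subgroup.centralizer (U : Set G)) :=
        Nat.mul_le_mul_right _ hfn

example : StCnt.{u} := cnt

end Cfsg.Agent.H16.W4
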