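import Cfsg.Agent.H88.X23Base

/-!
# S2649 X23-COLLECT (helper16, for helper88): a normalised cocycle on the indices `< 128` is given by
the collected forms `PhiL`.
-/

set_option autoImplicit false

namespace Cfsg.Agent.H16.X23

open Cfsg.Agent.H88.X23

/-- forms: lists of triples. -/
abbrev Form := List (ℕ × ℕ × ℕ)

/-- concatenation of two optional forms. -/
def comb : Option Form → Option Form → Option Form
  | some L, some L' => some (L ++ L')
  | _, _ => none

theorem comb_none_left (o : Option Form) : comb none o = none := by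
  cases o <;> rfl

theorem comb_some_none (L : Form) : comb (some L) none = none := rfl

theorem comb_some_some (L L' : Form) : comb (some L) (some L') = some (L ++ L') := rfl

/-- the step of the folds in `phiF` and `PhiL`. -/
def stp (sel : ℕ → Bool) (g : ℕ → Option Form) (acc : Option Form) (l : ℕ) : Option Form :=
  if sel l then comb acc (g l) else acc

/-- the XOR of the selected values below `j`. -/
def pairSum (sel : ℕ → Bool) (val : ℕ → ℕ) : ℕ → ℕ
  | 0 => 0
  | j + 1 => pairSum sel val j ^^^ (if sel j then val j else 0)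

theorem pairSum_zero (sel : ℕ → Bool) (val : ℕ → ℕ) : pairSum sel val 0 = 0 := rfl

theorem pairSum_succ (sel : ℕ → Bool) (val : ℕ → ℕ) (j : ℕ) :
    pairSum sel val (j + 1) = pairSum sel val j ^^^ (if sel j then val j else 0) := rfl

theorem evalL_nil (act F : ℕ → ℕ → ℕ) : evalL act F [] = 0 := rfl

theorem evalL_cons (act F : ℕ → ℕ → ℕ) (t : ℕ × ℕ × ℕ) (L : Form) :
    evalL act F (t :: L) = act t.1 (F (2 ^ t.2.1) (2 ^ t.2.2)) ^^^ evalL act F L := rfl

theorem evalL_append (act F : ℕ → ℕ → ℕ) (L L' : Form) :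
    evalL act F (L ++ L') = evalL act F L ^^^ evalL act F L' := by
  induction L with
  | nil => rw [List.nil_append, evalL_nil, Nat.zero_xor]
  | cons t L ih => rw [List.cons_append, evalL_cons, evalL_cons, ih, Nat.xor_assoc]

theorem phiF_zero (MUL : ℕ → ℕ → ℕ) (e i : ℕ) : phiF MUL 0 e i = none := rfl

theorem phiF_succ (MUL : ℕ → ℕ → ℕ) (f e i : ℕ) : phiF MUL (f + 1) e i =
    if e < 2 ^ i then some []
    else (List.range 7).foldl (stp (fun l => (MUL (2 ^ Nat.log2 e) (2 ^ i)).testBit l)
      (fun l => phiF MUL f (MUL (e - 2 ^ Nat.log2 e) (MUL (2 ^ Nat.log2 e) (2 ^ i) % 2 ^ l)) l))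
      (some [(e - 2 ^ Nat.log2 e, Nat.log2 e, i)]) := rfl

theorem PhiL_eq (MUL : ℕ → ℕ → ℕ) (fuel a b : ℕ) : PhiL MUL fuel a b =
    (List.range 7).foldl (stp (fun l => b.testBit l)
      (fun l => phiF MUL fuel (MUL a (b % 2 ^ l)) l)) (some []) := rfl

theorem fold_eval (act F : ℕ → ℕ → ℕ) (sel : ℕ → Bool) (g : ℕ → Option Form) (val : ℕ → ℕ)
    (L0 : Form) :
    ∀ n, (∀ l < n, sel l = true → ∀ L', g l = some L' → val l = evalL act F L') →
    ∀ L, (List.range n).foldl (stp sel g) (some L0) = some L →
      evalL act F L = evalL act F L0 ^^^ pairSum sel val n := by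
  intro n
  induction n with
  | zero =>
    intro _ L hL
    have h1 : L0 = L := Option.some.inj hL
    rw [← h1, pairSum_zero, Nat.xor_zero]
  | succ n ih =>
    intro hyp L hL
    rw [List.range_succ, List.foldl_append, List.foldl_cons, List.foldl_nil] at hL
    have ih' := ih (fun l hl => hyp l (Nat.lt_succ_of_lt hl))
    cases hacc : (List.range n).foldl (stp sel g) (some L0) with
    | none =>
      rw [hacc] at hL
      unfold stp at hL
      by_cases hs : sel n = true
      · rw [if_pos hs, comb_none_left] at hL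
        exact absurd hL (by simp)
      · rw [if_neg hs] at hL
        exact absurd hL (by simp)
    | some L1 =>
      rw [hacc] at hL
      have h1 := ih' L1 hacc
      unfold stp at hL
      by_cases hs : sel n = true
      · rw [if_pos hs] at hL
        cases hg : g n with
        | none =>
          rw [hg, comb_some_none] at hL
          exact absurd hL (by simp)
        | some L' =>
          rw [hg, comb_some_some] at hL
          have hLL : L1 ++ L' = L := Option.some.inj hL
          rw [← hLL, evalL_append, h1, pairSum_succ, if_pos hs,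
            hyp n (Nat.lt_succ_self n) hs L' hg, Nat.xor_assoc]
      · rw [if_neg hs] at hL
        have hLL : L1 = L := Option.some.inj hL
        rw [← hLL, h1, pairSum_succ, if_neg hs, Nat.xor_zero]

/-- **X23-COLLECT**. -/
theorem collect : Cfsg.Agent.H88.X23.StCollect := by
  intro MUL act F hM hM0 hMk hact0 hactadd hF00 hFk hcoc
  have h128 : ∀ k, k < 7 → 2 ^ k < 128 := by
    intro k hk
    have h1 : 2 ^ k < 2 ^ 7 := Nat.pow_lt_pow_right (by norm_num) hk
    norm_num at h1
    exact h1
  have hFy0 : ∀ y < 128, F y 0 = 0 := by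
    intro y hy
    have h1 := hcoc y hy 0 (by norm_num) 0 (by norm_num)
    rw [hF00, hact0, hM0 0 (by norm_num), hM0 y hy, Nat.zero_xor, Nat.xor_self] at h1
    exact h1
  have hpair : ∀ y < 128, ∀ q j, j ≤ 7 →
      F y (q % 2 ^ j) =
        pairSum (fun l => q.testBit l) (fun l => F (MUL y (q % 2 ^ l)) (2 ^ l)) j := by
    intro y hy q j
    induction j with
    | zero =>
      intro _
      rw [pow_zero, Nat.mod_one, hFy0 y hy, pairSum_zero]
    | succ j ih =>
      intro hj
      have hj7 : j < 7 := hj
      have ih' := ih (Nat.le_of_lt hj7)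
      have hmod : q % 2 ^ j < 2 ^ j := Nat.mod_lt _ (by positivity)
      rw [pairSum_succ, ← ih', Nat.mod_pow_succ]
      by_cases hb : q.testBit j = true
      · have hd : q / 2 ^ j % 2 = 1 := by
          rw [Nat.testBit_eq_decide_div_mod_eq] at hb
          exact of_decide_eq_true hb
        rw [if_pos hb, hd, mul_one]
        have h1 := hcoc y hy (q % 2 ^ j) (lt_trans hmod (h128 j hj7)) (2 ^ j) (h128 j hj7)
        rw [hFk j hj7 _ hmod, hact0, Nat.zero_xor, hMk j hj7 _ hmod] at h1
        exact h1
      · have hd : q / 2 ^ j % 2 = 0 := by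
          rw [Nat.testBit_eq_decide_div_mod_eq] at hb
          have h3 := Nat.mod_two_eq_zero_or_one (q / 2 ^ j)
          rcases h3 with h3 | h3
          · exact h3
          · exact absurd (decide_eq_true h3) hb
        rw [if_neg hb, hd, mul_zero, add_zero, Nat.xor_zero]
  have hphi : ∀ f, ∀ e < 128, ∀ i < 7, ∀ L, phiF MUL f e i = some L →
      F e (2 ^ i) = evalL act F L := by
    intro f
    induction f with
    | zero =>
      intro e _ i _ L hL
      rw [phiF_zero] at hL
      exact absurd hL (by simp)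
    | succ f ih =>
      intro e he i hi L hL
      rw [phiF_succ] at hL
      by_cases hei : e < 2 ^ i
      · rw [if_pos hei] at hL
        have h1 : L = [] := (Option.some.inj hL).symm
        rw [h1, evalL_nil, hFk i hi e hei]
      · rw [if_neg hei] at hL
        have he0 : e ≠ 0 := by
          intro h0
          apply hei
          rw [h0]
          positivity
        have hk1 : 2 ^ Nat.log2 e ≤ e := Nat.log2_self_le he0
        have hk2 : e < 2 ^ (Nat.log2 e + 1) := Nat.lt_log2_self
        have hk7 : Nat.log2 e < 7 := (Nat.log2_lt he0).mpr (by norm_num; exact he)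
        generalize Nat.log2 e = k at hL hk1 hk2 hk7
        have hep : e - 2 ^ k < 2 ^ k := by
          rw [pow_succ] at hk2
          omega
        have hep128 : e - 2 ^ k < 128 := lt_of_le_of_lt (Nat.sub_le _ _) he
        have hq : MUL (2 ^ k) (2 ^ i) < 128 := hM _ (h128 k hk7) _ (h128 i hi)
        have h1 := hcoc (e - 2 ^ k) hep128 (2 ^ k) (h128 k hk7) (2 ^ i) (h128 i hi)
        rw [hFk k hk7 _ hep, hMk k hk7 _ hep, Nat.sub_add_cancel hk1, Nat.zero_xor] at h1
        have h2 := fold_eval act F (fun l => (MUL (2 ^ k) (2 ^ i)).testBit l)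
          (fun l => phiF MUL f (MUL (e - 2 ^ k) (MUL (2 ^ k) (2 ^ i) % 2 ^ l)) l)
          (fun l => F (MUL (e - 2 ^ k) (MUL (2 ^ k) (2 ^ i) % 2 ^ l)) (2 ^ l))
          [(e - 2 ^ k, k, i)] 7
          (fun l hl _ L' hL' =>
            ih _ (hM _ hep128 _ (lt_of_le_of_lt (Nat.mod_le _ _) hq)) l hl L' hL') L hL
        have h3 : MUL (2 ^ k) (2 ^ i) % 2 ^ 7 = MUL (2 ^ k) (2 ^ i) :=
          Nat.mod_eq_of_lt (by norm_num; exact hq)
        rw [h2, ← hpair _ hep128 _ 7 le_rfl, h3, ← h1, evalL_cons, evalL_nil, Nat.xor_zero]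
  intro fuel a ha b hb L hL
  rw [PhiL_eq] at hL
  have h2 := fold_eval act F (fun l => b.testBit l)
    (fun l => phiF MUL fuel (MUL a (b % 2 ^ l)) l)
    (fun l => F (MUL a (b % 2 ^ l)) (2 ^ l)) [] 7
    (fun l hl _ L' hL' =>
      hphi fuel _ (hM a ha _ (lt_of_le_of_lt (Nat.mod_le _ _) hb)) l hl L' hL') L hL
  have h3 : b % 2 ^ 7 = b := Nat.mod_eq_of_lt (by norm_num; exact hb)
  rw [h2, ← hpair a ha b 7 le_rfl, evalL_nil, Nat.zero_xor, h3]

end Cfsg.Agent.H16.X23
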