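import Cfsg.Agent.H88.X23Pieces
import Cfsg.Agent.H16.X23Collect

/-!
# S2649 X23-PHI (helper16, for helper88): the forms of all `F a b` exist with fuel 12 and have
admissible entries (from the kernel checks `chkPhi_ok` and `chkMul_ok`).
-/

set_option autoImplicit false

namespace Cfsg.Agent.H16.X23

open Cfsg.Agent.H88.X23

theorem fold_some (Pr : ℕ × ℕ × ℕ → Prop) (sel : ℕ → Bool) (g : ℕ → Option Form) (L0 : Form)
    (h0 : ∀ x ∈ L0, Pr x) :
    ∀ n, (∀ l < n, sel l = true → ∃ L', g l = some L' ∧ ∀ x ∈ L', Pr x) →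
    ∃ L, (List.range n).foldl (stp sel g) (some L0) = some L ∧ ∀ x ∈ L, Pr x := by
  intro n
  induction n with
  | zero =>
    intro _
    exact ⟨L0, rfl, h0⟩
  | succ n ih =>
    intro hyp
    obtain ⟨L1, hL1, hP1⟩ := ih (fun l hl => hyp l (Nat.lt_succ_of_lt hl))
    rw [List.range_succ, List.foldl_append, List.foldl_cons, List.foldl_nil, hL1]
    unfold stp
    by_cases hs : sel n = true
    · obtain ⟨L', hL', hP'⟩ := hyp n (Nat.lt_succ_self n) hs
      rw [if_pos hs, hL', comb_some_some]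
      refine ⟨L1 ++ L', rfl, ?_⟩
      intro x hx
      rcases List.mem_append.mp hx with h | h
      · exact hP1 x h
      · exact hP' x h
    · rw [if_neg hs]
      exact ⟨L1, rfl, hP1⟩

/-- **X23-PHI**. -/
theorem phi : Cfsg.Agent.H88.X23.StPhi := by
  intro a ha b hb
  have hmul : ∀ a < 128, ∀ b < 128, mulT a b < 128 := by
    intro a ha b hb
    have h0 := chkMul_ok
    unfold chkMul at h0
    have h1 := (allN_iff _ _).mp h0 a ha
    rw [Bool.and_eq_true] at h1
    have h2 := (allN_iff _ _).mp h1.1 b hb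
    exact Nat.le_of_ble_eq_true h2
  have hphi : ∀ e < 128, ∀ i < 7, ∃ L, phiF mulT 12 e i = some L ∧
      ∀ x ∈ L, x.1 < 128 ∧ x.2.2 ≤ x.2.1 ∧ x.2.1 < 7 := by
    intro e he i hi
    have h0 := chkPhi_ok
    unfold chkPhi at h0
    have h1 := (allN_iff _ _).mp ((allN_iff _ _).mp h0 e he) i hi
    cases hph : phiF mulT 12 e i with
    | none =>
      rw [hph] at h1
      exact absurd h1 (by simp)
    | some L =>
      rw [hph] at h1
      refine ⟨L, rfl, ?_⟩
      intro x hx
      have h2 : L.all (fun x => Nat.blt x.1 128 && (Nat.ble x.2.2 x.2.1 && Nat.blt x.2.1 7)) =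
          true := h1
      have h3 := List.all_eq_true.mp h2 x hx
      simp only [Bool.and_eq_true, Nat.blt_eq, Nat.ble_eq] at h3
      exact h3
  rw [PhiL_eq]
  apply fold_some (fun x => x.1 < 128 ∧ x.2.2 ≤ x.2.1 ∧ x.2.1 < 7)
  · intro x hx
    exact absurd hx (List.not_mem_nil)
  · intro l hl _
    exact hphi _ (hmul a ha _ (lt_of_le_of_lt (Nat.mod_le _ _) hb)) l hl

end Cfsg.Agent.H16.X23
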