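import Mathlib
import Cfsg.Prelude.Def_LieExceptional

set_option autoImplicit false

namespace Cfsg.Agent.H16

open MulAction
open scoped Pointwise

variable {G Ω : Type*} [Group G] [MulAction G Ω]

/-- In a Zassenhaus group, a non-identity element has at most two fixed points. -/
theorem zass_card_fixedBy_le_two [Finite Ω] (hZ : Cfsg.IsZassenhausGroup G Ω) {g : G} (hg : g ≠ 1) :
    Nat.card (MulAction.fixedBy Ω g) ≤ 2 := by
  obtain ⟨_, _, h3pt, _, _⟩ := hZ
  by_contra hcon
  push Not at hcon
  rw [Nat.card_coe_set_eq, Set.two_lt_ncard] at hcon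
  obtain ⟨a, ha, b, hb, c, hc, hab, hac, hbc⟩ := hcon
  exact hg (h3pt g a b c hab hbc hac ha hb hc)

/-- The fixed points of the cyclic group generated by `s` are the points fixed by `s`. -/
theorem fixedPoints_zpowers_eq (s : G) :
    MulAction.fixedPoints (Subgroup.zpowers s) Ω = MulAction.fixedBy Ω s := by
  ext x
  rw [MulAction.mem_fixedPoints, MulAction.mem_fixedBy]
  constructor
  · intro h
    exact h ⟨s, Subgroup.mem_zpowers s⟩
  · intro h g
    have hs : s ∈ MulAction.stabilizer G x := h
    have : Subgroup.zpowers s ≤ MulAction.stabilizer G x := by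
      rw [Subgroup.zpowers_le]; exact hs
    exact this g.2

/-- An involution has a number of fixed points congruent mod 2 to the degree. -/
theorem involution_card_fixedBy_modEq [Finite Ω] {s : G} (hs : orderOf s = 2) :
    Nat.card Ω ≡ Nat.card (MulAction.fixedBy Ω s) [MOD 2] := by
  haveI : Fact (Nat.Prime 2) := ⟨Nat.prime_two⟩
  have hP : IsPGroup 2 (Subgroup.zpowers s) := by
    apply IsPGroup.of_card (n := 1)
    rw [Nat.card_zpowers, hs, pow_one]
  have := hP.card_modEq_card_fixedPoints Ω
  rw [fixedPoints_zpowers_eq] at this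
  exact this

/-- A faithful action: a non-identity element moves some point. -/
theorem exists_smul_ne_of_ne_one [FaithfulSMul G Ω] {g : G} (hg : g ≠ 1) : ∃ x : Ω, g • x ≠ x := by
  by_contra hcon
  push Not at hcon
  apply hg
  apply FaithfulSMul.eq_of_smul_eq_smul (α := Ω)
  intro x
  rw [hcon x, one_smul]

/-- Conjugating an involution that moves `c` so that it swaps two given points. -/
theorem exists_involution_swap [Finite Ω] (h2 : IsMultiplyPretransitive G Ω 2) {u : G}
    (hu : orderOf u = 2) {c : Ω} (hc : u • c ≠ c) {a b : Ω} (hab : a ≠ b) :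
    ∃ s : G, orderOf s = 2 ∧ s • a = b ∧ s • b = a ∧
      Nat.card (MulAction.fixedBy Ω s) = Nat.card (MulAction.fixedBy Ω u) := by
  have hu2 : u * u = 1 := by
    have := pow_orderOf_eq_one u
    rwa [hu, pow_two] at this
  have hud : u • u • c = c := by rw [← mul_smul, hu2, one_smul]
  obtain ⟨g, hga, hgb⟩ := MulAction.is_two_pretransitive_iff.mp h2 (Ne.symm hc) hab
  refine ⟨g * u * g⁻¹, ?_, ?_, ?_, ?_⟩
  · haveI : Fact (Nat.Prime 2) := ⟨Nat.prime_two⟩
    apply orderOf_eq_prime
    · rw [conj_pow, pow_two, hu2, mul_one, mul_inv_cancel]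
    · intro h
      have h1 : u = 1 := by
        have := congrArg (fun x => g⁻¹ * x * g) h
        simpa [mul_assoc] using this
      rw [h1, one_smul] at hc
      exact hc rfl
  · have : g⁻¹ • a = c := by rw [inv_smul_eq_iff, hga]
    rw [mul_smul, mul_smul, this, hgb]
  · have : g⁻¹ • b = u • c := by rw [inv_smul_eq_iff, hgb]
    rw [mul_smul, mul_smul, this, hud, hga]
  · rw [← MulAction.smul_fixedBy, Nat.card_coe_set_eq, Nat.card_coe_set_eq, Set.ncard_smul_set]

end Cfsg.Agent.H16
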